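import Cfsg.Agent.Lib.Perm.LW.Semi

/-!
A `k`-transitive group, `k ≥ 4`, induces the alternating group on some `k + 1` points.
-/

set_option autoImplicit false
set_option linter.style.haveILetI false
set_option linter.unusedSectionVars false

namespace CfsgLib.LW

open Equiv

universe v

variable {α : Type v} [Fintype α] [DecidableEq α]

theorem eq_of_agree {G : Subgroup (Perm α)} {S : Finset α} (hd : fix G S = ⊥) {g h : Perm α}
    (hg : g ∈ G) (hh : h ∈ G) (e : ∀ x ∈ S, g x = h x) : g = h := by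
  have hm : h⁻¹ * g ∈ fix G S :=
    mem_fix.2 ⟨mul_mem (inv_mem hh) hg, fun x hx => by simp [e x hx]⟩
  rw [hd, Subgroup.mem_bot] at hm
  exact (inv_mul_eq_one.1 hm).symm

/-- Sharply `k`-transitive groups of degree `k + 7` carry a symmetric group on `k + 1` points. -/
theorem good_sharp {G : Subgroup (Perm α)} {k : ℕ} (hk : KT G k) (hs : Semi G k) (hk4 : 4 ≤ k)
    (hn : Fintype.card α = k + 7) (hd : ∀ S : Finset α, S.card = k → fix G S = ⊥) : Good G k := by
  classical
  have hexφ : ∀ (Γ : Finset α) (σ : Perm α), Γ.card = k → ∃ g, g ∈ G ∧ ∀ x ∈ Γ, g x = σ x :=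
    fun Γ σ h => hk Γ h.le σ
  let φ : Finset α → Perm α → Perm α := fun Γ σ =>
    if h : Γ.card = k then (hexφ Γ σ h).choose else 1
  have hφ : ∀ Γ σ, Γ.card = k → φ Γ σ ∈ G ∧ ∀ x ∈ Γ, φ Γ σ x = σ x := fun Γ σ h => by
    simp only [φ, dif_pos h]; exact (hexφ Γ σ h).choose_spec
  have huniq : ∀ Γ σ g, Γ.card = k → g ∈ G → (∀ x ∈ Γ, g x = σ x) → φ Γ σ = g := fun Γ σ g h hg e =>
    eq_of_agree (hd Γ h) (hφ Γ σ h).1 hg fun x hx => ((hφ Γ σ h).2 x hx).trans (e x hx).symm
  have hmul : ∀ Γ σ τ, Γ.card = k → (∀ x ∈ Γ, τ x ∈ Γ) → φ Γ (σ * τ) = φ Γ σ * φ Γ τ :=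
    fun Γ σ τ h hτ => huniq Γ _ _ h (mul_mem (hφ Γ σ h).1 (hφ Γ τ h).1) fun x hx => by
      rw [Perm.mul_apply, (hφ Γ τ h).2 x hx, (hφ Γ σ h).2 _ (hτ x hx), Perm.mul_apply]
  have hswap : ∀ (Γ : Finset α) a b, a ∈ Γ → b ∈ Γ → ∀ x ∈ Γ, Equiv.swap a b x ∈ Γ := by
    intro Γ a b ha hb x hx
    rw [Equiv.swap_apply_def]
    split_ifs <;> assumption
  -- the outside point fixed by a transposition
  have hX : ∀ Γ a b, Γ.card = k → a ∈ Γ → b ∈ Γ → a ≠ b →
      ∃! x, x ∉ Γ ∧ φ Γ (Equiv.swap a b) x = x := by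
    intro Γ a b hΓ ha hb hab
    set u := φ Γ (Equiv.swap a b)
    obtain ⟨huG, hux⟩ := hφ Γ (Equiv.swap a b) hΓ
    have hu2 : u * u = 1 := by
      rw [← hmul Γ _ _ hΓ (hswap Γ a b ha hb), Equiv.swap_mul_self]
      exact huniq Γ 1 1 hΓ (one_mem G) fun _ _ => rfl
    have hin : fx u ∩ Γ = (Γ.erase a).erase b := by
      ext x
      simp only [Finset.mem_inter, mem_fx, Finset.mem_erase]
      constructor
      · rintro ⟨h1, h2⟩
        rw [hux x h2] at h1
        refine ⟨fun e => ?_, fun e => ?_, h2⟩ <;> subst e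
        · rw [Equiv.swap_apply_right] at h1; exact hab h1
        · rw [Equiv.swap_apply_left] at h1; exact hab h1.symm
      · rintro ⟨h1, h2, h3⟩
        exact ⟨by rw [hux x h3, Equiv.swap_apply_of_ne_of_ne h2 h1], h3⟩
    have hinc : (fx u ∩ Γ).card = k - 2 := by
      rw [hin, Finset.card_erase_of_mem (Finset.mem_erase.2 ⟨hab.symm, hb⟩),
        Finset.card_erase_of_mem ha, hΓ]
      omega
    have hlt : (fx u).card < k := by
      by_contra h
      push Not at h
      obtain ⟨S, hS, hSc⟩ := Finset.exists_subset_card_eq h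
      have : u = 1 := eq_of_agree (hd S hSc) huG (one_mem G) fun x hx => mem_fx.1 (hS hx)
      have h1 := hux a ha
      rw [show φ Γ (Equiv.swap a b) = 1 from this, Equiv.swap_apply_left] at h1
      exact hab h1
    have hpar := fx_parity hu2
    have hadd := Finset.card_sdiff_add_card_inter (fx u) Γ
    obtain ⟨o, ho⟩ := Finset.card_eq_one.1 (show (fx u \ Γ).card = 1 by omega)
    refine ⟨o, ?_, fun y hy => ?_⟩
    · have := ho ▸ Finset.mem_singleton_self o
      rw [Finset.mem_sdiff, mem_fx] at this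
      exact ⟨this.2, this.1⟩
    · exact Finset.mem_singleton.1 (ho ▸ Finset.mem_sdiff.2 ⟨mem_fx.2 hy.2, hy.1⟩)
  have hcommon : ∀ Γ : Finset α, Γ.card = k →
      ∃ x, x ∉ Γ ∧ ∀ p q, p ∈ Γ → q ∈ Γ → p ≠ q → φ Γ (Equiv.swap p q) x = x := by
    intro Γ hΓ
    let X : α → α → α := fun a b =>
      if h : a ∈ Γ ∧ b ∈ Γ ∧ a ≠ b then (hX Γ a b hΓ h.1 h.2.1 h.2.2).choose else a
    have hXspec : ∀ a b, a ∈ Γ → b ∈ Γ → a ≠ b →
        X a b ∉ Γ ∧ φ Γ (Equiv.swap a b) (X a b) = X a b ∧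
          ∀ y, y ∉ Γ → φ Γ (Equiv.swap a b) y = y → y = X a b := by
      intro a b ha hb hab
      simp only [X, dif_pos (show a ∈ Γ ∧ b ∈ Γ ∧ a ≠ b from ⟨ha, hb, hab⟩)]
      have h := (hX Γ a b hΓ ha hb hab).choose_spec
      exact ⟨h.1.1, h.1.2, fun y h1 h2 => h.2 y ⟨h1, h2⟩⟩
    -- equivariance
    have hXconj : ∀ σ : Perm α, (∀ x ∈ Γ, σ x ∈ Γ) → ∀ a b, a ∈ Γ → b ∈ Γ → a ≠ b →
        φ Γ σ (X a b) = X (σ a) (σ b) := by
      intro σ hσ a b ha hb hab
      obtain ⟨h1, h2, -⟩ := hXspec a b ha hb hab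
      obtain ⟨-, -, h3⟩ := hXspec (σ a) (σ b) (hσ a ha) (hσ b hb) (σ.injective.ne hab)
      have hiff := preserves_of_maps hσ
      have hout : ∀ y, φ Γ σ y ∈ Γ ↔ y ∈ Γ := preserves_of_maps fun x hx => by
        rw [(hφ Γ σ hΓ).2 x hx]; exact hσ x hx
      refine h3 _ (fun h => h1 ((hout _).1 h)) ?_
      have e : φ Γ (Equiv.swap (σ a) (σ b)) * φ Γ σ = φ Γ σ * φ Γ (Equiv.swap a b) := by
        rw [← hmul Γ _ _ hΓ hσ, ← hmul Γ _ _ hΓ (hswap Γ a b ha hb)]
        congr 1
        rw [Equiv.swap_apply_apply]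
        group
      have := congrArg (fun g : Perm α => g (X a b)) e
      simpa [Perm.mul_apply, h2] using this
    have hXsymm : ∀ a b, a ∈ Γ → b ∈ Γ → a ≠ b → X b a = X a b := by
      intro a b ha hb hab
      obtain ⟨h1, h2, -⟩ := hXspec b a hb ha hab.symm
      exact (hXspec a b ha hb hab).2.2 _ h1 (by rw [Equiv.swap_comm]; exact h2)
    -- all transpositions share one point
    have hshare : ∀ a b c, a ∈ Γ → b ∈ Γ → c ∈ Γ → a ≠ b → a ≠ c → X a b = X a c := by
      intro a b c ha hb hc hab hac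
      by_cases hbc : b = c
      · rw [hbc]
      set t := Equiv.swap a b * Equiv.swap a c with ht
      have htΓ : ∀ z ∈ Γ, t z ∈ Γ := fun z hz => hswap Γ a b ha hb _ (hswap Γ a c ha hc z hz)
      have ht3 : ∀ z, t (t (t z)) = z := by
        intro z
        by_cases h1 : z = a
        · subst h1; simp [ht, Equiv.swap_apply_of_ne_of_ne, hab, hac, hbc, Ne.symm hab, Ne.symm hac,
            Ne.symm hbc]
        by_cases h2 : z = b
        · subst h2; simp [ht, Equiv.swap_apply_of_ne_of_ne, hab, hac, hbc, Ne.symm hab, Ne.symm hac,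
            Ne.symm hbc]
        by_cases h3 : z = c
        · subst h3; simp [ht, Equiv.swap_apply_of_ne_of_ne, hab, hac, hbc, Ne.symm hab, Ne.symm hac,
            Ne.symm hbc]
        simp [ht, Equiv.swap_apply_of_ne_of_ne, h1, h2, h3]
      obtain ⟨hgG, hgx⟩ := hφ Γ t hΓ
      set g := φ Γ t
      have hg3 : g ^ 3 = 1 := by
        refine eq_of_agree (hd Γ hΓ) (pow_mem hgG 3) (one_mem G) fun z hz => ?_
        rw [pow_succ, pow_succ, pow_one, Perm.mul_apply, Perm.mul_apply, hgx z hz, hgx _ (htΓ z hz),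
          hgx _ (htΓ _ (htΓ z hz)), ht3]
        rfl
      have hin : fx g ∩ Γ = ((Γ.erase a).erase b).erase c := by
        ext z
        simp only [Finset.mem_inter, mem_fx, Finset.mem_erase]
        constructor
        · rintro ⟨h1, h2⟩
          rw [hgx z h2] at h1
          refine ⟨fun e => ?_, fun e => ?_, fun e => ?_, h2⟩ <;> subst e <;>
            simp [ht, Equiv.swap_apply_of_ne_of_ne, hab, hac, hbc, Ne.symm hab, Ne.symm hac,
              Ne.symm hbc] at h1
        · rintro ⟨h1, h2, h3, h4⟩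
          exact ⟨by rw [hgx z h4]; simp [ht, Equiv.swap_apply_of_ne_of_ne, h1, h2, h3], h4⟩
      have hinc : (fx g ∩ Γ).card = k - 3 := by
        rw [hin, Finset.card_erase_of_mem (Finset.mem_erase.2 ⟨Ne.symm hbc,
            Finset.mem_erase.2 ⟨hac.symm, hc⟩⟩),
          Finset.card_erase_of_mem (Finset.mem_erase.2 ⟨hab.symm, hb⟩),
          Finset.card_erase_of_mem ha, hΓ]
        omega
      have hlt : (fx g).card < k := by
        by_contra h
        push Not at h
        obtain ⟨S, hS, hSc⟩ := Finset.exists_subset_card_eq h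
        have hg1 : g = 1 := eq_of_agree (hd S hSc) hgG (one_mem G) fun x hx => mem_fx.1 (hS hx)
        have h1 := hgx c hc
        rw [hg1] at h1
        simp [ht, Equiv.swap_apply_of_ne_of_ne, hac.symm, Ne.symm hbc] at h1
      haveI : Fact (Nat.Prime 3) := ⟨Nat.prime_three⟩
      have hmod : (fx g).card % 3 = Fintype.card α % 3 := by
        have h1 := Equiv.Perm.card_compl_support_modEq (p := 3) (n := 1) (σ := g) (by simpa using hg3)
        rw [show g.supportᶜ = fx g by ext x; simp [mem_fx]] at h1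
        exact h1
      have hadd := Finset.card_sdiff_add_card_inter (fx g) Γ
      obtain ⟨o, ho⟩ := Finset.card_eq_one.1 (show (fx g \ Γ).card = 1 by omega)
      have homem : o ∈ fx g \ Γ := ho ▸ Finset.mem_singleton_self o
      obtain ⟨hog, hoΓ⟩ := Finset.mem_sdiff.1 homem
      rw [mem_fx] at hog
      have key : ∀ q, q ∈ Γ → q ≠ a →
          (∀ z ∈ Γ, t (Equiv.swap a q (t z)) = Equiv.swap a q z) → o = X a q := by
        intro q hq hqa hinv
        obtain ⟨huG, hux⟩ := hφ Γ (Equiv.swap a q) hΓ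
        set u := φ Γ (Equiv.swap a q)
        have hσ := hswap Γ a q ha hq
        have e : g * u * g = u := eq_of_agree (hd Γ hΓ) (mul_mem (mul_mem hgG huG) hgG) huG
          fun z hz => by
            rw [Perm.mul_apply, Perm.mul_apply, hgx z hz, hux _ (htΓ z hz), hgx _ (hσ _ (htΓ z hz)),
              hinv z hz, hux z hz]
        have h1 : g (u o) = u o := by
          have := congrArg (fun f : Perm α => f o) e
          simpa [Perm.mul_apply, hog] using this
        have h2 : u o ∉ Γ := fun h => hoΓ ((preserves_of_maps (F := Γ) (g := u)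
          (fun z hz => by rw [hux z hz]; exact hσ z hz) o).1 h)
        have h3 : u o = o := by
          have hm : u o ∈ fx g \ Γ := Finset.mem_sdiff.2 ⟨mem_fx.2 h1, h2⟩
          rwa [ho, Finset.mem_singleton] at hm
        exact (hXspec a q ha hq hqa.symm).2.2 o hoΓ h3
      rw [← key b hb hab.symm, ← key c hc hac.symm]
      · intro z hz
        simp only [ht, Perm.mul_apply]
        by_cases h1 : z = a
        · subst h1; simp [Equiv.swap_apply_of_ne_of_ne, hab, hac, hbc, Ne.symm hab, Ne.symm hac,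
            Ne.symm hbc]
        by_cases h2 : z = b
        · subst h2; simp [Equiv.swap_apply_of_ne_of_ne, hab, hac, hbc, Ne.symm hab, Ne.symm hac,
            Ne.symm hbc]
        by_cases h3 : z = c
        · subst h3; simp [Equiv.swap_apply_of_ne_of_ne, hab, hac, hbc, Ne.symm hab, Ne.symm hac,
            Ne.symm hbc]
        simp [Equiv.swap_apply_of_ne_of_ne, h1, h2, h3]
      · intro z hz
        simp only [ht, Perm.mul_apply]
        by_cases h1 : z = a
        · subst h1; simp [Equiv.swap_apply_of_ne_of_ne, hab, hac, hbc, Ne.symm hab, Ne.symm hac,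
            Ne.symm hbc]
        by_cases h2 : z = b
        · subst h2; simp [Equiv.swap_apply_of_ne_of_ne, hab, hac, hbc, Ne.symm hab, Ne.symm hac,
            Ne.symm hbc]
        by_cases h3 : z = c
        · subst h3; simp [Equiv.swap_apply_of_ne_of_ne, hab, hac, hbc, Ne.symm hab, Ne.symm hac,
            Ne.symm hbc]
        simp [Equiv.swap_apply_of_ne_of_ne, h1, h2, h3]
    obtain ⟨a₀, ha₀⟩ := Finset.card_pos.1 (show 0 < Γ.card by omega)
    obtain ⟨b₀, hb₀⟩ := Finset.card_pos.1 (show 0 < (Γ.erase a₀).card by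
      rw [Finset.card_erase_of_mem ha₀]; omega)
    obtain ⟨hba₀, hb₀⟩ := Finset.mem_erase.1 hb₀
    set x := X a₀ b₀
    have hall : ∀ p q, p ∈ Γ → q ∈ Γ → p ≠ q → X p q = x := by
      intro p q hp hq hpq
      by_cases hp0 : p = a₀
      · rw [hp0]; exact hshare a₀ q b₀ ha₀ hq hb₀ (hp0 ▸ hpq) hba₀.symm
      rw [hshare p q a₀ hp hq ha₀ hpq hp0, hXsymm a₀ p ha₀ hp (Ne.symm hp0),
        hshare a₀ p b₀ ha₀ hp hb₀ (Ne.symm hp0) hba₀.symm]
    exact ⟨x, (hXspec a₀ b₀ ha₀ hb₀ hba₀.symm).1, fun p q hp hq hpq => by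
      rw [← hall p q hp hq hpq]; exact (hXspec p q hp hq hpq).2.1⟩
  obtain ⟨Γ, -, hΓ⟩ := Finset.exists_subset_card_eq (s := (Finset.univ : Finset α)) (n := k)
    (by rw [Finset.card_univ]; omega)
  obtain ⟨x, hxΓ, hxfix⟩ := hcommon Γ hΓ
  set Δ := insert x Γ with hΔ
  have hΔc : Δ.card = k + 1 := by rw [hΔ, Finset.card_insert_of_notMem hxΓ, hΓ]
  have hec : ∀ a ∈ Δ, (Δ.erase a).card = k := fun a ha => by
    rw [Finset.card_erase_of_mem ha, hΔc]; omega
  -- every transposition of `Δ` away from `a` fixes `a`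
  have hP : ∀ a ∈ Δ, ∀ p q, p ∈ Δ.erase a → q ∈ Δ.erase a → p ≠ q →
      φ (Δ.erase a) (Equiv.swap p q) a = a := by
    intro a ha p q hp hq hpq
    rcases Finset.mem_insert.1 ha with rfl | haΓ
    · rw [hΔ, Finset.erase_insert hxΓ] at hp hq ⊢
      exact hxfix p q hp hq hpq
    obtain ⟨x', hx', hx'fix⟩ := hcommon (Δ.erase a) (hec a ha)
    obtain ⟨b, hb⟩ := Finset.card_pos.1 (show 0 < (Γ.erase a).card by
      rw [Finset.card_erase_of_mem haΓ]; omega)
    obtain ⟨c, hc⟩ := Finset.card_pos.1 (show 0 < ((Γ.erase a).erase b).card by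
      rw [Finset.card_erase_of_mem hb, Finset.card_erase_of_mem haΓ]; omega)
    simp only [Finset.mem_erase] at hb hc
    obtain ⟨hba, hbΓ⟩ := hb
    obtain ⟨hcb, hca, hcΓ⟩ := hc
    have hbΔ : b ∈ Δ.erase a := Finset.mem_erase.2 ⟨hba, Finset.mem_insert_of_mem hbΓ⟩
    have hcΔ : c ∈ Δ.erase a := Finset.mem_erase.2 ⟨hca, Finset.mem_insert_of_mem hcΓ⟩
    have he : φ (Δ.erase a) (Equiv.swap b c) = φ Γ (Equiv.swap b c) := by
      refine huniq _ _ _ (hec a ha) (hφ Γ _ hΓ).1 fun y hy => ?_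
      rcases Finset.mem_insert.1 (Finset.mem_erase.1 hy).2 with rfl | hy
      · rw [hxfix b c hbΓ hcΓ hcb.symm, Equiv.swap_apply_of_ne_of_ne
          (fun e => hxΓ (by rw [e]; exact hbΓ)) (fun e => hxΓ (by rw [e]; exact hcΓ))]
      · exact (hφ Γ _ hΓ).2 y hy
    have ha' : φ (Δ.erase a) (Equiv.swap b c) a = a := by
      rw [he, (hφ Γ _ hΓ).2 a haΓ, Equiv.swap_apply_of_ne_of_ne hba.symm hca.symm]
    obtain ⟨w, -, hw⟩ := hX _ b c (hec a ha) hbΔ hcΔ hcb.symm
    have h1 : a = x' := (hw a ⟨Finset.notMem_erase a Δ, ha'⟩).trans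
      (hw x' ⟨hx', hx'fix b c hbΔ hcΔ hcb.symm⟩).symm
    subst h1
    exact hx'fix p q hp hq hpq
  refine ⟨Δ, hΔc, altOn_of_restr ?_⟩
  suffices htop : restr G Δ = ⊤ by rw [htop]; exact le_top
  rw [eq_top_iff, ← Equiv.Perm.closure_isSwap, Subgroup.closure_le]
  rintro σ ⟨⟨p, hp⟩, ⟨q, hq⟩, hpq, rfl⟩
  have hpq' : p ≠ q := fun e => hpq (Subtype.ext e)
  obtain ⟨a, ha⟩ := Finset.card_pos.1 (show 0 < ((Δ.erase p).erase q).card by
    rw [Finset.card_erase_of_mem (Finset.mem_erase.2 ⟨hpq'.symm, hq⟩),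
      Finset.card_erase_of_mem hp, hΔc]
    omega)
  simp only [Finset.mem_erase] at ha
  obtain ⟨haq, hap, haΔ⟩ := ha
  have hp' : p ∈ Δ.erase a := Finset.mem_erase.2 ⟨hap.symm, hp⟩
  have hq' : q ∈ Δ.erase a := Finset.mem_erase.2 ⟨haq.symm, hq⟩
  refine ⟨φ (Δ.erase a) (Equiv.swap p q), (hφ _ _ (hec a haΔ)).1, fun z => ?_⟩
  have hval : (((Equiv.swap (⟨p, hp⟩ : Δ) ⟨q, hq⟩) z : Δ) : α) = Equiv.swap p q (z : α) :=
    (Subtype.val_injective.swap_apply _ _ z).symm
  rw [hval]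
  by_cases hz : (z : α) = a
  · rw [hz, hP a haΔ p q hp' hq' hpq', Equiv.swap_apply_of_ne_of_ne hap haq]
  · exact (hφ _ _ (hec a haΔ)).2 z (Finset.mem_erase.2 ⟨hz, z.2⟩)

/-- The exceptional case with a small odd stabilizer. -/
theorem structure_general {G : Subgroup (Perm α)} {k : ℕ} (hk : KT G k) (hs : Semi G k)
    (hk4 : 4 ≤ k) (hkn : k + 2 ≤ Fintype.card α) {Γ : Finset α} (hΓ : Γ.card = k)
    (hodd : Odd (Nat.card (fix G Γ)))
    (hbig : 2 * Nat.card (fix G Γ) < Fintype.card α - k) :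
    Fintype.card α = k + 7 ∧ Nat.card (fix G Γ) = 1 := by
  classical
  obtain ⟨C, hCΓ, hC⟩ := Finset.exists_subset_card_eq (show k - 4 ≤ Γ.card by omega)
  set F := Cᶜ with hF
  have hFc : Fintype.card F = Fintype.card α - (k - 4) := by
    rw [Fintype.card_coe, hF, Finset.card_compl, hC]
  set G' := restr (fix G C) F with hG'
  have hpres : ∀ g ∈ fix G C, ∀ z, g z ∈ F ↔ z ∈ F := by
    intro g hg z
    have := preserves_of_maps (F := C) (g := g) (fun y hy => by rwa [(mem_fix.1 hg).2 y hy]) z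
    rw [hF, Finset.mem_compl, Finset.mem_compl, this]
  have hkt : KT G' 4 := by
    intro T hT σ
    obtain ⟨g, hg, hgx⟩ := hk (C ∪ T.map (Function.Embedding.subtype _))
      ((Finset.card_union_le _ _).trans (by rw [Finset.card_map]; omega)) (Perm.ofSubtype σ)
    have hgC : g ∈ fix G C := mem_fix.2 ⟨hg, fun z hz => by
      rw [hgx z (Finset.mem_union_left _ hz),
        Perm.ofSubtype_apply_of_not_mem σ (by rw [hF, Finset.mem_compl, not_not]; exact hz)]⟩
    refine ⟨g.subtypePerm (hpres g hgC), ⟨g, hgC, fun _ => rfl⟩, fun z hz => Subtype.ext ?_⟩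
    exact (hgx _ (Finset.mem_union_right _ (Finset.mem_map_of_mem _ hz))).trans
      (Perm.ofSubtype_apply_coe σ z)
  have hsemi : Semi G' 4 := by
    rintro h ⟨g, hg, hgh⟩ hfx
    obtain ⟨hgG, hgC⟩ := mem_fix.1 hg
    have hg1 : g = 1 := by
      refine hs g hgG (le_trans ?_ (Finset.card_le_card
        (s := C ∪ (fx h).map (Function.Embedding.subtype _)) ?_))
      · rw [Finset.card_union_of_disjoint, Finset.card_map, hC]
        · omega
        · rw [Finset.disjoint_right]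
          intro z hz
          obtain ⟨w, -, rfl⟩ := Finset.mem_map.1 hz
          exact Finset.mem_compl.1 w.2
      · intro z hz
        rcases Finset.mem_union.1 hz with hz | hz
        · exact mem_fx.2 (hgC z hz)
        · obtain ⟨w, hw, rfl⟩ := Finset.mem_map.1 hz
          exact mem_fx.2 ((hgh w).trans (congrArg Subtype.val (mem_fx.1 hw)))
    refine Equiv.ext fun z => Subtype.ext ?_
    rw [← hgh z, hg1]
    rfl
  have hQc : (Γ \ C).card = 4 := by rw [Finset.card_sdiff_of_subset hCΓ, hΓ, hC]; omega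
  let e := ((Γ \ C).equivFinOfCardEq hQc).symm
  let x : Fin 4 ↪ F := ⟨fun i => ⟨e i, Finset.mem_compl.2 (Finset.mem_sdiff.1 (e i).2).2⟩,
    fun i j h => e.injective (Subtype.ext (congrArg Subtype.val h :))⟩
  have hsplit : ∀ z ∈ Γ, z ∈ C ∨ ∃ i, (x i : α) = z := by
    intro z hz
    by_cases hzC : z ∈ C
    · exact Or.inl hzC
    · exact Or.inr ⟨e.symm ⟨z, Finset.mem_sdiff.2 ⟨hz, hzC⟩⟩,
        (congrArg Subtype.val (e.apply_symm_apply _) : _)⟩
  have hcard : Nat.card (fix G' (quad x)) = Nat.card (fix G Γ) := by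
    have hmemC : ∀ l ∈ fix G Γ, l ∈ fix G C := fun l hl => fix_mono hCΓ hl
    let f : fix G Γ → fix G' (quad x) := fun l =>
      ⟨(l : Perm α).subtypePerm (hpres _ (hmemC _ l.2)), mem_fix.2
        ⟨⟨l, hmemC _ l.2, fun _ => rfl⟩, fun w hw => by
          obtain ⟨i, rfl⟩ := mem_quad.1 hw
          exact Subtype.ext ((mem_fix.1 l.2).2 _ (Finset.mem_sdiff.1 (e i).2).1)⟩⟩
    refine (Nat.card_congr (Equiv.ofBijective f ⟨fun l l' h => ?_, fun h => ?_⟩)).symm
    · refine Subtype.ext (Equiv.ext fun z => ?_)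
      by_cases hz : z ∈ C
      · rw [(mem_fix.1 (hmemC _ l.2)).2 z hz, (mem_fix.1 (hmemC _ l'.2)).2 z hz]
      · exact congrArg Subtype.val (DFunLike.congr_fun (congrArg Subtype.val h :)
          (⟨z, Finset.mem_compl.2 hz⟩ : F))
    · obtain ⟨⟨g, hg, hgh⟩, hfix⟩ := mem_fix.1 h.2
      refine ⟨⟨g, mem_fix.2 ⟨(mem_fix.1 hg).1, fun z hz => ?_⟩⟩,
        Subtype.ext (Equiv.ext fun w => Subtype.ext (hgh w))⟩
      rcases hsplit z hz with hz | ⟨i, rfl⟩
      · exact (mem_fix.1 hg).2 z hz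
      · exact (hgh (x i)).trans (congrArg Subtype.val (hfix _ (mem_quad.2 ⟨i, rfl⟩)))
  obtain ⟨h1, h2⟩ := structure_four hkt hsemi (by rw [hFc]; omega) x (by rwa [hcard])
    (by rw [hcard, hFc]; omega)
  rw [hcard] at h2
  exact ⟨by rw [hFc] at h1; omega, h2⟩

theorem good_of_semi {G : Subgroup (Perm α)} {k : ℕ} (hk : KT G k) (hs : Semi G k) (hk4 : 4 ≤ k)
    (hkn : k < Fintype.card α) : Good G k := by
  obtain ⟨Γ, -, hΓ⟩ := Finset.exists_subset_card_eq (s := (Finset.univ : Finset α)) (n := k)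
    (by rw [Finset.card_univ]; omega)
  by_cases h : Fintype.card α - k ≤ 2 * Nat.card (fix G Γ)
  · exact good_of_half hk hs hkn hΓ h
  have hkn2 : k + 2 ≤ Fintype.card α := by
    have : 0 < Nat.card (fix G Γ) := Nat.card_pos
    omega
  rcases Nat.even_or_odd (Nat.card (fix G Γ)) with he | ho
  · exact absurd (half_of_even hk hs (by omega) (by omega) hΓ he) h
  obtain ⟨hn, hd⟩ := structure_general hk hs hk4 hkn2 hΓ ho (by omega)
  refine good_sharp hk hs hk4 hn fun S hS => Subgroup.card_eq_one.1 ?_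
  rw [card_fix_eq hk hS.le (hS.trans hΓ.symm), hd]

theorem card_fxS_lt {R : Subgroup (Perm α)} {h : Perm α} (hh : h ∈ R) (h1 : h ≠ 1) :
    (fxS R).card < Fintype.card α := by
  rw [← Finset.card_univ]
  refine Finset.card_lt_card ((Finset.subset_univ _).ssubset_of_ne fun e => h1 (Equiv.ext fun x => ?_))
  exact mem_fxS.1 (e ▸ Finset.mem_univ x) h hh

theorem good_of_kt_aux : ∀ n : ℕ, ∀ {β : Type v} [Fintype β] [DecidableEq β]
    (G : Subgroup (Perm β)) {k : ℕ}, Fintype.card β = n → KT G k → 4 ≤ k → k < Fintype.card β →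
    Good G k := by
  intro n
  induction n using Nat.strong_induction_on with
  | _ n ih =>
  intro β _ _ G k hn hk hk4 hkn
  by_cases hs : Semi G k
  · exact good_of_semi hk hs hk4 hkn
  simp only [Semi, not_forall] at hs
  obtain ⟨g, hg, hgf, hg1⟩ := hs
  obtain ⟨p, hp, hpd⟩ := Nat.exists_prime_and_dvd (fun e => hg1 (orderOf_eq_one_iff.1 e))
  set h := g ^ (orderOf g / p)
  have ho : orderOf h = p := orderOf_pow_orderOf_div (orderOf_pos g).ne' hpd
  obtain ⟨R, hRG, hRp, hhR, hRf, hmax⟩ := exists_max (k := k) hp (pow_mem hg _ : h ∈ G) ho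
    (hgf.trans (Finset.card_le_card (fx_subset_fx_pow g _)))
  have hk' := descent hk (by omega) hp hRG hRp hRf hmax
  have hlt := card_fxS_lt hhR (fun e => hp.ne_one (ho.symm.trans (orderOf_eq_one_iff.2 e)))
  obtain ⟨Δ, hΔc, hΔ⟩ := ih _ (hn ▸ hlt) (restr G (fxS R)) (Fintype.card_coe _) hk' hk4
    (by rw [Fintype.card_coe]; omega)
  refine ⟨Δ.map (Function.Embedding.subtype _), by rw [Finset.card_map, hΔc], fun σ hσ hsign => ?_⟩
  have hsub : ∀ z, σ z ≠ z → z ∈ fxS R := fun z hz => by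
    obtain ⟨w, -, rfl⟩ := Finset.mem_map.1 (hσ (Perm.mem_support.2 hz))
    exact w.2
  have hiff : ∀ z, σ z ∈ fxS R ↔ z ∈ fxS R := by
    intro z
    by_cases hz : σ z = z
    · rw [hz]
    · exact iff_of_true (hsub _ fun e => hz (σ.injective e)) (hsub z hz)
  obtain ⟨h', ⟨g', hg', hgh'⟩, hagree⟩ := hΔ (σ.subtypePerm hiff) (fun z hz => by
      have hne : σ (z : β) ≠ z := fun e => Perm.mem_support.1 hz (Subtype.ext e)
      obtain ⟨w, hw, hwz⟩ := Finset.mem_map.1 (hσ (Perm.mem_support.2 hne))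
      rwa [← (Subtype.ext hwz : w = z)])
    (by convert (Perm.sign_subtypePerm σ hiff hsub).trans hsign)
  refine ⟨g', hg', fun z hz => ?_⟩
  obtain ⟨w, hw, rfl⟩ := Finset.mem_map.1 hz
  exact (hgh' w).trans (congrArg Subtype.val (hagree w hw))

/-- A `k`-transitive group, `4 ≤ k`, induces the alternating group on some `k + 1` points. -/
theorem good_of_kt {G : Subgroup (Perm α)} {k : ℕ} (hk : KT G k) (hk4 : 4 ≤ k)
    (hkn : k < Fintype.card α) : Good G k :=
  good_of_kt_aux _ G rfl hk hk4 hkn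

end CfsgLib.LW
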