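import Mathlib
import Cfsg.Agent.S0743

/-!
Tools for the theorem of Livingstone and Wagner on set-transitive groups.
-/

set_option autoImplicit false
set_option linter.style.haveILetI false

namespace CfsgLib.LW

open Equiv

section

variable {α : Type*} [Fintype α] [DecidableEq α]

/-- `G` realises every permutation on every set of at most `k` points -/
def KT (G : Subgroup (Perm α)) (k : ℕ) : Prop :=
  ∀ T : Finset α, T.card ≤ k → ∀ σ : Perm α, ∃ g ∈ G, ∀ x ∈ T, g x = σ x

/-- only even permutations are induced on `k`-sets -/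
def EvenSets (G : Subgroup (Perm α)) (k : ℕ) : Prop :=
  ∀ g ∈ G, ∀ T : Finset α, T.card = k → ∀ σ : Perm α, σ.support ⊆ T → (∀ x ∈ T, g x = σ x) →
    Perm.sign σ = 1

/-- all even permutations of `T` are induced -/
def AltOn (G : Subgroup (Perm α)) (T : Finset α) : Prop :=
  ∀ σ : Perm α, σ.support ⊆ T → Perm.sign σ = 1 → ∃ g ∈ G, ∀ x ∈ T, g x = σ x

/-- pointwise stabilizer -/
def fix (G : Subgroup (Perm α)) (T : Finset α) : Subgroup (Perm α) :=
  G ⊓ fixingSubgroup (Perm α) (T : Set α)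

/-- fixed points of an element -/
def fx (g : Perm α) : Finset α := Finset.univ.filter fun x => g x = x

open scoped Classical in
/-- common fixed points of a subgroup -/
noncomputable def fxS (R : Subgroup (Perm α)) : Finset α := Finset.univ.filter fun x => ∀ g ∈ R, g x = x

/-- the group induced on a subset by its setwise stabilizer -/
def restr (G : Subgroup (Perm α)) (F : Finset α) : Subgroup (Perm F) where
  carrier := {h | ∃ g ∈ G, ∀ x : F, g x = h x}
  one_mem' := ⟨1, one_mem G, fun _ => rfl⟩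
  mul_mem' := by
    rintro a b ⟨g, hg, hga⟩ ⟨g', hg', hgb⟩
    exact ⟨g * g', mul_mem hg hg', fun x => by
      rw [Perm.mul_apply, hgb, hga, Perm.mul_apply]⟩
  inv_mem' := by
    rintro a ⟨g, hg, hga⟩
    exact ⟨g⁻¹, inv_mem hg, fun x => by
      rw [Perm.inv_eq_iff_eq, hga]; simp⟩

theorem mem_fix {G : Subgroup (Perm α)} {T : Finset α} {g : Perm α} :
    g ∈ fix G T ↔ g ∈ G ∧ ∀ x ∈ T, g x = x := by
  simp [fix, Subgroup.mem_inf, mem_fixingSubgroup_iff, Perm.smul_def]

theorem mem_fx {g : Perm α} {x : α} : x ∈ fx g ↔ g x = x := by simp [fx]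

theorem mem_fxS {R : Subgroup (Perm α)} {x : α} : x ∈ fxS R ↔ ∀ g ∈ R, g x = x := by simp [fxS]

theorem exists_perm_pair {ι : Type*} [Finite ι] (x y : ι ↪ α) :
    ∃ σ : Perm α, ∀ i, σ (x i) = y i :=
  Perm.exists_extending_pair x y x.injective y.injective

theorem kt_of_isMultiplyPretransitive {G : Subgroup (Perm α)} {k : ℕ} (hkn : k ≤ Fintype.card α)
    (h : MulAction.IsMultiplyPretransitive G α k) : KT G k := by
  intro T hT σ
  obtain ⟨T', hTT', -, hT'⟩ := Finset.exists_subsuperset_card_eq (Finset.subset_univ T) hT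
    (by rwa [Finset.card_univ])
  let e := (T'.equivFinOfCardEq hT').symm
  let x : Fin k ↪ α := e.toEmbedding.trans (Function.Embedding.subtype _)
  obtain ⟨g, hg⟩ := h.exists_smul_eq x (x.trans σ.toEmbedding)
  refine ⟨g, g.2, fun a ha => ?_⟩
  obtain ⟨i, hi⟩ := e.surjective ⟨a, hTT' ha⟩
  have h1 := DFunLike.congr_fun hg i
  have hx : x i = a := congrArg Subtype.val hi
  simpa [Function.Embedding.smul_apply, Subgroup.smul_def, hx] using h1

theorem isMultiplyPretransitive_of_kt {G : Subgroup (Perm α)} {k : ℕ} (h : KT G k) :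
    MulAction.IsMultiplyPretransitive G α k := by
  rw [MulAction.isMultiplyPretransitive_iff]
  intro x y
  obtain ⟨σ, hσ⟩ := exists_perm_pair x y
  obtain ⟨g, hg, hgx⟩ := h (Finset.univ.map x) (by simp) σ
  refine ⟨⟨g, hg⟩, Function.Embedding.ext fun i => ?_⟩
  rw [Function.Embedding.smul_apply, ← hσ, ← hgx (x i) (by simp)]
  rfl

theorem exists_image_eq {S S' : Finset α} (h : S.card = S'.card) : ∃ σ : Perm α, S.image σ = S' := by
  let e : {x // x ∈ S} ≃ {x // x ∈ S'} := Fintype.equivOfCardEq (by simpa using h)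
  refine ⟨e.extendSubtype, Finset.eq_of_subset_of_card_le ?_ ?_⟩
  · intro y hy
    obtain ⟨x, hx, rfl⟩ := Finset.mem_image.1 hy
    exact e.extendSubtype_mem x hx
  · rw [Finset.card_image_of_injective _ (Equiv.injective _), h]

theorem exists_mem_image_eq {G : Subgroup (Perm α)} {k : ℕ} (hk : KT G k) {S S' : Finset α}
    (hS : S.card ≤ k) (h : S.card = S'.card) : ∃ g ∈ G, S.image g = S' := by
  obtain ⟨σ, rfl⟩ := exists_image_eq h
  obtain ⟨g, hg, hgx⟩ := hk S hS σ
  exact ⟨g, hg, Finset.image_congr hgx⟩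

theorem conj_mem_fix {G : Subgroup (Perm α)} {S : Finset α} {g l : Perm α} (hg : g ∈ G)
    (hl : l ∈ fix G S) : g * l * g⁻¹ ∈ fix G (S.image g) := by
  obtain ⟨h1, h2⟩ := mem_fix.1 hl
  refine mem_fix.2 ⟨mul_mem (mul_mem hg h1) (inv_mem hg), fun y hy => ?_⟩
  obtain ⟨x, hx, rfl⟩ := Finset.mem_image.1 hy
  simp [h2 x hx]

theorem map_conj_fix {G : Subgroup (Perm α)} {S : Finset α} {g : Perm α} (hg : g ∈ G) :
    (fix G S).map (MulAut.conj g).toMonoidHom = fix G (S.image g) := by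
  apply le_antisymm
  · rintro _ ⟨l, hl, rfl⟩
    exact conj_mem_fix hg hl
  · intro l hl
    refine ⟨g⁻¹ * l * g, ?_, by simp [mul_assoc]⟩
    have := conj_mem_fix (inv_mem hg) hl
    rw [Finset.image_image, inv_inv] at this
    have e : ((g⁻¹ : Perm α) : α → α) ∘ g = id := funext fun x => by simp
    rwa [e, Finset.image_id] at this

theorem card_fix_image {G : Subgroup (Perm α)} {S : Finset α} {g : Perm α} (hg : g ∈ G) :
    Nat.card (fix G (S.image g)) = Nat.card (fix G S) := by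
  rw [← map_conj_fix hg]
  exact (Nat.card_congr
    (Subgroup.equivMapOfInjective _ _ (MulAut.conj g).injective).toEquiv).symm

theorem card_fix_eq {G : Subgroup (Perm α)} {k : ℕ} (hk : KT G k) {S S' : Finset α}
    (hS : S.card ≤ k) (h : S.card = S'.card) : Nat.card (fix G S) = Nat.card (fix G S') := by
  obtain ⟨g, hg, rfl⟩ := exists_mem_image_eq hk hS h
  exact (card_fix_image hg).symm

theorem fix_mono {G : Subgroup (Perm α)} {S S' : Finset α} (h : S ⊆ S') : fix G S' ≤ fix G S :=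
  fun g hg => mem_fix.2 ⟨(mem_fix.1 hg).1, fun x hx => (mem_fix.1 hg).2 x (h hx)⟩

theorem pow_apply_fixed {g : Perm α} {x : α} (h : g x = x) (n : ℕ) : (g ^ n) x = x := by
  induction n with
  | zero => rfl
  | succ n ih => rw [pow_succ, Perm.mul_apply, h, ih]

theorem fx_subset_fx_pow (g : Perm α) (n : ℕ) : fx g ⊆ fx (g ^ n) :=
  fun _ hx => mem_fx.2 (pow_apply_fixed (mem_fx.1 hx) n)

theorem odd_pow_apply {g : Perm α} {x : α} (h : g (g x) = x) {o : ℕ} (ho : Odd o) :
    (g ^ o) x = g x := by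
  obtain ⟨j, rfl⟩ := ho
  have h2 : ((g * g) ^ j) x = x := pow_apply_fixed (by simpa using h) j
  rw [pow_succ', pow_mul, sq, Perm.mul_apply, h2]

/-! ### Involutions and groups of odd order -/

theorem exists_conj_involution {Γ : Type*} [Group Γ] {u v : Γ} (hu : u * u = 1) (hv : v * v = 1)
    (ho : Odd (orderOf (v * u))) : ∃ z ∈ Subgroup.zpowers (v * u), z * u * z⁻¹ = v := by
  obtain ⟨j, hj⟩ := ho
  set r := v * u with hr
  have hu' : u⁻¹ = u := inv_eq_of_mul_eq_one_right hu
  have hv' : v⁻¹ = v := inv_eq_of_mul_eq_one_right hv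
  have h1 : u * r * u⁻¹ = r⁻¹ := by
    rw [hr, _root_.mul_inv_rev, hu', hv', mul_assoc, mul_assoc, hu, mul_one]
  refine ⟨r ^ (j + 1), pow_mem (Subgroup.mem_zpowers r) _, ?_⟩
  have h2 : u * r ^ (j + 1) * u⁻¹ = (r ^ (j + 1))⁻¹ := by
    rw [← conj_pow, h1, inv_pow]
  calc r ^ (j + 1) * u * (r ^ (j + 1))⁻¹
      = r ^ (j + 1) * u * (u * r ^ (j + 1) * u⁻¹) := by rw [h2]
    _ = r ^ (j + 1) * (u * u) * r ^ (j + 1) * u⁻¹ := by group
    _ = r ^ (2 * j + 1) * r * u⁻¹ := by
      rw [hu, mul_one, ← pow_add, ← pow_succ, show j + 1 + (j + 1) = 2 * j + 1 + 1 by ring]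
    _ = v := by rw [← hj, pow_orderOf_eq_one, one_mul, hr, mul_inv_cancel_right]

theorem inverts_of_cent_trivial {Γ : Type*} [Group Γ] [Finite Γ] (L : Subgroup Γ) {t : Γ}
    (ht : t * t = 1) (hn : ∀ l ∈ L, t * l * t ∈ L) (hc : ∀ l ∈ L, t * l * t = l → l = 1) :
    ∀ l ∈ L, t * l * t = l⁻¹ := by
  intro l hl
  let f : L → L := fun a => ⟨(a : Γ)⁻¹ * (t * a * t), mul_mem (inv_mem a.2) (hn _ a.2)⟩
  have hf : Function.Injective f := by
    intro a b hab
    have hab' : (a : Γ)⁻¹ * (t * a * t) = (b : Γ)⁻¹ * (t * b * t) := congrArg Subtype.val hab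
    have h1 : t * ((b : Γ) * (a : Γ)⁻¹) * t = b * (a : Γ)⁻¹ := by
      calc t * ((b : Γ) * (a : Γ)⁻¹) * t
          = t * (b : Γ) * t * (t * t) * (t * t) * (t * (a : Γ)⁻¹ * t) := by
            simp [ht, mul_assoc, ← mul_assoc t t]
        _ = (b : Γ) * ((b : Γ)⁻¹ * (t * b * t)) * (t * (a : Γ)⁻¹ * t) := by simp [ht, mul_assoc]
        _ = (b : Γ) * ((a : Γ)⁻¹ * (t * a * t)) * (t * (a : Γ)⁻¹ * t) := by rw [hab']
        _ = b * (a : Γ)⁻¹ := by simp [ht, mul_assoc, ← mul_assoc t t]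
    exact Subtype.ext (mul_inv_eq_one.1 (hc _ (mul_mem b.2 (inv_mem a.2)) h1)).symm
  obtain ⟨a, ha⟩ := (Finite.injective_iff_surjective.1 hf) ⟨l, hl⟩
  have ha' : (a : Γ)⁻¹ * (t * a * t) = l := congrArg Subtype.val ha
  have ht' : t⁻¹ = t := inv_eq_of_mul_eq_one_right ht
  rw [← ha', _root_.mul_inv_rev, _root_.mul_inv_rev, _root_.mul_inv_rev, inv_inv, ht']
  simp [mul_assoc, ht, ← mul_assoc t t]

theorem exists_involution_lift {G : Subgroup (Perm α)} {T : Finset α}
    (hodd : Odd (Nat.card (fix G T))) {g : Perm α} (hg : g ∈ G) (h2 : ∀ x ∈ T, g (g x) = x) :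
    ∃ s ∈ G, s * s = 1 ∧ ∀ x ∈ T, s x = g x := by
  have hgg : g * g ∈ fix G T := mem_fix.2 ⟨mul_mem hg hg, h2⟩
  refine ⟨g ^ Nat.card (fix G T), pow_mem hg _, ?_, fun x hx => odd_pow_apply (h2 x hx) hodd⟩
  rw [← (Commute.refl g).mul_pow]
  exact (Subgroup.coe_pow (fix G T) ⟨g * g, hgg⟩ _).symm.trans
    (congrArg Subtype.val (pow_card_eq_one' (x := (⟨g * g, hgg⟩ : fix G T))))

/-- Two involutions with the same action on `T` are conjugate under the pointwise stabilizer. -/
theorem conj_of_agree {G : Subgroup (Perm α)} {T : Finset α} (hodd : Odd (Nat.card (fix G T)))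
    {u v : Perm α} (hu : u ∈ G) (hv : v ∈ G) (hu2 : u * u = 1) (hv2 : v * v = 1)
    (hTu : ∀ x ∈ T, u x ∈ T) (hag : ∀ x ∈ T, v x = u x) :
    ∃ z ∈ fix G T, z * u * z⁻¹ = v := by
  have hm : v * u ∈ fix G T := mem_fix.2 ⟨mul_mem hv hu, fun x hx => by
    rw [Perm.mul_apply, hag _ (hTu x hx), ← Perm.mul_apply, hu2]; rfl⟩
  obtain ⟨z, hz, hzu⟩ := exists_conj_involution hu2 hv2
    (hodd.of_dvd_nat (Subgroup.orderOf_dvd_natCard _ hm))
  exact ⟨z, Subgroup.zpowers_le.2 hm hz, hzu⟩

theorem card_fx_conj (g z : Perm α) : (fx (z * g * z⁻¹)).card = (fx g).card := by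
  have : fx (z * g * z⁻¹) = (fx g).image z := by
    ext x
    simp only [mem_fx, Finset.mem_image]
    constructor
    · intro h
      refine ⟨z⁻¹ x, ?_, by simp⟩
      exact z.injective (by simpa using h)
    · rintro ⟨y, hy, rfl⟩
      simp [hy]
  rw [this, Finset.card_image_of_injective _ z.injective]

end

/-! ### Descent to the fixed points of a maximal subgroup with many fixed points -/

section

variable {α : Type*} [Fintype α] [DecidableEq α] {p : ℕ}

theorem pow_agree {F : Finset α} {g : Perm α} {h : Perm F} (H : ∀ x : F, g x = h x) (n : ℕ) :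
    ∀ x : F, (g ^ n) x = (h ^ n) x := by
  induction n with
  | zero => intro x; rfl
  | succ n ih => intro x; rw [pow_succ, pow_succ, Perm.mul_apply, Perm.mul_apply, H, ih]

theorem exists_max {G : Subgroup (Perm α)} {k : ℕ} (hp : p.Prime) {h : Perm α} (hh : h ∈ G)
    (ho : orderOf h = p) (hfx : k + 1 ≤ (fx h).card) :
    ∃ R : Subgroup (Perm α), R ≤ G ∧ IsPGroup p R ∧ h ∈ R ∧ k + 1 ≤ (fxS R).card ∧
      ∀ Q ≤ G, IsPGroup p Q → R ≤ Q → k + 1 ≤ (fxS Q).card → Q = R := by
  classical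
  haveI : Fact p.Prime := ⟨hp⟩
  letI : Fintype (Subgroup (Perm α)) := Fintype.ofFinite _
  let 𝒮 : Finset (Subgroup (Perm α)) := Finset.univ.filter fun R =>
    R ≤ G ∧ IsPGroup p R ∧ h ∈ R ∧ k + 1 ≤ (fxS R).card
  have hne : 𝒮.Nonempty := ⟨Subgroup.zpowers h, Finset.mem_filter.2 ⟨Finset.mem_univ _,
    Subgroup.zpowers_le.2 hh, IsPGroup.of_card (n := 1) (by rw [Nat.card_zpowers, ho, pow_one]),
    Subgroup.mem_zpowers h, hfx.trans (Finset.card_le_card fun x hx => mem_fxS.2 fun g hg => by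
      obtain ⟨i, rfl⟩ := hg
      exact Perm.zpow_apply_eq_self_of_apply_eq_self (mem_fx.1 hx) i)⟩⟩
  obtain ⟨R, hR, hmax⟩ := Finset.exists_max_image 𝒮 (fun R => Nat.card R) hne
  obtain ⟨-, hRG, hRp, hhR, hRf⟩ := Finset.mem_filter.1 hR
  exact ⟨R, hRG, hRp, hhR, hRf, fun Q hQG hQp hle hQf => (Subgroup.eq_of_le_of_card_ge hle
    (hmax Q (Finset.mem_filter.2 ⟨Finset.mem_univ _, hQG, hQp, hle hhR, hQf⟩))).symm⟩

theorem descent {G : Subgroup (Perm α)} {k : ℕ} (hk : KT G k) (hk1 : 1 ≤ k) (hp : p.Prime)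
    {R : Subgroup (Perm α)} (hRG : R ≤ G) (hRp : IsPGroup p R)
    (hF : k + 1 ≤ (fxS R).card)
    (hmax : ∀ Q ≤ G, IsPGroup p Q → R ≤ Q → k + 1 ≤ (fxS Q).card → Q = R) :
    KT (restr G (fxS R)) k := by
  classical
  haveI : Fact p.Prime := ⟨hp⟩
  set F := fxS R with hFdef
  have hRfix : ∀ S : Finset α, S ⊆ F → R ≤ fix G S := fun S hS g hg =>
    mem_fix.2 ⟨hRG hg, fun x hx => mem_fxS.1 (hS hx) g hg⟩
  by_cases hsyl : ∃ S : Finset α, S ⊆ F ∧ S.card = k ∧
      ∀ Q ≤ fix G S, IsPGroup p Q → Nat.card Q ≤ Nat.card R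
  · obtain ⟨S₀, hS₀F, hS₀, hS₀max⟩ := hsyl
    intro T hT σ
    obtain ⟨T', hTT', -, hT'⟩ := Finset.exists_subsuperset_card_eq (Finset.subset_univ T) hT
      (by rw [Finset.card_univ, Fintype.card_coe]; omega)
    let S := T'.map (Function.Embedding.subtype _)
    have hS : S.card = k := by rw [Finset.card_map, hT']
    obtain ⟨g, hg, hgx⟩ := hk S hS.le (Perm.ofSubtype σ)
    have hgσ : ∀ x ∈ T', g (x : α) = σ x := fun x hx => by
      rw [hgx x (Finset.mem_map_of_mem _ hx)]
      exact Perm.ofSubtype_apply_coe σ x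
    set S' := S.image g with hS'
    have hS'F : S' ⊆ F := by
      intro y hy
      obtain ⟨z, hz, rfl⟩ := Finset.mem_image.1 hy
      obtain ⟨x, hx, rfl⟩ := Finset.mem_map.1 hz
      rw [Function.Embedding.subtype_apply, hgσ x hx]
      exact (σ x).2
    have hSF : S ⊆ F := by
      intro z hz
      obtain ⟨x, hx, rfl⟩ := Finset.mem_map.1 hz
      exact x.2
    have hS'c : S'.card = k := by rw [hS', Finset.card_image_of_injective _ g.injective, hS]
    set Rg := R.map (MulAut.conj g).toMonoidHom with hRg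
    have hcRg : Nat.card Rg = Nat.card R :=
      (Nat.card_congr (Subgroup.equivMapOfInjective _ _ (MulAut.conj g).injective).toEquiv).symm
    have hRgK : Rg ≤ fix G S' := by
      rw [hRg, hS', ← map_conj_fix hg]
      exact Subgroup.map_mono (hRfix S hSF)
    obtain ⟨c, hc, hcS⟩ := exists_mem_image_eq hk hS'c.le (hS'c.trans hS₀.symm)
    have hsy : ∀ Q ≤ fix G S', IsPGroup p Q → Nat.card Q ≤ Nat.card R := by
      intro Q hQ hQp
      have := hS₀max (Q.map (MulAut.conj c).toMonoidHom)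
        (by rw [← hcS, ← map_conj_fix hc]; exact Subgroup.map_mono hQ) (hQp.map _)
      rwa [← Nat.card_congr
        (Subgroup.equivMapOfInjective _ _ (MulAut.conj c).injective).toEquiv] at this
    have hP : ∀ Q ≤ fix G S', IsPGroup p Q → Nat.card Q = Nat.card R →
        ∃ P : Sylow p (fix G S'), (P : Subgroup (fix G S')).map (fix G S').subtype = Q := by
      intro Q hQ hQp hQc
      obtain ⟨P, hP⟩ := (hQp.comap_subtype (K := fix G S')).exists_le_sylow
      refine ⟨P, (Subgroup.eq_of_le_of_card_ge ?_ ?_).symm⟩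
      · intro x hx
        exact ⟨⟨x, hQ hx⟩, hP hx, rfl⟩
      · exact (hsy _ (Subgroup.map_subtype_le _) (P.isPGroup'.map _)).trans hQc.ge
    obtain ⟨P₁, hP₁⟩ := hP Rg hRgK (hRp.map _) hcRg
    obtain ⟨P₂, hP₂⟩ := hP R (hRfix S' hS'F) hRp rfl
    obtain ⟨l, hl⟩ := MulAction.exists_smul_eq (fix G S') P₁ P₂
    have hconj : ∀ r ∈ R, (l : Perm α) * g * r * ((l : Perm α) * g)⁻¹ ∈ R := by
      intro r hr
      have h1 : g * r * g⁻¹ ∈ Rg := ⟨r, hr, rfl⟩
      rw [← hP₁] at h1
      obtain ⟨q, hq, hqe⟩ := h1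
      have h2 : l * q * l⁻¹ ∈ (P₂ : Subgroup (fix G S')) := by
        rw [← hl, Sylow.coe_subgroup_smul]
        exact ⟨q, hq, rfl⟩
      have h3 : ((l * q * l⁻¹ : fix G S') : Perm α) ∈ R := by
        rw [← hP₂]; exact ⟨_, h2, rfl⟩
      have e : (l : Perm α) * g * r * ((l : Perm α) * g)⁻¹ = ((l * q * l⁻¹ : fix G S') : Perm α) := by
        rw [Subgroup.coe_mul, Subgroup.coe_mul, Subgroup.coe_inv]
        change (q : Perm α) = g * r * g⁻¹ at hqe
        rw [hqe]; group
      rw [e]; exact h3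
    set m := (l : Perm α) * g with hm
    have hmem : ∀ x ∈ F, m x ∈ F := by
      intro x hx
      refine mem_fxS.2 fun r hr => ?_
      have hnorm : R.map (MulAut.conj m).toMonoidHom = R := by
        refine Subgroup.eq_of_le_of_card_ge ?_ (le_of_eq ?_)
        · rintro _ ⟨a, ha, rfl⟩; exact hconj a ha
        · exact Nat.card_congr (Subgroup.equivMapOfInjective _ _ (MulAut.conj m).injective).toEquiv
      obtain ⟨a, ha, rfl⟩ := hnorm.ge hr
      simp [mem_fxS.1 hx a ha]
    have hiff : ∀ x, m x ∈ F ↔ x ∈ F := by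
      have himg : F.image m = F := Finset.eq_of_subset_of_card_le
        (fun y hy => by obtain ⟨x, hx, rfl⟩ := Finset.mem_image.1 hy; exact hmem x hx)
        (by rw [Finset.card_image_of_injective _ m.injective])
      refine fun x => ⟨fun h => ?_, hmem x⟩
      rw [← himg, Finset.mem_image] at h
      obtain ⟨y, hy, e⟩ := h
      exact m.injective e ▸ hy
    refine ⟨m.subtypePerm hiff, ⟨m, mul_mem (mem_fix.1 l.2).1 hg, fun _ => rfl⟩, fun x hx => ?_⟩
    apply Subtype.ext
    show m (x : α) = _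
    rw [hm, Perm.mul_apply, hgσ x (hTT' hx)]
    exact (mem_fix.1 l.2).2 _ (Finset.mem_image.2
      ⟨x, Finset.mem_map_of_mem _ (hTT' hx), hgσ x (hTT' hx)⟩)
  · refine kt_of_isMultiplyPretransitive (by rw [Fintype.card_coe]; omega) ?_
    refine Cfsg.Agent.S0743.result (restr G F) hp hk1 (by rw [Fintype.card_coe]; omega) fun s hs => ?_
    set S := s.map (Function.Embedding.subtype _) with hSdef
    have hS : S.card = k := by rw [hSdef, Finset.card_map, hs]
    have hSF : S ⊆ F := by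
      intro z hz
      obtain ⟨x, hx, rfl⟩ := Finset.mem_map.1 hz
      exact x.2
    push Not at hsyl
    obtain ⟨Q, hQ, hQp, hQc⟩ := hsyl S hSF hS
    -- a larger `p`-group over `R`
    obtain ⟨P, hP⟩ := ((hRp.comap_subtype (K := fix G S))).exists_le_sylow
    set Q' := (P : Subgroup (fix G S)).map (fix G S).subtype with hQ'
    have hRQ' : R ≤ Q' := fun x hx => ⟨⟨x, hRfix S hSF hx⟩, hP hx, rfl⟩
    have hQ'p : IsPGroup p Q' := P.isPGroup'.map _
    have hQ'ne : Q' ≠ R := by
      intro e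
      obtain ⟨P', hP'⟩ := (hQp.comap_subtype (K := fix G S)).exists_le_sylow
      have h1 : Nat.card Q ≤ Nat.card (P' : Subgroup (fix G S)) := by
        refine le_of_eq_of_le ?_ (Subgroup.card_le_of_le hP')
        exact (Nat.card_congr (Subgroup.subgroupOfEquivOfLe hQ).toEquiv).symm
      have h2 : Nat.card (P' : Subgroup (fix G S)) = Nat.card Q' := by
        rw [hQ', ← Nat.card_congr (Subgroup.equivMapOfInjective _ _
          (fix G S).subtype_injective).toEquiv]
        exact P'.card_eq_multiplicity.trans P.card_eq_multiplicity.symm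
      rw [h2, e] at h1
      omega
    haveI : Group.IsNilpotent Q' := hQ'p.isNilpotent
    have hlt : R.subgroupOf Q' < ⊤ := lt_top_iff_ne_top.2 fun e =>
      hQ'ne (le_antisymm (Subgroup.subgroupOf_eq_top.1 e) hRQ')
    have hN := Group.normalizerCondition_of_isNilpotent (G := Q') _ hlt
    obtain ⟨q, hqN, hqR⟩ := SetLike.exists_of_lt hN
    set N := Q' ⊓ Subgroup.normalizer (R : Set (Perm α)) with hNdef
    have hqN' : (q : Perm α) ∈ N := by
      refine ⟨q.2, ?_⟩
      rw [← Subgroup.subgroupOf_normalizer_eq hRQ'] at hqN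
      exact hqN
    have hNG : N ≤ G := fun x hx => (mem_fix.1 (Subgroup.map_subtype_le _ hx.1)).1
    have hNne : N ≠ R := fun e => hqR (Subgroup.mem_subgroupOf.2 (e ▸ hqN'))
    have hpres : ∀ m ∈ N, ∀ x ∈ F, m x ∈ F := by
      intro m hm x hx
      refine mem_fxS.2 fun r hr => ?_
      have h1 := (Subgroup.mem_normalizer_iff.1 (inv_mem hm.2) r).1 hr
      have h2 := mem_fxS.1 hx _ h1
      rw [inv_inv, Perm.mul_apply, Perm.mul_apply, Perm.inv_eq_iff_eq] at h2
      exact h2
    refine ⟨(restr N F).subgroupOf (restr G F), ?_, ?_⟩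
    · rintro ⟨⟨h, hh⟩, m, hm, hmh⟩
      obtain ⟨i, hi⟩ := (hQ'p.to_le (inf_le_left : N ≤ Q')) ⟨m, hm⟩
      refine ⟨i, Subtype.ext (Subtype.ext (Equiv.ext fun x => Subtype.ext ?_))⟩
      have h1 := pow_agree hmh (p ^ i) x
      have h2 : m ^ p ^ i = 1 := by simpa using congrArg Subtype.val hi
      rw [h2] at h1
      simpa using h1.symm
    · ext x
      constructor
      · intro hx
        by_contra hxs
        have hxS : (x : α) ∉ S := fun h => hxs (by simpa [hSdef] using h)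
        refine hNne (hmax N hNG (hQ'p.to_le inf_le_left) ?_ ?_)
        · exact le_inf hRQ' Subgroup.le_normalizer
        · have hsub : insert (x : α) S ⊆ fxS N := by
            intro y hy
            refine mem_fxS.2 fun m hm => ?_
            rcases Finset.mem_insert.1 hy with rfl | hy
            · have hiff : ∀ z, m z ∈ F ↔ z ∈ F := fun z => ⟨fun h => by
                simpa using hpres m⁻¹ (inv_mem hm) _ h, hpres m hm z⟩
              have := hx ⟨⟨m.subtypePerm hiff, m, hNG hm, fun _ => rfl⟩, m, hm, fun _ => rfl⟩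
              exact congrArg Subtype.val this
            · exact (mem_fix.1 (Subgroup.map_subtype_le _ hm.1)).2 y hy
          refine le_trans (le_of_eq ?_) (Finset.card_le_card hsub)
          rw [Finset.card_insert_of_notMem hxS, hS]
      · rintro hx ⟨⟨h, hh⟩, m, hm, hmh⟩
        apply Subtype.ext
        show ((h x : F) : α) = x
        exact (hmh x).symm.trans
          ((mem_fix.1 (Subgroup.map_subtype_le _ hm.1)).2 _ (Finset.mem_map_of_mem _ hx))

end

end CfsgLib.LW
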