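import Cfsg.Agent.Lib.Perm.LW.Small

/-!
The theorem of Livingstone and Wagner: the final induction and the exceptions.
-/

set_option autoImplicit false
set_option linter.style.haveILetI false
set_option linter.unusedSectionVars false

namespace CfsgLib.LW

open Equiv
open scoped Classical

universe v

variable {α : Type v} [Fintype α] [DecidableEq α]

theorem no_hom {G : Subgroup (Perm α)} {j n c o : ℕ} (hn : Fintype.card α = n) (hjn : j ≤ n)
    (hh : Hom G j) (hc : n.choose j = c) (ho : Nat.card G = o) (hnd : o % c ≠ 0) : False := by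
  obtain ⟨Δ, -, hΔ⟩ := Finset.exists_subset_card_eq (s := (Finset.univ : Finset α)) (n := j)
    (by rw [Finset.card_univ]; omega)
  have h := card_setwise hh hΔ
  rw [hn, hc, ho] at h
  rw [h] at hnd
  exact hnd (Nat.mul_mod_right _ _)

/-- an involution with a fixed point induces a transposition on three points -/
theorem no_transposition {G : Subgroup (Perm α)}
    (h3 : ∀ Δ : Finset α, Δ.card = 3 → Nat.card (restr G Δ) = 3) {t : Perm α} (ht : t ∈ G)
    (ht2 : t * t = 1) {a c : α} (ha : t a ≠ a) (hc : t c = c) : False := by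
  have hca : a ≠ c := fun e => ha (by rw [e, hc])
  have hca' : t a ≠ c := fun e => hca (t.injective (e.trans hc.symm))
  set Δ : Finset α := {a, t a, c} with hΔ
  have hd : Δ.card = 3 := Finset.card_eq_three.2 ⟨a, t a, c, Ne.symm ha, hca, hca', rfl⟩
  have hpres : ∀ z, t z ∈ Δ ↔ z ∈ Δ := preserves_of_maps fun z hz => by
    simp only [hΔ, Finset.mem_insert, Finset.mem_singleton] at hz ⊢
    rcases hz with rfl | rfl | rfl
    · exact Or.inr (Or.inl rfl)
    · exact Or.inl (apply_involutive ht2 a)
    · exact Or.inr (Or.inr hc)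
  have ho : orderOf (t.subtypePerm hpres) = 2 := by
    refine pow_eq_one_dvd Nat.prime_two (Equiv.ext fun z => Subtype.ext ?_) fun e => ha ?_
    · simp only [sq, Perm.mul_apply]
      exact apply_involutive ht2 (z : α)
    · exact congrArg Subtype.val (DFunLike.congr_fun e ⟨a, by simp [hΔ]⟩)
  have := Subgroup.orderOf_dvd_natCard _ (show t.subtypePerm hpres ∈ restr G Δ from
    ⟨t, ht, fun _ => rfl⟩)
  rw [ho, h3 Δ hd] at this
  norm_num at this

theorem classify_four {G : Subgroup (Perm α)} (hn : 4 < Fintype.card α) (hk : KT G 2)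
    (hh1 : Hom G 3) (hh : Hom G 4) (hnk : ¬ KT G 3) :
    Fintype.card α = 5 ∧ Nat.card G = 20 := by
  obtain ⟨r, s, N, hd⟩ := exists_data (k := 4) (by norm_num) hn.le hk hh1 hh hnk
  obtain ⟨hs, hs'⟩ := hd.bounds (by norm_num) hn.le
  have hdvd : r ∣ 6 := hd.dvd
  have hm := hd.mul
  have hle := hd.le
  have hr := Nat.le_of_dvd (by norm_num) hdvd
  rcases sol_four r (Finset.mem_range.2 (by omega)) s (Finset.mem_range.2 (by omega)) N
      (Finset.mem_range.2 (by omega)) hd.two_le (Nat.mod_eq_zero_of_dvd hdvd |>.trans rfl) hs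
      hd.even hd.eq with ⟨rfl, rfl⟩ | ⟨rfl, rfl⟩ | ⟨rfl, rfl⟩ | ⟨rfl, rfl⟩
  · omega
  · -- degree six
    exfalso
    have hn6 : Fintype.card α = 6 := by omega
    have h3 : ∀ Δ : Finset α, Δ.card = 3 → Nat.card (restr G Δ) = 3 := fun Δ hΔ => by
      have := hd.induced Δ hΔ
      rw [show Nat.factorial (4 - 1) = 6 from rfl] at this
      omega
    obtain ⟨Δ, -, hΔ⟩ := Finset.exists_subset_card_eq (s := (Finset.univ : Finset α)) (n := 3)
      (by rw [Finset.card_univ]; omega)
    obtain ⟨c, -⟩ := Finset.card_pos.1 (show 0 < Δ.card by omega)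
    have hk1 : KT G 1 := fun S hS => hk S (by omega)
    have h1 := card_group hk1 (Finset.card_singleton c)
    have h2 := hd.order Δ hΔ
    rw [hn6, show Nat.descFactorial 6 1 = 6 from rfl] at h1
    rw [hn6, show Nat.descFactorial 6 (4 - 2) = 30 from rfl] at h2
    haveI : Fact (Nat.Prime 2) := ⟨Nat.prime_two⟩
    obtain ⟨t, ht⟩ := exists_prime_orderOf_dvd_card' (G := fix G {c}) 2
      ⟨5 * Nat.card (fix G Δ), by omega⟩
    rw [← Subgroup.orderOf_coe] at ht
    obtain ⟨htG, htc⟩ := mem_fix.1 t.2
    have ht2 : (t : Perm α) * t = 1 := by rw [← sq, ← ht, pow_orderOf_eq_one]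
    obtain ⟨a, ha⟩ : ∃ a, (t : Perm α) a ≠ a := by
      by_contra hne
      push Not at hne
      rw [show (t : Perm α) = 1 from Equiv.ext hne, orderOf_one] at ht
      norm_num at ht
    exact no_transposition h3 htG ht2 ha (htc c (Finset.mem_singleton_self c))
  · have hn5 : Fintype.card α = 5 := by omega
    refine ⟨hn5, ?_⟩
    rw [hd.trivial_of_one hk hn.le (by norm_num), hn5]
    rfl
  · exfalso
    have hn8 : Fintype.card α = 8 := by omega
    have ho : Nat.card G = 56 := by
      rw [hd.trivial_of_one hk hn.le (by norm_num), hn8]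
      rfl
    exact no_hom (j := 4) hn8 (by norm_num) hh rfl ho (by decide)

theorem classify_five {G : Subgroup (Perm α)} (hn : 5 < Fintype.card α) (hk : KT G 3)
    (hh1 : Hom G 4) (hh : Hom G 5) (hnk : ¬ KT G 4) :
    (Fintype.card α = 6 ∧ Nat.card G = 120) ∨
      (Fintype.card α = 9 ∧ (Nat.card G = 504 ∨ Nat.card G = 1512)) := by
  obtain ⟨r, s, N, hd⟩ := exists_data (k := 5) (by norm_num) hn.le hk hh1 hh hnk
  obtain ⟨hs, hs'⟩ := hd.bounds (by norm_num) hn.le
  have hdvd : r ∣ 24 := hd.dvd
  have hm := hd.mul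
  have hle := hd.le
  have hr := Nat.le_of_dvd (by norm_num) hdvd
  have hk2 : KT G 2 := fun S hS => hk S (by omega)
  have hind : ∀ Δ : Finset α, Δ.card = 4 → Nat.card (restr G Δ) * r = 24 := hd.induced
  rcases sol_five r (Finset.mem_range.2 (by omega)) s (Finset.mem_range.2 (by omega)) N
      (Finset.mem_range.2 (by omega)) hd.two_le (Nat.mod_eq_zero_of_dvd hdvd |>.trans rfl) hs
      hd.even hd.eq with rfl | ⟨rfl, rfl⟩ | ⟨rfl, rfl, rfl⟩ | ⟨rfl, rfl, rfl⟩ | ⟨rfl, rfl⟩
  · -- one orbit point
    have ho := hd.trivial_of_one hk hn.le (by norm_num)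
    have hr' : r = 2 ∨ r = 3 ∨ r = 4 ∨ r = 6 ∨ r = 8 ∨ r = 12 ∨ r = 24 := by
      have := hd.two_le
      interval_cases r <;> omega
    rcases hr' with rfl | rfl | rfl | rfl | rfl | rfl | rfl
    · omega
    · have hn' : Fintype.card α = 6 := by omega
      exact Or.inl ⟨hn', by rw [ho, hn']; rfl⟩
    · exact (no_six hk2 hnk (by omega) fun Δ hΔ => by have := hind Δ hΔ; omega).elim
    · have hn' : Fintype.card α = 9 := by omega
      exact Or.inr ⟨hn', Or.inl (by rw [ho, hn']; rfl)⟩
    · have hn' : Fintype.card α = 11 := by omega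
      exact (no_hom (j := 5) hn' (by norm_num) hh (c := 462) (by decide) (o := 990)
        (by rw [ho, hn']; rfl) (by decide)).elim
    · have hn' : Fintype.card α = 15 := by omega
      exact (no_hom (j := 5) hn' (by norm_num) hh (c := 3003) (by decide +kernel) (o := 2730)
        (by rw [ho, hn']; rfl) (by decide)).elim
    · have hn' : Fintype.card α = 27 := by omega
      exact (no_hom (j := 5) hn' (by norm_num) hh (c := 80730) (by decide +kernel) (o := 17550)
        (by rw [ho, hn']; rfl) (by decide)).elim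
  · have hn' : Fintype.card α = 9 := by omega
    exact Or.inr ⟨hn', Or.inr (nine_two hn' hk hnk hd)⟩
  · -- degree nine, orbits of length two
    exfalso
    have h8 : ∀ Δ : Finset α, Δ.card = 4 → Nat.card (restr G Δ) = 8 := fun Δ hΔ => by
      have := hind Δ hΔ
      omega
    obtain ⟨T, -, hT⟩ := Finset.exists_subset_card_eq (s := (Finset.univ : Finset α)) (n := 3)
      (by rw [Finset.card_univ]; omega)
    obtain ⟨z, hz⟩ := Finset.card_pos.1 (show 0 < Tᶜ.card by rw [Finset.card_compl, hT]; omega)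
    haveI : Fact (Nat.Prime 2) := ⟨Nat.prime_two⟩
    obtain ⟨t, ht⟩ := exists_prime_orderOf_dvd_card' (G := fix G T) 2
      ⟨_, by rw [← card_orb_mul T z, hd.orb_card T hT z (Finset.mem_compl.1 hz)]⟩
    rw [← Subgroup.orderOf_coe] at ht
    obtain ⟨htG, htT⟩ := mem_fix.1 t.2
    have ht2 : (t : Perm α) * t = 1 := by rw [← sq, ← ht, pow_orderOf_eq_one]
    have ht1 : (t : Perm α) ≠ 1 := fun e => by
      rw [e, orderOf_one] at ht
      norm_num at ht
    have h1 := fx_le_two hh1 h8 (by norm_num) hd.pairs htG ht2 ht1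
    have h2 : T.card ≤ (fx (t : Perm α)).card :=
      Finset.card_le_card fun y hy => mem_fx.2 (htT y hy)
    omega
  · exact (no_twentyfour (by omega) hk hh1 hd rfl rfl).elim
  · exact (no_six hk2 hnk (by omega) fun Δ hΔ => by have := hind Δ hΔ; omega).elim

/-- `k`-homogeneous groups are `(k-1)`-transitive -/
theorem kt_pred (G : Subgroup (Perm α)) : ∀ k : ℕ, 2 ≤ k → 2 * k ≤ Fintype.card α →
    MulAction.IsPretransitive G (Set.powersetCard α k) → KT G (k - 1) := by
  intro k
  induction k using Nat.strong_induction_on with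
  | _ k ih =>
    intro hk hn h
    have hp := hom_pred hk hn h
    have hh := hom_of_powersetCard h
    have hh1 := hom_of_powersetCard hp
    rcases eq_or_lt_of_le hk with rfl | hk3
    · exact kt_one hh1
    have ih1 : KT G (k - 1 - 1) := ih (k - 1) (by omega) (by omega) (by omega) hp
    rcases (show k = 3 ∨ k = 4 ∨ k = 5 ∨ 6 ≤ k by omega) with rfl | rfl | rfl | hk6
    · exact kt_two ih1 hh1 hh (by omega)
    · by_contra hnk
      have := classify_four (by omega) ih1 hh1 hh hnk
      omega
    · by_contra hnk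
      rcases classify_five (by omega) ih1 hh1 hh hnk with h | h <;> omega
    · exact kt_step (by omega) (by omega) ih1 hh1

end CfsgLib.LW
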