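import Cfsg.Agent.Lib.Perm.LW.Basic

/-!
Counting involutions in four-transitive groups whose four-point stabilizers have odd order.
-/

set_option autoImplicit false
set_option linter.style.haveILetI false

namespace CfsgLib.LW

open Equiv

variable {α : Type*} [Fintype α] [DecidableEq α]

/-- involution swapping the first two points and fixing the last two -/
def IsU (G : Subgroup (Perm α)) (x : Fin 4 ↪ α) (s : Perm α) : Prop :=
  s ∈ G ∧ s * s = 1 ∧ s (x 0) = x 1 ∧ s (x 2) = x 2 ∧ s (x 3) = x 3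

/-- involution inducing a double transposition -/
def IsW (G : Subgroup (Perm α)) (x : Fin 4 ↪ α) (s : Perm α) : Prop :=
  s ∈ G ∧ s * s = 1 ∧ s (x 0) = x 1 ∧ s (x 2) = x 3

/-- the four points -/
def quad (x : Fin 4 ↪ α) : Finset α := Finset.univ.map x

theorem card_quad (x : Fin 4 ↪ α) : (quad x).card = 4 := by simp [quad]

theorem mem_quad {x : Fin 4 ↪ α} {y : α} : y ∈ quad x ↔ ∃ i, x i = y := by simp [quad]

theorem apply_involutive {s : Perm α} (h : s * s = 1) (y : α) : s (s y) = y := by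
  rw [← Perm.mul_apply, h]; rfl

theorem IsU.values {G : Subgroup (Perm α)} {x : Fin 4 ↪ α} {s : Perm α} (h : IsU G x s) (i : Fin 4) :
    s (x i) = x (![1, 0, 2, 3] i) := by
  obtain ⟨-, h2, ha, hc, he⟩ := h
  fin_cases i
  · exact ha
  · show s (x 1) = x 0
    rw [← ha, apply_involutive h2]
  · exact hc
  · exact he

theorem IsW.values {G : Subgroup (Perm α)} {x : Fin 4 ↪ α} {s : Perm α} (h : IsW G x s) (i : Fin 4) :
    s (x i) = x (![1, 0, 3, 2] i) := by
  obtain ⟨-, h2, ha, hc⟩ := h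
  fin_cases i
  · exact ha
  · show s (x 1) = x 0
    rw [← ha, apply_involutive h2]
  · exact hc
  · show s (x 3) = x 2
    rw [← hc, apply_involutive h2]

section Pattern

/- `π` is the action on the four indices; `P` the corresponding set of involutions. -/
variable {G : Subgroup (Perm α)}

/-- involutions of `G` with a prescribed action on four points -/
def HasPattern (G : Subgroup (Perm α)) (π : Fin 4 → Fin 4) (x : Fin 4 ↪ α) (s : Perm α) : Prop :=
  s ∈ G ∧ s * s = 1 ∧ ∀ i, s (x i) = x (π i)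

theorem isU_iff {x : Fin 4 ↪ α} {s : Perm α} : IsU G x s ↔ HasPattern G ![1, 0, 2, 3] x s :=
  ⟨fun h => ⟨h.1, h.2.1, h.values⟩, fun h => ⟨h.1, h.2.1, h.2.2 0, h.2.2 2, h.2.2 3⟩⟩

theorem isW_iff {x : Fin 4 ↪ α} {s : Perm α} : IsW G x s ↔ HasPattern G ![1, 0, 3, 2] x s :=
  ⟨fun h => ⟨h.1, h.2.1, h.values⟩, fun h => ⟨h.1, h.2.1, h.2.2 0, h.2.2 2⟩⟩

variable (hk : KT G 4) (hodd : ∀ x : Fin 4 ↪ α, Odd (Nat.card (fix G (quad x))))

include hk in
theorem exists_map_quad (x y : Fin 4 ↪ α) : ∃ g ∈ G, ∀ i, g (x i) = y i := by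
  obtain ⟨σ, hσ⟩ := exists_perm_pair x y
  obtain ⟨g, hg, hgx⟩ := hk (quad x) (card_quad x).le σ
  exact ⟨g, hg, fun i => (hgx _ (mem_quad.2 ⟨i, rfl⟩)).trans (hσ i)⟩

include hk hodd in
theorem exists_pattern (π : Perm (Fin 4)) (hπ : ∀ i, π (π i) = i) (x : Fin 4 ↪ α) :
    ∃ s, HasPattern G π x s := by
  obtain ⟨g, hg, hgx⟩ := exists_map_quad hk x (π.toEmbedding.trans x)
  have hgx' : ∀ i, g (x i) = x (π i) := hgx
  obtain ⟨s, hs, hs2, hsx⟩ := exists_involution_lift (hodd x) hg (fun y hy => by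
    obtain ⟨i, rfl⟩ := mem_quad.1 hy
    rw [hgx', hgx', hπ])
  exact ⟨s, hs, hs2, fun i => (hsx _ (mem_quad.2 ⟨i, rfl⟩)).trans (hgx' i)⟩

theorem HasPattern.conj {π : Fin 4 → Fin 4} {x y : Fin 4 ↪ α} {s g : Perm α}
    (h : HasPattern G π x s) (hg : g ∈ G) (hgx : ∀ i, g (x i) = y i) :
    HasPattern G π y (g * s * g⁻¹) := by
  refine ⟨mul_mem (mul_mem hg h.1) (inv_mem hg), ?_, fun i => ?_⟩
  · calc g * s * g⁻¹ * (g * s * g⁻¹) = g * (s * s) * g⁻¹ := by group
      _ = 1 := by rw [h.2.1]; group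
  · rw [← hgx i, Perm.mul_apply, Perm.mul_apply, Perm.inv_def, Equiv.symm_apply_apply, h.2.2, hgx]

include hodd in
theorem pattern_conj {π : Fin 4 → Fin 4} {x : Fin 4 ↪ α} {s t : Perm α}
    (hs : HasPattern G π x s) (ht : HasPattern G π x t) :
    ∃ z ∈ fix G (quad x), z * s * z⁻¹ = t := by
  refine conj_of_agree (hodd x) hs.1 ht.1 hs.2.1 ht.2.1 (fun y hy => ?_) (fun y hy => ?_)
  · obtain ⟨i, rfl⟩ := mem_quad.1 hy
    exact mem_quad.2 ⟨π i, (hs.2.2 i).symm⟩
  · obtain ⟨i, rfl⟩ := mem_quad.1 hy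
    rw [hs.2.2, ht.2.2]

include hk hodd in
theorem fx_const {π : Fin 4 → Fin 4} {x y : Fin 4 ↪ α} {s t : Perm α}
    (hs : HasPattern G π x s) (ht : HasPattern G π y t) : (fx s).card = (fx t).card := by
  obtain ⟨g, hg, hgx⟩ := exists_map_quad hk x y
  obtain ⟨z, -, rfl⟩ := pattern_conj hodd (hs.conj hg hgx) ht
  rw [card_fx_conj, card_fx_conj]

open scoped Classical in
/-- the involutions with a prescribed pattern -/
noncomputable def invSet (G : Subgroup (Perm α)) (π : Fin 4 → Fin 4) (x : Fin 4 ↪ α) :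
    Finset (Perm α) :=
  Finset.univ.filter fun s => HasPattern G π x s

theorem mem_invSet {π : Fin 4 → Fin 4} {x : Fin 4 ↪ α} {s : Perm α} :
    s ∈ invSet G π x ↔ HasPattern G π x s := by simp [invSet]

include hk in
theorem invSet_card_eq (π : Fin 4 → Fin 4) (x y : Fin 4 ↪ α) :
    (invSet G π x).card = (invSet G π y).card := by
  obtain ⟨g, hg, hgx⟩ := exists_map_quad hk x y
  refine Finset.card_bij (fun s _ => g * s * g⁻¹) (fun s hs => ?_) (fun a _ b _ h => ?_)
    (fun t ht => ⟨g⁻¹ * t * g⁻¹⁻¹, ?_, by group⟩)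
  · exact mem_invSet.2 ((mem_invSet.1 hs).conj hg hgx)
  · simpa using h
  · exact mem_invSet.2 ((mem_invSet.1 ht).conj (inv_mem hg) fun i => by rw [← hgx i]; simp)

include hodd in
/-- orbit–stabilizer for conjugation by the pointwise stabilizer -/
theorem invSet_card_mul {π : Fin 4 → Fin 4} {x : Fin 4 ↪ α} {s : Perm α}
    (hs : HasPattern G π x s) :
    (invSet G π x).card *
      Nat.card ↥(fix G (quad x) ⊓ Subgroup.centralizer ({s} : Set (Perm α))) =
    Nat.card (fix G (quad x)) := by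
  set L := fix G (quad x) with hL
  letI : MulAction L (Perm α) :=
    MulAction.compHom _ (ConjAct.toConjAct.toMonoidHom.comp L.subtype)
  have hsmul : ∀ (l : L) (t : Perm α), l • t = (l : Perm α) * t * (l : Perm α)⁻¹ := fun _ _ => rfl
  have horb : MulAction.orbit L s = (invSet G π x : Set (Perm α)) := by
    ext t
    rw [Finset.mem_coe, mem_invSet]
    constructor
    · rintro ⟨l, rfl⟩
      exact hs.conj (mem_fix.1 l.2).1 fun i => (mem_fix.1 l.2).2 _ (mem_quad.2 ⟨i, rfl⟩)
    · intro ht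
      obtain ⟨z, hz, e⟩ := pattern_conj hodd hs ht
      exact ⟨⟨z, hz⟩, e⟩
  have h1 : Nat.card (MulAction.orbit L s) = (invSet G π x).card := by
    rw [horb, Nat.card_coe_set_eq, Set.ncard_coe_finset]
  have h2 : Nat.card (MulAction.stabilizer L s) =
      Nat.card ↥(L ⊓ Subgroup.centralizer ({s} : Set (Perm α))) := by
    refine Nat.card_congr
      { toFun := fun l => ⟨(l.1 : Perm α), l.1.2, Subgroup.mem_centralizer_singleton_iff.2 ?_⟩
        invFun := fun l => ⟨⟨l.1, l.2.1⟩, ?_⟩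
        left_inv := fun _ => rfl
        right_inv := fun _ => rfl }
    · have := (hsmul l.1 s).symm.trans l.2
      rwa [mul_inv_eq_iff_eq_mul] at this
    · rw [MulAction.mem_stabilizer_iff, hsmul, mul_inv_eq_iff_eq_mul]
      exact Subgroup.mem_centralizer_singleton_iff.1 l.2.2
  rw [← h1, ← h2, ← Nat.card_prod]
  exact Nat.card_congr (MulAction.orbitProdStabilizerEquivGroup L s)

/-- build a quadruple -/
def mkQuad (a b c e : α) (hab : a ≠ b) (hac : a ≠ c) (hae : a ≠ e) (hbc : b ≠ c) (hbe : b ≠ e)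
    (hce : c ≠ e) : Fin 4 ↪ α :=
  ⟨![a, b, c, e], by
    intro i j h
    fin_cases i <;> fin_cases j <;> first | rfl | (exfalso; simp_all)⟩

open scoped Classical in
theorem card_U_of (G : Subgroup (Perm α)) {s : Perm α} (hs : s ∈ G) (h2 : s * s = 1) :
    (Finset.univ.filter fun x : Fin 4 ↪ α => HasPattern G ![1, 0, 2, 3] x s).card =
      (Fintype.card α - (fx s).card) * ((fx s).card * ((fx s).card - 1)) := by
  rw [← Finset.card_compl, show (fx s).card * ((fx s).card - 1) = (fx s).offDiag.card by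
    rw [Finset.offDiag_card, Nat.mul_sub, mul_one], ← Finset.card_product]
  refine Finset.card_bij (fun x _ => (x 0, (x 2, x 3))) (fun x hx => ?_) (fun x hx y hy h => ?_)
    (fun z hz => ?_)
  · obtain ⟨-, -, hx⟩ := (Finset.mem_filter.1 hx).2
    refine Finset.mem_product.2 ⟨Finset.mem_compl.2 fun h => ?_, Finset.mem_offDiag.2
      ⟨mem_fx.2 (hx 2), mem_fx.2 (hx 3), x.injective.ne (by decide)⟩⟩
    exact x.injective.ne (show (1 : Fin 4) ≠ 0 by decide) ((hx 0).symm.trans (mem_fx.1 h))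
  · obtain ⟨-, -, hx⟩ := (Finset.mem_filter.1 hx).2
    obtain ⟨-, -, hy⟩ := (Finset.mem_filter.1 hy).2
    simp only [Prod.mk.injEq] at h
    refine Function.Embedding.ext fun i => ?_
    fin_cases i
    · exact h.1
    · show x 1 = y 1
      exact (hx 0).symm.trans ((congrArg s h.1).trans (hy 0))
    · exact h.2.1
    · exact h.2.2
  · obtain ⟨a, c, e⟩ := z
    obtain ⟨ha, hce⟩ := Finset.mem_product.1 hz
    obtain ⟨hc, he, hne⟩ := Finset.mem_offDiag.1 hce
    rw [Finset.mem_compl, mem_fx] at ha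
    rw [mem_fx] at hc he
    refine ⟨mkQuad a (s a) c e (Ne.symm ha) (fun h => ha (h ▸ hc)) (fun h => ha (h ▸ he))
      (fun h => ha ((congrArg s h).symm.trans (apply_involutive h2 a) |>.trans rfl |> fun q =>
        by rw [hc] at q; exact h.trans q))
      (fun h => ha ((congrArg s h).symm.trans (apply_involutive h2 a) |>.trans rfl |> fun q =>
        by rw [he] at q; exact h.trans q)) hne,
      Finset.mem_filter.2 ⟨Finset.mem_univ _, isU_iff.1 ⟨hs, h2, rfl, hc, he⟩⟩, rfl⟩

open scoped Classical in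
theorem card_W_of (G : Subgroup (Perm α)) {s : Perm α} (hs : s ∈ G) (h2 : s * s = 1) :
    (Finset.univ.filter fun x : Fin 4 ↪ α => HasPattern G ![1, 0, 3, 2] x s).card =
      (Fintype.card α - (fx s).card) * (Fintype.card α - (fx s).card - 2) := by
  rw [← Finset.card_compl]
  set M := (fx s)ᶜ with hM
  have hfib : ∀ a ∈ M, ((M.erase a).erase (s a)).card = M.card - 2 := by
    intro a ha
    rw [hM, Finset.mem_compl, mem_fx] at ha
    have hsa : s a ∈ M.erase a := Finset.mem_erase.2 ⟨ha, by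
      rw [hM, Finset.mem_compl, mem_fx, apply_involutive h2]; exact Ne.symm ha⟩
    rw [Finset.card_erase_of_mem hsa, Finset.card_erase_of_mem (by
      rw [hM, Finset.mem_compl, mem_fx]; exact ha)]
    omega
  rw [show M.card * (M.card - 2) = (M.sigma fun a => (M.erase a).erase (s a)).card by
    rw [Finset.card_sigma, Finset.sum_congr rfl hfib, Finset.sum_const, smul_eq_mul]]
  refine Finset.card_bij (fun x _ => (⟨x 0, x 2⟩ : Σ _ : α, α)) (fun x hx => ?_)
    (fun x hx y hy h => ?_) (fun z hz => ?_)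
  · obtain ⟨-, -, hx⟩ := (Finset.mem_filter.1 hx).2
    have hm : ∀ i j : Fin 4, ![(1 : Fin 4), 0, 3, 2] i = j → i ≠ j → x i ∈ M := fun i j e hij => by
      rw [hM, Finset.mem_compl, mem_fx, hx, e]; exact x.injective.ne hij.symm
    refine Finset.mem_sigma.2 ⟨hm 0 1 rfl (by decide), Finset.mem_erase.2 ⟨?_, Finset.mem_erase.2
      ⟨x.injective.ne (by decide), hm 2 3 rfl (by decide)⟩⟩⟩
    show x 2 ≠ s (x 0)
    rw [hx 0]
    exact x.injective.ne (by decide)
  · obtain ⟨-, -, hx⟩ := (Finset.mem_filter.1 hx).2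
    obtain ⟨-, -, hy⟩ := (Finset.mem_filter.1 hy).2
    simp only [Sigma.mk.injEq, heq_eq_eq] at h
    refine Function.Embedding.ext fun i => ?_
    fin_cases i
    · exact h.1
    · show x 1 = y 1
      exact (hx 0).symm.trans ((congrArg s h.1).trans (hy 0))
    · exact h.2
    · show x 3 = y 3
      exact (hx 2).symm.trans ((congrArg s h.2).trans (hy 2))
  · obtain ⟨a, c⟩ := z
    obtain ⟨ha, hc⟩ := Finset.mem_sigma.1 hz
    obtain ⟨hcs, hca, hc⟩ : c ≠ s a ∧ c ≠ a ∧ c ∈ M := by
      simpa [Finset.mem_erase] using hc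
    simp only [hM, Finset.mem_compl, mem_fx] at ha hc
    refine ⟨mkQuad a (s a) c (s c) (Ne.symm ha) hca.symm (fun h => hcs ?_) hcs.symm
      (fun h => hca (s.injective h).symm) (Ne.symm hc),
      Finset.mem_filter.2 ⟨Finset.mem_univ _, isW_iff.1 ⟨hs, h2, rfl, rfl⟩⟩, rfl⟩
    rw [h, apply_involutive h2]

include hk in
/-- The double count: both patterns occur among the involutions with `f` fixed points. -/
theorem count {f : ℕ} (x : Fin 4 ↪ α)
    (hU : ∀ y s, HasPattern G ![1, 0, 2, 3] y s → (fx s).card = f)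
    (hW : ∀ y s, HasPattern G ![1, 0, 3, 2] y s → (fx s).card = f)
    (hne : ∃ s, HasPattern G ![1, 0, 2, 3] x s) :
    (invSet G ![1, 0, 2, 3] x).card * (Fintype.card α - f - 2) =
      (invSet G ![1, 0, 3, 2] x).card * (f * (f - 1)) := by
  classical
  set S : Finset (Perm α) := Finset.univ.filter fun s => s ∈ G ∧ s * s = 1 ∧ (fx s).card = f
  have key : ∀ π : Fin 4 → Fin 4, ∀ c : ℕ,
      (∀ y s, HasPattern G π y s → (fx s).card = f) →
      (∀ s ∈ S, (Finset.univ.filter fun y : Fin 4 ↪ α => HasPattern G π y s).card = c) →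
      S.card * c = Fintype.card (Fin 4 ↪ α) * (invSet G π x).card := by
    intro π c hf hc
    have := Finset.sum_card_bipartiteAbove_eq_sum_card_bipartiteBelow
      (r := fun (s : Perm α) (y : Fin 4 ↪ α) => HasPattern G π y s) (s := S) (t := Finset.univ)
    rw [Finset.sum_congr rfl (fun s hs =>
      (by rw [← hc s hs]; rfl : (Finset.univ.bipartiteAbove
        (fun (s : Perm α) (y : Fin 4 ↪ α) => HasPattern G π y s) s).card = c)),
      Finset.sum_const, smul_eq_mul] at this
    rw [this, Finset.sum_congr rfl (fun y _ => (?_ : _ = (invSet G π x).card)), Finset.sum_const,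
      Finset.card_univ, smul_eq_mul]
    rw [← invSet_card_eq hk π y x]
    refine congrArg Finset.card ?_
    ext s
    simp only [Finset.bipartiteBelow, Finset.mem_filter, mem_invSet, S, Finset.mem_univ, true_and]
    exact ⟨fun h => h.2, fun h => ⟨⟨h.1, h.2.1, hf y s h⟩, h⟩⟩
  have h1 := key _ ((Fintype.card α - f) * (f * (f - 1))) hU fun s hs => by
    obtain ⟨-, hs, h2, hf⟩ := Finset.mem_filter.1 hs
    rw [card_U_of G hs h2, hf]
  have h2 := key _ ((Fintype.card α - f) * (Fintype.card α - f - 2)) hW fun s hs => by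
    obtain ⟨-, hs, h2, hf⟩ := Finset.mem_filter.1 hs
    rw [card_W_of G hs h2, hf]
  obtain ⟨s, hs⟩ := hne
  haveI : Nonempty (Fin 4 ↪ α) := ⟨x⟩
  have hN : 0 < Fintype.card (Fin 4 ↪ α) := Fintype.card_pos
  refine Nat.eq_of_mul_eq_mul_left hN ?_
  rw [← mul_assoc, ← mul_assoc, ← h1, ← h2]
  ring

end Pattern

end CfsgLib.LW
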