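import Cfsg.Agent.Lib.Perm.LW.Counting
import Cfsg.Agent.Lib.Perm.StepTransitive

/-!
A `(k - 1)`-transitive group, `k ≥ 5`, inducing only even permutations on `k`-sets has small degree.
-/

set_option autoImplicit false
set_option linter.style.haveILetI false
set_option linter.unusedSectionVars false

namespace CfsgLib.LW

open Equiv

universe v

variable {α : Type v} [Fintype α] [DecidableEq α]

theorem odd_contra {G : Subgroup (Perm α)} {k : ℕ} (he : EvenSets G k) {g : Perm α} (hg : g ∈ G)
    {P : Finset α} {σ : Perm α} (hP : σ.support ⊆ P) (hag : ∀ x ∈ P, g x = σ x)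
    (hmov : ∀ x ∈ P, g x ≠ x) (hsign : Perm.sign σ = -1) (hPk : P.card ≤ k) :
    (fx g).card + P.card < k := by
  by_contra h
  push Not at h
  obtain ⟨S, hS, hSc⟩ := Finset.exists_subset_card_eq (show k - P.card ≤ (fx g).card by omega)
  have hdisj : Disjoint P S :=
    Finset.disjoint_left.2 fun x hx hxS => hmov x hx (mem_fx.1 (hS hxS))
  have h1 := he g hg (P ∪ S) (by rw [Finset.card_union_of_disjoint hdisj, hSc]; omega) σ
    (hP.trans Finset.subset_union_left) (fun x hx => by
      rcases Finset.mem_union.1 hx with hx | hx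
      · exact hag x hx
      · rw [mem_fx.1 (hS hx), Perm.notMem_support.1 fun h => Finset.disjoint_left.1 hdisj (hP h) hx])
  rw [hsign] at h1
  exact absurd h1 (by decide)

theorem swap_contra {G : Subgroup (Perm α)} {k : ℕ} (he : EvenSets G k) (hk : 2 ≤ k) {g : Perm α}
    (hg : g ∈ G) {a b : α} (hab : a ≠ b) (h1 : g a = b) (h2 : g b = a) :
    (fx g).card + 2 < k := by
  have := odd_contra he hg (P := {a, b}) (σ := Equiv.swap a b) (by rw [Perm.support_swap hab])
    (fun x hx => by
      rcases Finset.mem_insert.1 hx with rfl | hx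
      · rw [h1, Equiv.swap_apply_left]
      · rw [Finset.mem_singleton.1 hx, h2, Equiv.swap_apply_right])
    (fun x hx => by
      rcases Finset.mem_insert.1 hx with rfl | hx
      · rw [h1]; exact hab.symm
      · rw [Finset.mem_singleton.1 hx, h2]; exact hab)
    (Perm.sign_swap hab) (by rw [Finset.card_pair hab]; omega)
  rwa [Finset.card_pair hab] at this

theorem fx_parity_even {s : Perm α} (h : s * s = 1) : (fx s).card % 2 = Fintype.card α % 2 := by
  haveI : Fact (Nat.Prime 2) := ⟨Nat.prime_two⟩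
  have h1 := Equiv.Perm.card_compl_support_modEq (p := 2) (n := 1) (σ := s) (by simpa [sq] using h)
  rw [show s.supportᶜ = fx s by ext x; simp [mem_fx]] at h1
  exact h1

theorem eq_one_of_odd_order {L : Subgroup (Perm α)} (hodd : Odd (Nat.card L)) {l : Perm α}
    (hl : l ∈ L) (h : l * l = 1) : l = 1 := by
  have h1 := Subgroup.orderOf_dvd_natCard L hl
  have h2 : orderOf l ∣ 2 := orderOf_dvd_of_pow_eq_one (by rw [sq, h])
  rcases (Nat.dvd_prime Nat.prime_two).1 h2 with h3 | h3
  · exact orderOf_eq_one_iff.1 h3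
  · rw [h3] at h1
    exact absurd (even_iff_two_dvd.2 h1) (Nat.not_even_iff_odd.2 hodd)

theorem involution_contra {G : Subgroup (Perm α)} {k : ℕ} (he : EvenSets G k) (hk : 2 ≤ k)
    {g : Perm α} (hg : g ∈ G) (h2 : g * g = 1) (h1 : g ≠ 1) : (fx g).card + 2 < k := by
  obtain ⟨a, ha⟩ : ∃ a, g a ≠ a := by
    by_contra h
    push Not at h
    exact h1 (Equiv.ext h)
  exact swap_contra he hk hg (Ne.symm ha) rfl (apply_involutive h2 a)

/-- for `k ≥ 6` the hypotheses are contradictory -/
theorem no_even_large {G : Subgroup (Perm α)} {k : ℕ} (hk : KT G (k - 1)) (he : EvenSets G k)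
    (hk6 : 6 ≤ k) (hn : k + 2 ≤ Fintype.card α) : False := by
  classical
  obtain ⟨T, -, hT⟩ := Finset.exists_subset_card_eq (s := (Finset.univ : Finset α)) (n := k - 1)
    (by rw [Finset.card_univ]; omega)
  obtain ⟨a, ha⟩ := Finset.card_pos.1 (show 0 < T.card by omega)
  obtain ⟨b, hb⟩ := Finset.card_pos.1 (show 0 < (T.erase a).card by
    rw [Finset.card_erase_of_mem ha]; omega)
  obtain ⟨hba, hb⟩ := Finset.mem_erase.1 hb
  obtain ⟨g, hg, hgT⟩ := hk T hT.le (Equiv.swap a b)
  have hga : g a = b := by rw [hgT a ha, Equiv.swap_apply_left]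
  have hgb : g b = a := by rw [hgT b hb, Equiv.swap_apply_right]
  set C := (T.erase a).erase b
  have hCc : C.card = k - 3 := by
    rw [Finset.card_erase_of_mem (Finset.mem_erase.2 ⟨hba, hb⟩), Finset.card_erase_of_mem ha, hT]
    omega
  have hgC : ∀ x ∈ C, g x = x := by
    intro x hx
    simp only [C, Finset.mem_erase] at hx
    rw [hgT x hx.2.2, Equiv.swap_apply_of_ne_of_ne hx.2.1 hx.1]
  -- the two-part
  obtain ⟨i, o, ho, hio⟩ : ∃ i o, Odd o ∧ orderOf g = 2 ^ i * o := by
    obtain ⟨i, o, h1, h2⟩ := Nat.exists_eq_pow_mul_and_not_dvd (orderOf_pos g).ne' 2 (by norm_num)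
    exact ⟨i, o, Nat.odd_iff.2 (by omega), h2⟩
  set u := g ^ o with hu
  have huG : u ∈ G := pow_mem hg o
  have hua : u a = b := by rw [hu, odd_pow_apply (by rw [hga, hgb]) ho, hga]
  have hub : u b = a := by rw [hu, odd_pow_apply (by rw [hgb, hga]) ho, hgb]
  have huC : ∀ x ∈ C, u x = x := fun x hx => pow_apply_fixed (hgC x hx) o
  have hCsub : C ⊆ fx u := fun x hx => mem_fx.2 (huC x hx)
  have hsw := swap_contra he (by omega) huG hba.symm hua hub
  have hfu : (fx u).card = k - 3 := by
    have := Finset.card_le_card hCsub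
    omega
  have hpow : u ^ 2 ^ i = 1 := by rw [hu, ← pow_mul, mul_comm, ← hio, pow_orderOf_eq_one]
  haveI : Fact (Nat.Prime 2) := ⟨Nat.prime_two⟩
  obtain ⟨j, -, hj⟩ := (Nat.dvd_prime_pow Nat.prime_two).1 (orderOf_dvd_of_pow_eq_one hpow)
  by_cases hu2 : u * u = 1
  · -- three transpositions
    have hmov : (fx u)ᶜ.card = Fintype.card α - (k - 3) := by rw [Finset.card_compl, hfu]
    obtain ⟨a₂, ha₂⟩ := Finset.card_pos.1 (show 0 < (((fx u)ᶜ.erase a).erase b).card by
      rw [Finset.card_erase_of_mem (Finset.mem_erase.2 ⟨hba, Finset.mem_compl.2 fun h => hba (by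
          rw [← mem_fx.1 h, hub])⟩),
        Finset.card_erase_of_mem (Finset.mem_compl.2 fun h => hba (by
          rw [← mem_fx.1 h, hua])), hmov]
      omega)
    simp only [Finset.mem_erase, Finset.mem_compl, mem_fx] at ha₂
    obtain ⟨ha₂b, ha₂a, ha₂m⟩ := ha₂
    set b₂ := u a₂ with hb₂
    have hb₂a : b₂ ≠ a := fun e => ha₂b (by
      have := congrArg u e
      rwa [hb₂, apply_involutive hu2, hua] at this)
    have hb₂b : b₂ ≠ b := fun e => ha₂a (by
      have := congrArg u e
      rwa [hb₂, apply_involutive hu2, hub] at this)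
    obtain ⟨a₃, ha₃⟩ := Finset.card_pos.1 (show 0 < ((fx u)ᶜ \ {a, b, a₂, b₂}).card by
      have h1 := Finset.card_le_card_sdiff_add_card (s := (fx u)ᶜ) (t := {a, b, a₂, b₂})
      have h2 : ({a, b, a₂, b₂} : Finset α).card ≤ 4 := Finset.card_le_four
      omega)
    simp only [Finset.mem_sdiff, Finset.mem_compl, mem_fx, Finset.mem_insert, Finset.mem_singleton,
      not_or] at ha₃
    obtain ⟨ha₃m, ha₃a, ha₃b, ha₃2, ha₃b2⟩ := ha₃
    set b₃ := u a₃ with hb₃
    have hb₃a : b₃ ≠ a := fun e => ha₃b (by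
      have := congrArg u e
      rwa [hb₃, apply_involutive hu2, hua] at this)
    have hb₃b : b₃ ≠ b := fun e => ha₃a (by
      have := congrArg u e
      rwa [hb₃, apply_involutive hu2, hub] at this)
    have hb₃2 : b₃ ≠ a₂ := fun e => ha₃b2 (by
      have := congrArg u e
      rwa [hb₃, apply_involutive hu2] at this)
    have hb₃b2 : b₃ ≠ b₂ := fun e => ha₃2 (u.injective e)
    have := odd_contra he huG (P := {a, b, a₂, b₂, a₃, b₃})
      (σ := Equiv.swap a b * Equiv.swap a₂ b₂ * Equiv.swap a₃ b₃) ?_ ?_ ?_ ?_ ?_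
    · have h3 : 3 ≤ ({a, b, a₂, b₂, a₃, b₃} : Finset α).card :=
        (Finset.card_eq_three.2 ⟨a, b, a₂, hba.symm, Ne.symm ha₂a, Ne.symm ha₂b, rfl⟩).ge.trans
          (Finset.card_le_card (fun z hz => by
            simp only [Finset.mem_insert, Finset.mem_singleton] at hz ⊢
            tauto))
      omega
    · intro x hx
      rw [Perm.mem_support] at hx
      by_contra hxP
      simp only [Finset.mem_insert, Finset.mem_singleton, not_or] at hxP
      exact hx (by simp [Equiv.swap_apply_of_ne_of_ne, hxP])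
    · intro x hx
      simp only [Finset.mem_insert, Finset.mem_singleton] at hx
      rcases hx with rfl | rfl | rfl | rfl | rfl | rfl <;>
        simp [Equiv.swap_apply_of_ne_of_ne, hua, hub, hba, hba.symm, ha₂a, Ne.symm ha₂a, hb₂a,
          Ne.symm hb₂a, ha₃a, Ne.symm ha₃a, hb₃a, Ne.symm hb₃a, ha₂b, Ne.symm ha₂b, hb₂b,
          Ne.symm hb₂b, ha₃b, Ne.symm ha₃b, hb₃b, Ne.symm hb₃b, ha₃2, Ne.symm ha₃2, hb₃2,
          Ne.symm hb₃2, ha₃b2, Ne.symm ha₃b2, hb₃b2, Ne.symm hb₃b2, ← hb₂, ← hb₃] <;>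
        simp [hb₂, hb₃, apply_involutive hu2]
    · intro x hx
      simp only [Finset.mem_insert, Finset.mem_singleton] at hx
      rcases hx with rfl | rfl | rfl | rfl | rfl | rfl
      · rw [hua]; exact hba
      · rw [hub]; exact hba.symm
      · exact ha₂m
      · rw [hb₂, apply_involutive hu2]; exact Ne.symm ha₂m
      · exact ha₃m
      · rw [hb₃, apply_involutive hu2]; exact Ne.symm ha₃m
    · rw [map_mul, map_mul, Perm.sign_swap hba.symm, Perm.sign_swap (Ne.symm ha₂m),
        Perm.sign_swap (Ne.symm ha₃m)]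
      decide
    · calc ({a, b, a₂, b₂, a₃, b₃} : Finset α).card ≤ 6 := Finset.card_le_six
        _ ≤ k := hk6
  · -- a four-cycle
    have hj2 : 2 ≤ j := by
      by_contra h
      have h2 : u ^ 2 = 1 := by
        have h3 : orderOf u ∣ 2 := hj ▸ (Nat.pow_dvd_pow 2 (show j ≤ 1 by omega))
        exact orderOf_dvd_iff_pow_eq_one.1 h3
      exact hu2 (by rwa [sq] at h2)
    set h := u ^ 2 ^ (j - 2) with hh
    have h4 : h ^ 4 = 1 := by
      rw [hh, ← pow_mul, show 2 ^ (j - 2) * 4 = 2 ^ j by
        rw [show (4 : ℕ) = 2 ^ 2 by norm_num, ← pow_add]; congr 1; omega, ← hj, pow_orderOf_eq_one]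
    obtain ⟨a', ha'⟩ : ∃ a', h (h a') ≠ a' := by
      by_contra hne
      push Not at hne
      have : u ^ (2 ^ (j - 1)) = 1 := by
        rw [show 2 ^ (j - 1) = 2 ^ (j - 2) * 2 by
          rw [← pow_succ]; congr 1; omega, pow_mul, ← hh, sq]
        exact Equiv.ext hne
      have h3 := orderOf_dvd_of_pow_eq_one this
      rw [hj, Nat.pow_dvd_pow_iff_le_right (by norm_num)] at h3
      omega
    set b' := h a' with hb'
    set c' := h b' with hc'
    set e' := h c' with he'
    have hea : h e' = a' := by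
      have h5 := congrArg (fun f : Perm α => f a') h4
      simp only [pow_succ, pow_zero, one_mul, Perm.mul_apply, Perm.one_apply] at h5
      rw [he', hc', hb']
      exact h5
    have hab' : a' ≠ b' := fun e => ha' (((congrArg h e.symm : h b' = h a')).trans e.symm)
    have hac' : a' ≠ c' := Ne.symm ha'
    have hae' : a' ≠ e' := fun e => by
      have h1 := congrArg h e
      rw [hea, ← hb'] at h1
      exact hab' h1.symm
    have hbc' : b' ≠ c' := fun e => hab' (h.injective (by rw [← hb', ← hc']; exact e))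
    have hbe' : b' ≠ e' := fun e => hac' (h.injective (by rw [← hb', ← he']; exact e))
    have hce' : c' ≠ e' := fun e => hbc' (h.injective (by rw [← hc', ← he']; exact e))
    have hfh : k - 3 ≤ (fx h).card := hfu ▸ Finset.card_le_card (fx_subset_fx_pow u _)
    have := odd_contra he (show h ∈ G from pow_mem huG _) (P := {a', b', c', e'})
      (σ := Equiv.swap a' b' * Equiv.swap b' c' * Equiv.swap c' e') ?_ ?_ ?_ ?_ ?_
    · have h4c : 3 ≤ ({a', b', c', e'} : Finset α).card :=
        (Finset.card_eq_three.2 ⟨a', b', c', hab', hac', hbc', rfl⟩).ge.trans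
          (Finset.card_le_card (fun z hz => by
            simp only [Finset.mem_insert, Finset.mem_singleton] at hz ⊢
            tauto))
      omega
    · intro x hx
      rw [Perm.mem_support] at hx
      by_contra hxP
      simp only [Finset.mem_insert, Finset.mem_singleton, not_or] at hxP
      exact hx (by simp [Equiv.swap_apply_of_ne_of_ne, hxP])
    · intro x hx
      simp only [Finset.mem_insert, Finset.mem_singleton] at hx
      rcases hx with rfl | rfl | rfl | rfl <;>
        simp [Equiv.swap_apply_of_ne_of_ne, hea, ← hb', ← hc', ← he', hab', Ne.symm hab', hac',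
          Ne.symm hac', hae', Ne.symm hae', hbc', Ne.symm hbc', hbe', Ne.symm hbe', hce',
          Ne.symm hce']
    · intro x hx
      simp only [Finset.mem_insert, Finset.mem_singleton] at hx
      rcases hx with rfl | rfl | rfl | rfl
      · exact Ne.symm hab'
      · exact Ne.symm hbc'
      · exact Ne.symm hce'
      · rw [hea]; exact hae'
    · rw [map_mul, map_mul, Perm.sign_swap hab', Perm.sign_swap hbc', Perm.sign_swap hce']
      decide
    · calc ({a', b', c', e'} : Finset α).card ≤ 4 := Finset.card_le_four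
        _ ≤ k := by omega

theorem evenSets_restr {G : Subgroup (Perm α)} {k : ℕ} (he : EvenSets G k) (F : Finset α) :
    EvenSets (restr G F) k := by
  rintro h ⟨g, hg, hgh⟩ T hT σ hσ hag
  rw [← Perm.sign_ofSubtype σ]
  refine he g hg (T.map (Function.Embedding.subtype _)) (by rw [Finset.card_map, hT]) _ ?_ ?_
  · intro x hx
    rw [Perm.mem_support] at hx
    by_cases hxF : x ∈ F
    · rw [Finset.mem_map]
      refine ⟨⟨x, hxF⟩, hσ (Perm.mem_support.2 fun e => hx ?_), rfl⟩
      rw [Perm.ofSubtype_apply_of_mem σ hxF, e]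
    · exact absurd (Perm.ofSubtype_apply_of_not_mem σ hxF) hx
  · intro x hx
    obtain ⟨w, hw, rfl⟩ := Finset.mem_map.1 hx
    rw [Function.Embedding.subtype_apply, hgh, hag w hw, Perm.ofSubtype_apply_coe]

theorem five_contra {G : Subgroup (Perm α)} (hk : KT G 4) (he : EvenSets G 5)
    (hn : Fintype.card α = 5) : False := by
  obtain ⟨a, b, hab⟩ := Fintype.exists_pair_of_one_lt_card (show 1 < Fintype.card α by omega)
  obtain ⟨c, hc⟩ := Finset.card_pos.1
    (show 0 < ((Finset.univ : Finset α).erase a |>.erase b).card by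
      rw [Finset.card_erase_of_mem (Finset.mem_erase.2 ⟨hab.symm, Finset.mem_univ b⟩),
        Finset.card_erase_of_mem (Finset.mem_univ a), Finset.card_univ]
      omega)
  simp only [Finset.mem_erase, Finset.mem_univ, and_true] at hc
  obtain ⟨g, hg, hgT⟩ := hk ((Finset.univ : Finset α).erase c) (by
    rw [Finset.card_erase_of_mem (Finset.mem_univ c), Finset.card_univ]; omega) (Equiv.swap a b)
  have hall : ∀ x, g x = Equiv.swap a b x := by
    intro x
    by_cases hx : x = c
    · subst hx
      by_contra hne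
      have h1 : g x = (Equiv.swap a b) ((Equiv.swap a b)⁻¹ (g x)) := by simp
      have h2 : (Equiv.swap a b)⁻¹ (g x) ≠ x := fun e => hne (by rw [e] at h1; exact h1)
      rw [← hgT _ (Finset.mem_erase.2 ⟨h2, Finset.mem_univ _⟩)] at h1
      exact h2 (g.injective h1).symm
    · exact hgT x (Finset.mem_erase.2 ⟨hx, Finset.mem_univ _⟩)
  have := he g hg Finset.univ (by rw [Finset.card_univ, hn]) (Equiv.swap a b) (Finset.subset_univ _)
    (fun x _ => hall x)
  rw [Perm.sign_swap hab] at this
  exact absurd this (by decide)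

/-- the group of permutations induced by conjugation fixes some Sylow subgroup -/
theorem exists_invariant_sylow {C : Subgroup (Perm α)} (hodd : Odd (Nat.card C)) {q : ℕ}
    [Fact q.Prime] {t : Perm α} (ht : t * t = 1) (hn : ∀ l ∈ C, t * l * t ∈ C) :
    ∃ Q : Subgroup (Perm α), Q ≤ C ∧ IsPGroup q Q ∧
      Nat.card Q = q ^ (Nat.card C).factorization q ∧ ∀ y ∈ Q, t * y * t ∈ Q := by
  classical
  let φ : C ≃* C :=
    { toFun := fun l => ⟨t * l * t, hn l l.2⟩
      invFun := fun l => ⟨t * l * t, hn l l.2⟩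
      left_inv := fun l => Subtype.ext (by simp [mul_assoc, ht, ← mul_assoc t t])
      right_inv := fun l => Subtype.ext (by simp [mul_assoc, ht, ← mul_assoc t t])
      map_mul' := fun a b => Subtype.ext (by simp [mul_assoc, ← mul_assoc t t, ht]) }
  letI : Fintype (Sylow q C) := Fintype.ofFinite _
  have hφ : ∀ P : Sylow q C, IsPGroup q ((P : Subgroup C).map φ.toMonoidHom) := fun P =>
    P.isPGroup'.map _
  let σ : Sylow q C → Sylow q C := fun P => Sylow.ofCard ((P : Subgroup C).map φ.toMonoidHom) (by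
    rw [← Nat.card_congr (Subgroup.equivMapOfInjective _ _ φ.injective).toEquiv]
    exact P.card_eq_multiplicity)
  have hσ : ∀ P, σ (σ P) = P := by
    intro P
    refine Sylow.ext ?_
    show ((P : Subgroup C).map φ.toMonoidHom).map φ.toMonoidHom = P
    rw [Subgroup.map_map]
    convert Subgroup.map_id (P : Subgroup C) using 2
    exact MonoidHom.ext fun l => φ.left_inv l
  haveI : Fact (Nat.Prime 2) := ⟨Nat.prime_two⟩
  have hodd' : ¬ 2 ∣ Fintype.card (Sylow q C) := by
    rw [← Nat.card_eq_fintype_card]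
    intro h
    exact Nat.not_even_iff_odd.2 hodd (even_iff_two_dvd.2
      (h.trans (Sylow.card_dvd_index (default : Sylow q C) |>.trans
        (Subgroup.index_dvd_card _))))
  obtain ⟨P, hP⟩ := Equiv.Perm.exists_fixed_point_of_prime (p := 2) (n := 1) hodd'
    (σ := ⟨σ, σ, hσ, hσ⟩) (Equiv.ext fun P => by simpa [sq] using hσ P)
  refine ⟨(P : Subgroup C).map C.subtype, Subgroup.map_subtype_le _, P.isPGroup'.map _, ?_, ?_⟩
  · rw [← Nat.card_congr (Subgroup.equivMapOfInjective _ _ C.subtype_injective).toEquiv]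
    exact P.card_eq_multiplicity
  · rintro _ ⟨y, hy, rfl⟩
    have h1 : φ y ∈ ((σ P : Sylow q C) : Subgroup C) := ⟨y, hy, rfl⟩
    have h2 : σ P = P := hP
    rw [h2] at h1
    exact ⟨φ y, h1, rfl⟩

theorem even_five_aux : ∀ n : ℕ, ∀ {β : Type v} [Fintype β] [DecidableEq β]
    (G : Subgroup (Perm β)), Fintype.card β = n → KT G 4 → EvenSets G 5 → n ≤ 6 := by
  intro n
  induction n using Nat.strong_induction_on with
  | _ n ih =>
  intro β _ _ G hn hk he
  by_contra hn6
  classical
  have hinv : ∀ s ∈ G, s * s = 1 → s ≠ 1 → (fx s).card ≤ 2 := fun s hs h2 h1 => by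
    have := involution_contra he (by norm_num) hs h2 h1
    omega
  have hodd : ∀ x : Fin 4 ↪ β, Odd (Nat.card (fix G (quad x))) := by
    intro x
    rw [← Nat.not_even_iff_odd, even_iff_two_dvd]
    intro h
    haveI : Fact (Nat.Prime 2) := ⟨Nat.prime_two⟩
    obtain ⟨t, ht⟩ := exists_prime_orderOf_dvd_card' (G := fix G (quad x)) 2 h
    rw [← Subgroup.orderOf_coe] at ht
    have h1 := hinv t (mem_fix.1 t.2).1 (by rw [← sq, ← ht, pow_orderOf_eq_one])
      (fun e => by rw [e, orderOf_one] at ht; norm_num at ht)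
    have h2 : (quad x).card ≤ (fx (t : Perm β)).card :=
      Finset.card_le_card fun y hy => mem_fx.2 ((mem_fix.1 t.2).2 y hy)
    rw [card_quad] at h2
    omega
  obtain ⟨T₀, -, hT₀⟩ := Finset.exists_subset_card_eq (s := (Finset.univ : Finset β)) (n := 4)
    (by rw [Finset.card_univ]; omega)
  let x : Fin 4 ↪ β := (T₀.equivFinOfCardEq hT₀).symm.toEmbedding.trans (Function.Embedding.subtype _)
  obtain ⟨u, hu⟩ := exists_pattern hk hodd (Equiv.swap 0 1) (by decide) x
  rw [show (⇑(Equiv.swap (0 : Fin 4) 1)) = ![1, 0, 2, 3] from funext (by decide)] at hu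
  have hfU : ∀ y s, HasPattern G ![1, 0, 2, 3] y s → (fx s).card = 2 := by
    intro y s h
    refine le_antisymm (hinv s h.1 h.2.1 fun e => ?_) ?_
    · exact y.injective.ne (show (0 : Fin 4) ≠ 1 by decide) (by simpa [e] using h.2.2 0)
    · refine le_of_eq_of_le ?_ (Finset.card_le_card (s := {y 2, y 3}) ?_)
      · rw [Finset.card_pair (y.injective.ne (by decide))]
      · intro z hz
        rcases Finset.mem_insert.1 hz with rfl | hz
        · exact mem_fx.2 (h.2.2 2)
        · rw [Finset.mem_singleton.1 hz]; exact mem_fx.2 (h.2.2 3)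
  have hpar := fx_parity_even hu.2.1
  rw [hfU x u hu] at hpar
  obtain ⟨S, hS⟩ : ∃ S, Fintype.card β - 4 = 2 * S := ⟨(Fintype.card β - 4) / 2, by omega⟩
  obtain ⟨c, hc⟩ : ∃ c, c ∈ (fx u)ᶜ \ {x 0, x 1} := by
    refine Finset.card_pos.1 (lt_of_lt_of_le ?_ (Finset.le_card_sdiff _ _))
    rw [Finset.card_compl, hfU x u hu, Finset.card_pair (x.injective.ne (by decide))]
    omega
  obtain ⟨hc1, hc2⟩ := Finset.mem_sdiff.1 hc
  rw [Finset.mem_compl, mem_fx] at hc1
  simp only [Finset.mem_insert, Finset.mem_singleton, not_or] at hc2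
  have hu01 : u (x 0) = x 1 := hu.2.2 0
  have hu10 : u (x 1) = x 0 := hu.2.2 1
  let y₁ : Fin 4 ↪ β := mkQuad (x 0) (x 1) c (u c) (x.injective.ne (by decide)) (Ne.symm hc2.1)
    (fun e => hc2.2 (by rw [← hu01, e, apply_involutive hu.2.1])) (Ne.symm hc2.2)
    (fun e => hc2.1 (by rw [← hu10, e, apply_involutive hu.2.1])) (Ne.symm hc1)
  have hw₁ : HasPattern G ![1, 0, 3, 2] y₁ u := isW_iff.1 ⟨hu.1, hu.2.1, hu01, rfl⟩
  have hfW : ∀ y s, HasPattern G ![1, 0, 3, 2] y s → (fx s).card = 2 := fun y s h =>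
    (fx_const hk hodd h hw₁).trans (hfU x u hu)
  -- the key relation between the centralizers
  have hkey : ∀ (y : Fin 4 ↪ β) (s t : Perm β), HasPattern G ![1, 0, 2, 3] y s →
      HasPattern G ![1, 0, 3, 2] y t →
      Nat.card ↥(fix G (quad y) ⊓ Subgroup.centralizer ({s} : Set (Perm β))) =
        S * Nat.card ↥(fix G (quad y) ⊓ Subgroup.centralizer ({t} : Set (Perm β))) := by
    intro y s t hs ht
    have h1 := count hk y hfU hfW ⟨s, hs⟩
    have e1 := invSet_card_mul hodd hs
    have e2 := invSet_card_mul hodd ht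
    have hpos : 0 < (invSet G ![1, 0, 2, 3] y).card := Finset.card_pos.2 ⟨s, mem_invSet.2 hs⟩
    have h2 : (invSet G ![1, 0, 3, 2] y).card = (invSet G ![1, 0, 2, 3] y).card * S := by
      rw [show Fintype.card β - 2 - 2 = 2 * S by omega] at h1
      have : (invSet G ![1, 0, 3, 2] y).card * 2 = (invSet G ![1, 0, 2, 3] y).card * S * 2 := by
        rw [show (2 : ℕ) * (2 - 1) = 2 by norm_num] at h1
        rw [← h1]; ring
      omega
    refine Nat.eq_of_mul_eq_mul_left hpos ?_
    rw [e1, ← e2, h2, mul_assoc]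
  -- primes of five-point stabilizers do not divide `S`
  have hsix : ∀ (o : β), o ∉ quad x → ∀ p : ℕ, p.Prime →
      p ∣ Nat.card (fix G (insert o (quad x))) → ¬ p ∣ S := by
    intro o ho p hp hpd hpS
    haveI : Fact p.Prime := ⟨hp⟩
    obtain ⟨h, hh⟩ := exists_prime_orderOf_dvd_card' (G := fix G (insert o (quad x))) p hpd
    rw [← Subgroup.orderOf_coe] at hh
    have hsub : insert o (quad x) ⊆ fx (h : Perm β) := fun y hy => mem_fx.2 ((mem_fix.1 h.2).2 y hy)
    have hc5 : (insert o (quad x)).card = 5 := by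
      rw [Finset.card_insert_of_notMem ho, card_quad]
    obtain ⟨R, hRG, hRp, hhR, hRf, hmax⟩ := exists_max (k := 4) hp (mem_fix.1 h.2).1 hh
      (le_of_eq_of_le hc5.symm (Finset.card_le_card hsub))
    have hp2 : p ≠ 2 := by
      rintro rfl
      have := hinv h (mem_fix.1 h.2).1 (by rw [← sq, ← hh, pow_orderOf_eq_one])
        (fun e => by rw [e, orderOf_one] at hh; norm_num at hh)
      have := Finset.card_le_card hsub
      omega
    have hlt : (fxS R).card < n := by
      rw [← hn, ← Finset.card_univ]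
      refine Finset.card_lt_card ((Finset.subset_univ _).ssubset_of_ne fun e => ?_)
      refine hp.ne_one (hh.symm.trans (orderOf_eq_one_iff.2 (Equiv.ext fun y => ?_)))
      exact mem_fxS.1 (e ▸ Finset.mem_univ y) _ hhR
    have hk' := descent hk (by norm_num) hp hRG hRp hRf hmax
    have h6 := ih _ hlt (restr G (fxS R)) (Fintype.card_coe _) hk' (evenSets_restr he _)
    have h5 : (fxS R).card ≠ 5 := fun e =>
      five_contra hk' (evenSets_restr he _) ((Fintype.card_coe _).trans e)
    have hmod := hRp.card_modEq_card_fixedPoints (α := β)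
    have hfp : Nat.card (MulAction.fixedPoints R β) = (fxS R).card := by
      rw [Nat.card_coe_set_eq, ← Set.ncard_coe_finset]
      congr 1
      ext y
      simp only [MulAction.mem_fixedPoints, Finset.mem_coe, mem_fxS, Subtype.forall]
      exact Iff.rfl
    rw [hfp, Nat.card_eq_fintype_card, show (fxS R).card = 6 by omega] at hmod
    have h7 : p ∣ Fintype.card β - 6 := (Nat.modEq_iff_dvd' (by omega)).1 hmod.symm
    have h8 : p ∣ Fintype.card β - 4 := hS ▸ dvd_mul_of_dvd_right hpS 2
    have h9 := Nat.dvd_sub h8 h7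
    rw [show Fintype.card β - 4 - (Fintype.card β - 6) = 2 by omega] at h9
    exact hp2 ((Nat.prime_dvd_prime_iff_eq hp Nat.prime_two).1 h9)
  -- a prime dividing `S`
  obtain ⟨q, hq, hqS⟩ := Nat.exists_prime_and_dvd (show S ≠ 1 by omega)
  haveI : Fact q.Prime := ⟨hq⟩
  set L := fix G (quad x) with hL
  -- `q`-groups are semiregular outside
  have hsemi : ∀ Q : Subgroup (Perm β), Q ≤ L → IsPGroup q Q → Nat.card Q ∣ 2 * S := by
    intro Q hQ hQp
    have hstab : ∀ o, o ∉ quad x → ∀ y ∈ Q, y o = o → y = 1 := by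
      intro o ho y hy hyo
      by_contra hy1
      obtain ⟨i, hi⟩ := hQp ⟨y, hy⟩
      have hi' : y ^ q ^ i = 1 := by simpa using congrArg Subtype.val hi
      obtain ⟨j, -, hj⟩ := (Nat.dvd_prime_pow hq).1 (orderOf_dvd_of_pow_eq_one hi')
      rcases Nat.eq_zero_or_pos j with rfl | hjpos
      · exact hy1 (orderOf_eq_one_iff.1 (by rw [hj, pow_zero]))
      have hym : y ∈ fix G (insert o (quad x)) := mem_fix.2 ⟨(mem_fix.1 (hQ hy)).1, fun z hz => by
        rcases Finset.mem_insert.1 hz with rfl | hz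
        · exact hyo
        · exact (mem_fix.1 (hQ hy)).2 z hz⟩
      refine hsix o ho q hq ((dvd_pow_self q hjpos.ne').trans ?_) hqS
      rw [← hj]
      exact Subgroup.orderOf_dvd_natCard _ hym
    have h := Cfsg.Agent.Lib.Perm.dvd_ncard_of_orbits (G := Q) (c := Nat.card Q)
      (((quad x)ᶜ : Finset β) : Set β) (Set.toFinite _) (fun g z hz => ?_) (fun z hz => ?_)
    · rwa [Set.ncard_coe_finset, Finset.card_compl, card_quad, hS] at h
    · simp only [Finset.coe_compl, Set.mem_compl_iff, Finset.mem_coe] at hz ⊢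
      intro h
      refine hz ?_
      have h1 := (mem_fix.1 (hQ g.2)).2 _ h
      rwa [(g : Perm β).injective h1] at h
    · simp only [Finset.coe_compl, Set.mem_compl_iff, Finset.mem_coe] at hz
      have hbot : MulAction.stabilizer Q z = ⊥ := (Subgroup.eq_bot_iff_forall _).2 fun g hg =>
        Subtype.ext (hstab z hz g g.2 hg)
      rw [← MulAction.index_stabilizer, hbot, Subgroup.index_bot]
  -- the four-group
  obtain ⟨u', hu', hcomm⟩ : ∃ u', HasPattern G ![0, 1, 3, 2] x u' ∧ u * u' * u = u' := by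
    let I := invSet G ![0, 1, 3, 2] x
    have hI : ∀ s ∈ I, u * s * u ∈ I := by
      intro s hs
      obtain ⟨h1, h2, h3⟩ := mem_invSet.1 hs
      refine mem_invSet.2 ⟨mul_mem (mul_mem hu.1 h1) hu.1, ?_, fun i => ?_⟩
      · simp [mul_assoc, ← mul_assoc u u, hu.2.1, ← mul_assoc s s, h2]
      · rw [Perm.mul_apply, Perm.mul_apply, hu.2.2, h3, hu.2.2]
        congr 1
        revert i; decide
    obtain ⟨s, hs⟩ := exists_pattern hk hodd (Equiv.swap 2 3) (by decide) x
    rw [show (⇑(Equiv.swap (2 : Fin 4) 3)) = ![0, 1, 3, 2] from funext (by decide)] at hs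
    have hIodd : ¬ 2 ∣ Fintype.card I := by
      rw [Fintype.card_coe]
      intro h
      exact Nat.not_even_iff_odd.2 (hodd x) (even_iff_two_dvd.2
        (h.trans ⟨_, (invSet_card_mul hodd hs).symm⟩))
    haveI : Fact (Nat.Prime 2) := ⟨Nat.prime_two⟩
    let σ : I → I := fun s => ⟨u * s * u, hI s s.2⟩
    have hσ : ∀ s, σ (σ s) = s := fun s => Subtype.ext (by
      simp [σ, mul_assoc, ← mul_assoc u u, hu.2.1])
    obtain ⟨s', hs'⟩ := Equiv.Perm.exists_fixed_point_of_prime (p := 2) (n := 1) hIodd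
      (σ := ⟨σ, σ, hσ, hσ⟩) (Equiv.ext fun s => by simpa [sq] using hσ s)
    exact ⟨s', mem_invSet.1 s'.2, congrArg Subtype.val hs'⟩
  have huu : u' * u = u * u' := by
    calc u' * u = u * u' * u * u := by rw [hcomm]
      _ = u * u' := by rw [mul_assoc (u * u'), hu.2.1, mul_one]
  set w := u * u' with hwdef
  have hw : HasPattern G ![1, 0, 3, 2] x w := by
    refine ⟨mul_mem hu.1 hu'.1, ?_, fun i => ?_⟩
    · rw [hwdef, ← mul_assoc (u * u') u u', mul_assoc u u' u, huu, ← mul_assoc u u u',
        hu.2.1, one_mul, hu'.2.1]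
    · rw [hwdef, Perm.mul_apply, hu'.2.2, hu.2.2]
      congr 1
      revert i; decide
  set τ : Perm (Fin 4) := Equiv.swap 0 2 * Equiv.swap 1 3 with hτ
  let x' : Fin 4 ↪ β := τ.toEmbedding.trans x
  have hquad : quad x' = quad x := by
    ext z
    simp only [mem_quad, x', Function.Embedding.trans_apply, Equiv.coe_toEmbedding]
    exact τ.exists_congr_left.trans (by simp)
  have hu'U : HasPattern G ![1, 0, 2, 3] x' u' := ⟨hu'.1, hu'.2.1, fun i => by
    simp only [x', Function.Embedding.trans_apply, Equiv.coe_toEmbedding, hu'.2.2]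
    congr 1; revert i; decide⟩
  have hwW' : HasPattern G ![1, 0, 3, 2] x' w := ⟨hw.1, hw.2.1, fun i => by
    simp only [x', Function.Embedding.trans_apply, Equiv.coe_toEmbedding, hw.2.2]
    congr 1; revert i; decide⟩
  set Cu := L ⊓ Subgroup.centralizer ({u} : Set (Perm β)) with hCu
  set Cu' := L ⊓ Subgroup.centralizer ({u'} : Set (Perm β)) with hCu'
  set Cw := L ⊓ Subgroup.centralizer ({w} : Set (Perm β)) with hCw
  have ecu : Nat.card Cu = S * Nat.card Cw := hkey x u w hu hw
  have ecu' : Nat.card Cu' = S * Nat.card Cw := by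
    have h := hkey x' u' w hu'U hwW'
    rwa [hquad] at h
  -- `q` does not divide the centralizer of `w`
  have hqw : ¬ q ∣ Nat.card Cw := by
    obtain ⟨o, o', hoo, hfw⟩ := Finset.card_eq_two.1 (hfW x w hw)
    have hout : ∀ z ∈ fx w, z ∉ quad x := by
      intro z hz hzq
      obtain ⟨i, rfl⟩ := mem_quad.1 hzq
      rw [mem_fx, hw.2.2] at hz
      exact absurd (x.injective hz) ((by decide : ∀ i : Fin 4, ![(1 : Fin 4), 0, 3, 2] i ≠ i) i)
    have ho : o ∈ fx w := hfw ▸ Finset.mem_insert_self o _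
    intro h
    refine hsix o (hout o ho) q hq (h.trans (Subgroup.card_dvd_of_le ?_)) hqS
    rintro l ⟨hl, hlw⟩
    refine mem_fix.2 ⟨(mem_fix.1 hl).1, fun z hz => ?_⟩
    rcases Finset.mem_insert.1 hz with rfl | hz
    · have hcw := Subgroup.mem_centralizer_singleton_iff.1 hlw
      have himg : ∀ y ∈ fx w, l y ∈ fx w := fun y hy => mem_fx.2 (by
        rw [← Perm.mul_apply, ← hcw, Perm.mul_apply, mem_fx.1 hy])
      have hl2 : l (l z) = z := by
        have h1 := himg z ho
        have h2 := himg o' (hfw ▸ Finset.mem_insert_of_mem (Finset.mem_singleton_self o'))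
        rw [hfw, Finset.mem_insert, Finset.mem_singleton] at h1 h2
        rcases h1 with e | e
        · rw [e, e]
        · rcases h2 with e2 | e2
          · rw [e, e2]
          · exact absurd (l.injective (e.trans e2.symm)) hoo
      have h3 := odd_pow_apply hl2 (hodd x)
      have h4 : l ^ Nat.card L = 1 := (Subgroup.coe_pow L ⟨l, hl⟩ _).symm.trans
        (congrArg Subtype.val (pow_card_eq_one' (x := (⟨l, hl⟩ : L))))
      rw [← hL, h4] at h3
      exact h3.symm
    · exact (mem_fix.1 hl).2 z hz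
  have hd0 : Nat.card L ≠ 0 := Nat.card_pos.ne'
  have hoddL : Odd (Nat.card L) := hodd x
  have hq2 : q ≠ 2 := by
    rintro rfl
    refine Nat.not_even_iff_odd.2 (hoddL.of_dvd_nat (?_ : 2 ∣ Nat.card L)) even_two
    exact (hqS.trans ⟨_, ecu⟩).trans (Subgroup.card_dvd_of_le inf_le_left)
  -- full Sylow subgroups centralized by `u` and by `u'`
  have hfull : ∀ C : Subgroup (Perm β), C ≤ L → Nat.card C = S * Nat.card Cw →
      (Nat.card C).factorization q = (Nat.card L).factorization q := by
    intro C hC hCc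
    obtain ⟨P⟩ := Sylow.nonempty (p := q) (G := L)
    have h1 : q ^ (Nat.card L).factorization q ∣ 2 * S := by
      rw [← P.card_eq_multiplicity,
        Nat.card_congr (Subgroup.equivMapOfInjective _ _ L.subtype_injective).toEquiv]
      exact hsemi _ (Subgroup.map_subtype_le _) (P.isPGroup'.map _)
    have hS0 : S ≠ 0 := by omega
    have h2 := (hq.pow_dvd_iff_le_factorization (by omega)).1 h1
    have h3 : (2 * S).factorization q = S.factorization q := by
      rw [Nat.factorization_mul two_ne_zero hS0, Finsupp.add_apply,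
        Nat.factorization_eq_zero_of_not_dvd fun h =>
          hq2 ((Nat.prime_dvd_prime_iff_eq hq Nat.prime_two).1 h), zero_add]
    have h4 : (Nat.card C).factorization q = S.factorization q := by
      rw [hCc, Nat.factorization_mul hS0 Nat.card_pos.ne', Finsupp.add_apply,
        Nat.factorization_eq_zero_of_not_dvd hqw, add_zero]
    have h5 := (Nat.factorization_le_iff_dvd Nat.card_pos.ne' hd0).2 (Subgroup.card_dvd_of_le hC) q
    omega
  have hnorm : ∀ (t : Perm β), HasPattern G ![1, 0, 2, 3] x t ∨ HasPattern G ![0, 1, 3, 2] x t →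
      ∀ l ∈ L, t * l * t ∈ L := by
    intro t ht l hl
    obtain ⟨π, hp⟩ : ∃ π, HasPattern G π x t := ht.elim (fun h => ⟨_, h⟩) fun h => ⟨_, h⟩
    obtain ⟨h1, h2⟩ := mem_fix.1 hl
    refine mem_fix.2 ⟨mul_mem (mul_mem hp.1 h1) hp.1, fun y hy => ?_⟩
    obtain ⟨i, rfl⟩ := mem_quad.1 hy
    rw [Perm.mul_apply, Perm.mul_apply, hp.2.2, h2 _ (mem_quad.2 ⟨_, rfl⟩), ← hp.2.2,
      apply_involutive hp.2.1]
  obtain ⟨Q, hQ, hQp, hQc, hQinv⟩ := exists_invariant_sylow (q := q) (C := Cu)
    (hoddL.of_dvd_nat (Subgroup.card_dvd_of_le inf_le_left)) hu'.2.1 (by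
      rintro l ⟨hl, hlu⟩
      refine ⟨hnorm u' (Or.inr hu') l hl, Subgroup.mem_centralizer_singleton_iff.2 ?_⟩
      have hlu' := Subgroup.mem_centralizer_singleton_iff.1 hlu
      calc u' * l * u' * u = u' * l * (u' * u) := mul_assoc _ _ _
        _ = u' * l * (u * u') := by rw [huu]
        _ = u' * (l * u) * u' := by simp only [hwdef, mul_assoc]
        _ = u' * (u * l) * u' := by rw [hlu']
        _ = (u' * u) * l * u' := by simp only [mul_assoc]
        _ = (u * u') * l * u' := by rw [huu]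
        _ = u * (u' * l * u') := by simp only [hwdef, mul_assoc])
  obtain ⟨P'⟩ := Sylow.nonempty (p := q) (G := Cu')
  set Q' := (P' : Subgroup Cu').map Cu'.subtype with hQ'def
  have hQ'c : Nat.card Q' = q ^ (Nat.card L).factorization q := by
    rw [← hfull Cu' inf_le_left ecu', hQ'def,
      ← Nat.card_congr (Subgroup.equivMapOfInjective _ _ Cu'.subtype_injective).toEquiv]
    exact P'.card_eq_multiplicity
  rw [hfull Cu inf_le_left ecu] at hQc
  have hQL : Q ≤ L := hQ.trans inf_le_left
  have hQ'L : Q' ≤ L := (Subgroup.map_subtype_le _).trans inf_le_left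
  obtain ⟨g, hg⟩ := MulAction.exists_smul_eq L
    (Sylow.ofCard (Q.subgroupOf L) (by
      rw [Nat.card_congr (Subgroup.subgroupOfEquivOfLe hQL).toEquiv, hQc]) : Sylow q L)
    (Sylow.ofCard (Q'.subgroupOf L) (by
      rw [Nat.card_congr (Subgroup.subgroupOfEquivOfLe hQ'L).toEquiv, hQ'c]) : Sylow q L)
  have hgQ : ∀ y ∈ Q, (g : Perm β) * y * (g : Perm β)⁻¹ ∈ Q' := by
    intro y hy
    have h1 : g * ⟨y, hQL hy⟩ * g⁻¹ ∈ (Q'.subgroupOf L) := by
      have h2 := congrArg (fun P : Sylow q L => (P : Subgroup L)) hg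
      simp only [Sylow.coe_subgroup_smul] at h2
      exact h2.le ⟨⟨y, hQL hy⟩, hy, rfl⟩
    exact h1
  have hcardQ' : Q.map (MulAut.conj (g : Perm β)).toMonoidHom = Q' := by
    refine Subgroup.eq_of_le_of_card_ge ?_ (le_of_eq ?_)
    · rintro _ ⟨y, hy, rfl⟩; exact hgQ y hy
    · rw [hQ'c, ← hQc]
      exact Nat.card_congr (Subgroup.equivMapOfInjective _ _ (MulAut.conj (g : Perm β)).injective).toEquiv
  have hgQ' : ∀ z ∈ Q', (g : Perm β)⁻¹ * z * g ∈ Q := by
    intro z hz
    obtain ⟨y, hy, rfl⟩ := hcardQ'.ge hz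
    simpa [mul_assoc] using hy
  set h := (g : Perm β)⁻¹ * u' * g with hhdef
  have hh2 : h * h = 1 := by simp [hhdef, mul_assoc, ← mul_assoc u' u', hu'.2.1]
  have hhQ : ∀ y ∈ Q, h * y * h ∈ Q := by
    intro y hy
    obtain ⟨z, -, hz⟩ := hgQ y hy
    have hc : ((z : Cu') : Perm β) * u' = u' * z :=
      Subgroup.mem_centralizer_singleton_iff.1 z.2.2
    change (z : Perm β) = g * y * (g : Perm β)⁻¹ at hz
    have e : h * y * h = y := by
      calc h * y * h = (g : Perm β)⁻¹ * (u' * (g * y * (g : Perm β)⁻¹) * u') * g := by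
            rw [hhdef]; group
        _ = (g : Perm β)⁻¹ * (z * (u' * u')) * g := by rw [← hz, ← hc]; group
        _ = y := by rw [hu'.2.1, hz]; group
    rw [e]; exact hy
  have hhu : h * u' ∈ L := by
    have h1 : h * u' = (g : Perm β)⁻¹ * (u' * g * u') := by rw [hhdef]; group
    rw [h1]
    exact mul_mem (inv_mem g.2) (hnorm u' (Or.inr hu') g g.2)
  obtain ⟨z, hz, hzu⟩ := exists_conj_involution hu'.2.1 hh2
    (hoddL.of_dvd_nat (Subgroup.orderOf_dvd_natCard L hhu))
  obtain ⟨i, hi⟩ := (isOfFinOrder_of_finite _).mem_powers_iff_mem_zpowers.2 hz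
  have hstep : ∀ y ∈ Q, h * u' * y * (h * u')⁻¹ ∈ Q := by
    intro y hy
    have e : h * u' * y * (h * u')⁻¹ = h * (u' * y * u') * h := by
      rw [_root_.mul_inv_rev, inv_eq_of_mul_eq_one_right hu'.2.1, inv_eq_of_mul_eq_one_right hh2]
      group
    rw [e]
    exact hhQ _ (hQinv y hy)
  have hzQ : ∀ y ∈ Q, z * y * z⁻¹ ∈ Q := by
    rw [← hi]
    clear hi hzu hz
    induction i with
    | zero => intro y hy; simpa using hy
    | succ i ihi =>
      intro y hy
      have e : (h * u') ^ (i + 1) * y * ((h * u') ^ (i + 1))⁻¹ =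
          (h * u') * ((h * u') ^ i * y * ((h * u') ^ i)⁻¹) * (h * u')⁻¹ := by
        rw [pow_succ', _root_.mul_inv_rev]; simp only [mul_assoc]
      show (h * u') ^ (i + 1) * y * ((h * u') ^ (i + 1))⁻¹ ∈ Q
      rw [e]
      exact hstep _ (ihi y hy)
  -- `w` inverts `Q`
  have hwQ : ∀ y ∈ Q, w * y * w ∈ Q := by
    intro y hy
    have h1 := hQinv y hy
    have h2 := Subgroup.mem_centralizer_singleton_iff.1 (hQ h1).2
    have e : w * y * w = u' * y * u' := by
      calc w * y * w = u * (u' * y * u') * u := by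
            rw [hwdef]
            calc u * u' * y * (u * u') = u * u' * y * (u' * u) := by rw [huu]
              _ = _ := by group
        _ = u * ((u' * y * u') * u) := by group
        _ = u' * y * u' := by rw [h2, ← mul_assoc, hu.2.1, one_mul]
    rw [e]; exact h1
  have hwinv := inverts_of_cent_trivial Q hw.2.1 hwQ fun y hy hyw => by
    have hm : y ∈ Cw := ⟨hQL hy, Subgroup.mem_centralizer_singleton_iff.2 (by
      conv_lhs => rw [← hyw]
      rw [mul_assoc, hw.2.1, mul_one])⟩
    obtain ⟨j, hj⟩ := hQp ⟨y, hy⟩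
    have hj' : y ^ q ^ j = 1 := by simpa using congrArg Subtype.val hj
    obtain ⟨i', -, hi'⟩ := (Nat.dvd_prime_pow hq).1 (orderOf_dvd_of_pow_eq_one hj')
    rcases Nat.eq_zero_or_pos i' with rfl | hpos
    · exact orderOf_eq_one_iff.1 (by rw [hi', pow_zero])
    · exact absurd ((dvd_pow_self q hpos.ne').trans (hi' ▸ Subgroup.orderOf_dvd_natCard _ hm)) hqw
  have htriv : ∀ y ∈ Q, y = 1 := by
    intro y hy
    refine eq_one_of_odd_order hoddL (hQL hy) ?_
    -- `u'` inverts `y`
    have h1 : u' * y * u' = y⁻¹ := by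
      rw [← hwinv y hy]
      have hyu := Subgroup.mem_centralizer_singleton_iff.1 (hQ hy).2
      rw [hwdef]
      calc u' * y * u' = u' * (u * u) * y * u' := by rw [hu.2.1, mul_one]
        _ = (u' * u) * (u * y) * u' := by group
        _ = (u * u') * (y * u) * u' := by rw [huu, hyu]
        _ = u * u' * y * (u * u') := by group
    -- and centralizes it
    obtain ⟨m, -, hm⟩ := hgQ _ (hzQ y hy)
    have hc : ((m : Cu') : Perm β) * u' = u' * m := Subgroup.mem_centralizer_singleton_iff.1 m.2.2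
    change (m : Perm β) = g * (z * y * z⁻¹) * (g : Perm β)⁻¹ at hm
    have hcu : u' = ((g : Perm β) * z) * u' * ((g : Perm β) * z)⁻¹ := by
      calc u' = g * h * (g : Perm β)⁻¹ := by rw [hhdef]; group
        _ = _ := by rw [← hzu]; group
    have e2 : u' * y = y * u' := by
      have e3 : ((g : Perm β) * z) * (y * u') * ((g : Perm β) * z)⁻¹ =
          ((g : Perm β) * z) * (u' * y) * ((g : Perm β) * z)⁻¹ := by
        calc _ = (g * (z * y * z⁻¹) * (g : Perm β)⁻¹) *
              (((g : Perm β) * z) * u' * ((g : Perm β) * z)⁻¹) := by group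
          _ = (((g : Perm β) * z) * u' * ((g : Perm β) * z)⁻¹) *
              (g * (z * y * z⁻¹) * (g : Perm β)⁻¹) := by rw [← hcu, ← hm, hc]
          _ = _ := by group
      exact (mul_left_cancel (mul_right_cancel e3)).symm
    rw [e2, mul_assoc, hu'.2.1, mul_one] at h1
    calc y * y = y * y⁻¹ := by conv_lhs => arg 2; rw [h1]
      _ = 1 := mul_inv_cancel y
  have hQ1 : Nat.card Q = 1 := Subgroup.card_eq_one.2 ((Subgroup.eq_bot_iff_forall _).2 htriv)
  rw [hQc, Nat.pow_eq_one] at hQ1
  have hpos : 0 < (Nat.card L).factorization q :=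
    hq.factorization_pos_of_dvd hd0 ((hqS.trans ⟨_, ecu⟩).trans (Subgroup.card_dvd_of_le inf_le_left))
  rcases hQ1 with h | h
  · exact hq.ne_one h
  · omega

/-- `k = 5` -/
theorem even_five {G : Subgroup (Perm α)} (hk : KT G 4) (he : EvenSets G 5) :
    Fintype.card α ≤ 6 :=
  even_five_aux _ G rfl hk he

theorem no_even {G : Subgroup (Perm α)} {k : ℕ} (hk : KT G (k - 1)) (he : EvenSets G k)
    (hk5 : 5 ≤ k) (hn : k + 2 ≤ Fintype.card α) : False := by
  rcases Nat.lt_or_ge 5 k with h | h
  · exact no_even_large hk he h hn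
  · obtain rfl : k = 5 := by omega
    have := even_five hk he
    omega

end CfsgLib.LW
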