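import Cfsg.Agent.Lib.Perm.LW.Alternating
import Cfsg.Agent.Lib.Perm.LW.Even
import Cfsg.Agent.S0736

/-!
Set-transitive groups: descent, and the step for large `k`.
-/

set_option autoImplicit false
set_option linter.style.haveILetI false
set_option linter.unusedSectionVars false

namespace CfsgLib.LW

open Equiv
open scoped Pointwise

universe v

variable {α : Type v} [Fintype α] [DecidableEq α]

/-- transitivity on `k`-sets -/
def Hom (G : Subgroup (Perm α)) (k : ℕ) : Prop :=
  ∀ S S' : Finset α, S.card = k → S'.card = k → ∃ g ∈ G, S.image g = S'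

theorem hom_of_powersetCard {G : Subgroup (Perm α)} {k : ℕ}
    (h : MulAction.IsPretransitive G (Set.powersetCard α k)) : Hom G k := by
  intro S S' hS hS'
  obtain ⟨g, hg⟩ := h.exists_smul_eq ⟨S, hS⟩ ⟨S', hS'⟩
  refine ⟨g, g.2, ?_⟩
  have h1 : g • S = S' := congrArg Subtype.val hg
  exact h1

theorem kt_one {G : Subgroup (Perm α)} (h : Hom G 1) : KT G 1 := by
  intro T hT σ
  rcases Nat.lt_or_ge T.card 1 with h0 | h0
  · exact ⟨1, one_mem G, fun x hx => absurd hx (by
      rw [Finset.card_eq_zero.1 (show T.card = 0 by omega)]; simp)⟩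
  obtain ⟨a, rfl⟩ := Finset.card_eq_one.1 (show T.card = 1 by omega)
  obtain ⟨g, hg, hga⟩ := h {a} {σ a} (Finset.card_singleton _) (Finset.card_singleton _)
  refine ⟨g, hg, fun x hx => ?_⟩
  rw [Finset.mem_singleton.1 hx]
  simpa using hga

theorem altOn_image {G : Subgroup (Perm α)} {S : Finset α} (h : AltOn G S) {g : Perm α}
    (hg : g ∈ G) : AltOn G (S.image g) := by
  intro σ hσ hsign
  obtain ⟨l, hl, hlx⟩ := h (g⁻¹ * σ * g) (fun x hx => by
    rw [Perm.mem_support] at hx
    have hx' : σ (g x) ≠ g x := fun e => hx (by simp [e])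
    obtain ⟨y, hy, e⟩ := Finset.mem_image.1 (hσ (Perm.mem_support.2 hx'))
    exact g.injective e ▸ hy) (by
      rw [map_mul, map_mul, map_inv, hsign, mul_one, inv_mul_cancel])
  refine ⟨g * l * g⁻¹, mul_mem (mul_mem hg hl) (inv_mem hg), fun x hx => ?_⟩
  obtain ⟨y, hy, rfl⟩ := Finset.mem_image.1 hx
  rw [Perm.mul_apply, Perm.mul_apply, Perm.inv_def, Equiv.symm_apply_apply, hlx y hy]
  simp

theorem kt_of_hom_alt {G : Subgroup (Perm α)} {k : ℕ} (hh : Hom G k) (hkn : k ≤ Fintype.card α)
    {Δ : Finset α} (hΔ : Δ.card = k) (halt : AltOn G Δ) (hne : ¬ EvenSets G k) : KT G k := by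
  classical
  simp only [EvenSets, not_forall] at hne
  obtain ⟨g₀, hg₀, T₀, hT₀, σ₀, hσ₀, hag₀, hsign₀⟩ := hne
  have hfull₀ : ∀ σ : Perm α, σ.support ⊆ T₀ → ∃ g ∈ G, ∀ x ∈ T₀, g x = σ x := by
    intro σ hσ
    obtain ⟨c, hc, hcΔ⟩ := hh Δ T₀ hΔ hT₀
    have hT : AltOn G T₀ := hcΔ ▸ altOn_image halt hc
    have hpres : ∀ τ : Perm α, τ.support ⊆ T₀ → ∀ x ∈ T₀, τ x ∈ T₀ := fun τ hτ x hx => by
      by_cases h : τ x = x
      · rwa [h]
      · exact hτ (Perm.mem_support.2 fun e => h (τ.injective e))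
    rcases Int.units_eq_one_or (Perm.sign σ) with h | h
    · exact hT σ hσ h
    · have hs₀ : Perm.sign σ₀ = -1 := (Int.units_eq_one_or _).resolve_left hsign₀
      obtain ⟨l, hl, hlx⟩ := hT (σ * σ₀⁻¹)
        (fun x hx => by
          have := Perm.support_mul_le σ σ₀⁻¹ hx
          rw [Finset.sup_eq_union, Finset.mem_union, Perm.support_inv] at this
          exact this.elim (fun h => hσ h) (fun h => hσ₀ h))
        (by rw [map_mul, map_inv, h, hs₀]; decide)
      refine ⟨l * g₀, mul_mem hl hg₀, fun x hx => ?_⟩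
      rw [Perm.mul_apply, hag₀ x hx, hlx _ (hpres σ₀ hσ₀ x hx)]
      simp
  intro T hT σ
  obtain ⟨T', hTT', -, hT'⟩ := Finset.exists_subsuperset_card_eq (Finset.subset_univ T) hT
    (by rwa [Finset.card_univ])
  obtain ⟨a, ha, haT⟩ := hh T' T₀ hT' hT₀
  obtain ⟨b, hb, hbT⟩ := hh T₀ (T'.image σ) hT₀
    (by rw [Finset.card_image_of_injective _ σ.injective, hT'])
  -- the permutation needed on `T₀`
  have hmap : ∀ x ∈ T₀, (b⁻¹ * σ * a⁻¹) x ∈ T₀ := by
    intro x hx
    rw [← haT] at hx
    obtain ⟨y, hy, rfl⟩ := Finset.mem_image.1 hx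
    have h1 : σ y ∈ T₀.image b := by rw [hbT]; exact Finset.mem_image_of_mem _ hy
    obtain ⟨z, hz, e⟩ := Finset.mem_image.1 h1
    simp only [Perm.mul_apply, Perm.inv_def, Equiv.symm_apply_apply, ← e]
    exact hz
  have hiff := preserves_of_maps hmap
  obtain ⟨m, hm, hmx⟩ := hfull₀ (Perm.ofSubtype ((b⁻¹ * σ * a⁻¹).subtypePerm hiff)) (fun x hx => by
    by_contra h
    exact Perm.mem_support.1 hx (Perm.ofSubtype_apply_of_not_mem _ h))
  refine ⟨b * m * a, mul_mem (mul_mem hb hm) ha, fun x hx => ?_⟩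
  have hax : a x ∈ T₀ := by rw [← haT]; exact Finset.mem_image_of_mem _ (hTT' hx)
  rw [Perm.mul_apply, Perm.mul_apply, hmx _ hax, Perm.ofSubtype_apply_of_mem _ hax]
  simp

/-- the step for `k ≥ 5` -/
theorem kt_step {G : Subgroup (Perm α)} {k : ℕ} (hk5 : 5 ≤ k) (hn : k + 2 ≤ Fintype.card α)
    (hk : KT G (k - 1)) (hh : Hom G k) : KT G k := by
  obtain ⟨Δ, hΔ, halt⟩ := good_of_kt hk (by omega) (by omega)
  refine kt_of_hom_alt hh (by omega) (hΔ.trans (by omega)) halt fun he => ?_
  exact no_even hk he hk5 hn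

theorem hom_pred {G : Subgroup (Perm α)} {k : ℕ} (hk : 2 ≤ k) (hn : 2 * k ≤ Fintype.card α)
    (h : MulAction.IsPretransitive G (Set.powersetCard α k)) :
    MulAction.IsPretransitive G (Set.powersetCard α (k - 1)) :=
  Cfsg.Agent.S0736.result G hk h fun q hq hqk => by
    have := Nat.le_of_dvd (by omega) hqk
    omega

/-! ### `k = 3` -/

theorem kt_two {G : Subgroup (Perm α)} (h1 : KT G 1) (h2 : Hom G 2) (h3 : Hom G 3)
    (hn : 4 ≤ Fintype.card α) : KT G 2 := by
  classical
  obtain ⟨a, b, hab⟩ := Fintype.exists_pair_of_one_lt_card (show 1 < Fintype.card α by omega)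
  let E : α → α → Prop := fun x y => ∃ g ∈ G, g a = x ∧ g b = y
  have htot : ∀ x y, x ≠ y → E x y ∨ E y x := by
    intro x y hxy
    obtain ⟨g, hg, e⟩ := h2 {a, b} {x, y} (Finset.card_pair hab) (Finset.card_pair hxy)
    have hx : g a ∈ ({x, y} : Finset α) := e ▸ Finset.mem_image_of_mem _ (Finset.mem_insert_self a _)
    have hy : g b ∈ ({x, y} : Finset α) := e ▸ Finset.mem_image_of_mem _
      (Finset.mem_insert_of_mem (Finset.mem_singleton_self b))
    simp only [Finset.mem_insert, Finset.mem_singleton] at hx hy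
    rcases hx with hx | hx
    · rcases hy with hy | hy
      · exact absurd (g.injective (hx.trans hy.symm)) hab
      · exact Or.inl ⟨g, hg, hx, hy⟩
    · rcases hy with hy | hy
      · exact Or.inr ⟨g, hg, hx, hy⟩
      · exact absurd (g.injective (hx.trans hy.symm)) hab
  by_cases hboth : E b a
  · obtain ⟨s, hs, hsa, hsb⟩ := hboth
    have hall : ∀ x y, x ≠ y → E x y := by
      intro x y hxy
      rcases htot x y hxy with h | ⟨g, hg, hga, hgb⟩
      · exact h
      · exact ⟨g * s, mul_mem hg hs, by rw [Perm.mul_apply, hsa, hgb],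
          by rw [Perm.mul_apply, hsb, hga]⟩
    intro T hT σ
    rcases Nat.lt_or_ge T.card 2 with h | h
    · exact h1 T (by omega) σ
    obtain ⟨x, y, hxy, rfl⟩ := Finset.card_eq_two.1 (show T.card = 2 by omega)
    obtain ⟨g, hg, hga, hgb⟩ := hall x y hxy
    obtain ⟨g', hg', hga', hgb'⟩ := hall (σ x) (σ y) (σ.injective.ne hxy)
    refine ⟨g' * g⁻¹, mul_mem hg' (inv_mem hg), fun z hz => ?_⟩
    rcases Finset.mem_insert.1 hz with rfl | hz
    · rw [Perm.mul_apply, Perm.inv_eq_iff_eq.2 hga.symm, hga']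
    · rw [Finset.mem_singleton.1 hz, Perm.mul_apply, Perm.inv_eq_iff_eq.2 hgb.symm, hgb']
  · exfalso
    have hasym : ∀ x y, E x y → ¬ E y x := by
      rintro x y ⟨g, hg, hga, hgb⟩ ⟨g', hg', hga', hgb'⟩
      refine hboth ⟨g⁻¹ * g', mul_mem (inv_mem hg) hg', ?_, ?_⟩
      · rw [Perm.mul_apply, hga', ← hgb]; simp
      · rw [Perm.mul_apply, hgb', ← hga]; simp
    have hne : ∀ x y, E x y → x ≠ y := by
      rintro x y ⟨g, -, hga, hgb⟩ e
      exact hab (g.injective (hga.trans (e.trans hgb.symm)))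
    have hinv : ∀ g ∈ G, ∀ x y, E x y → E (g x) (g y) := by
      rintro g hg x y ⟨g', hg', hga, hgb⟩
      exact ⟨g * g', mul_mem hg hg', by rw [Perm.mul_apply, hga], by rw [Perm.mul_apply, hgb]⟩
    -- no cyclic triangle
    have htrans : ∀ x y z, E x y → E y z → E x z := by
      intro x y z hxy hyz
      have hxz : x ≠ z := fun e => hasym x y hxy (e ▸ hyz)
      rcases htot x z hxz with h | hzx
      · exact h
      exfalso
      have hc3 : ({x, y, z} : Finset α).card = 3 :=
        Finset.card_eq_three.2 ⟨x, y, z, hne _ _ hxy, hxz, hne _ _ hyz, rfl⟩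
      have hcyc : ∀ p q r, p ≠ q → q ≠ r → p ≠ r → E p q → E q r → E r p := by
        intro p q r hpq hqr hpr epq eqr
        obtain ⟨g, hg, e⟩ := h3 {x, y, z} {p, q, r} hc3
          (Finset.card_eq_three.2 ⟨p, q, r, hpq, hpr, hqr, rfl⟩)
        rcases htot r p hpr.symm with h | h
        · exact h
        exfalso
        have hm : ∀ w ∈ ({x, y, z} : Finset α), g w = p ∨ g w = q ∨ g w = r := fun w hw => by
          have := e ▸ Finset.mem_image_of_mem g hw
          simpa using this
        have e1 := hinv g hg _ _ hxy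
        have e2 := hinv g hg _ _ hyz
        have e3 := hinv g hg _ _ hzx
        have a1 := hasym _ _ epq
        have a2 := hasym _ _ eqr
        have a3 := hasym _ _ h
        have irr : ∀ w, ¬ E w w := fun w hw => hne _ _ hw rfl
        rcases hm x (by simp) with hx | hx | hx <;> rcases hm y (by simp) with hy | hy | hy <;>
          rcases hm z (by simp) with hz | hz | hz <;> rw [hx, hy] at e1 <;> rw [hy, hz] at e2 <;>
          rw [hz, hx] at e3 <;>
          first
            | exact irr _ e1 | exact irr _ e2 | exact irr _ e3 | exact a1 e1 | exact a1 e2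
            | exact a1 e3 | exact a2 e1 | exact a2 e2 | exact a2 e3 | exact a3 e1 | exact a3 e2
            | exact a3 e3
      obtain ⟨w, hw⟩ := Finset.card_pos.1
        (show 0 < ((Finset.univ : Finset α) \ {x, y, z}).card by
          rw [Finset.card_univ_sdiff, hc3]; omega)
      simp only [Finset.mem_sdiff, Finset.mem_univ, true_and, Finset.mem_insert,
        Finset.mem_singleton, not_or] at hw
      obtain ⟨hwx, hwy, hwz⟩ := hw
      have xy' := hne _ _ hxy
      have yz' := hne _ _ hyz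
      rcases htot w x hwx with h | h
      · have h1 : E y w := hcyc w x y hwx xy' hwy h hxy
        rcases htot z w (Ne.symm hwz) with h2 | h2
        · exact hasym _ _ h1 (hcyc y z w yz' (Ne.symm hwz) (Ne.symm hwy) hyz h2)
        · exact hasym _ _ h (hcyc w z x hwz (Ne.symm hxz) hwx h2 hzx)
      · have h1 : E w z := hcyc z x w (Ne.symm hxz) (Ne.symm hwx) (Ne.symm hwz) hzx h
        rcases htot y w (Ne.symm hwy) with h2 | h2
        · exact hasym _ _ h (hcyc x y w xy' (Ne.symm hwy) (Ne.symm hwx) hxy h2)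
        · exact hasym _ _ h1 (hcyc w y z hwy yz' hwz h2 hyz)
    haveI : Nonempty α := ⟨a⟩
    obtain ⟨m, -, hm⟩ := Finset.exists_max_image (Finset.univ : Finset α)
      (fun x => (Finset.univ.filter fun y => E x y).card) Finset.univ_nonempty
    obtain ⟨g, hg, hgm⟩ := h1 {m} (by simp) (Equiv.swap m b)
    have hEma : E (g⁻¹ a) m := by
      have hgm' : g m = b := (hgm m (by simp)).trans (Equiv.swap_apply_left m b)
      have := hinv g⁻¹ (inv_mem hg) a b ⟨1, one_mem G, rfl, rfl⟩
      rwa [show g⁻¹ b = m by rw [← hgm']; simp] at this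
    have hlt : (Finset.univ.filter fun y => E m y).card <
        (Finset.univ.filter fun y => E (g⁻¹ a) y).card := by
      refine Finset.card_lt_card ((Finset.ssubset_iff_of_subset ?_).2 ⟨m, ?_, ?_⟩)
      · intro y hy
        simp only [Finset.mem_filter, Finset.mem_univ, true_and] at hy ⊢
        exact htrans _ _ _ hEma hy
      · simpa using hEma
      · simp only [Finset.mem_filter, Finset.mem_univ, true_and]
        exact fun h => hne _ _ h rfl
    exact absurd (hm (g⁻¹ a) (Finset.mem_univ _)) (not_le.2 hlt)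

end CfsgLib.LW
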