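import Cfsg.Agent.Lib.Perm.LW.Homog

/-!
The orbits of a pointwise stabilizer in a set-transitive group.
-/

set_option autoImplicit false
set_option linter.style.haveILetI false
set_option linter.unusedSectionVars false

namespace CfsgLib.LW

open Equiv
open scoped Classical

universe v

variable {α : Type v} [Fintype α] [DecidableEq α]

/-- same orbit of the pointwise stabilizer -/
def Same (G : Subgroup (Perm α)) (T : Finset α) (x y : α) : Prop := ∃ g ∈ fix G T, g x = y

/-- the orbit of the pointwise stabilizer -/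
noncomputable def orb (G : Subgroup (Perm α)) (T : Finset α) (x : α) : Finset α :=
  Finset.univ.filter fun y => Same G T x y

theorem mem_orb {G : Subgroup (Perm α)} {T : Finset α} {x y : α} :
    y ∈ orb G T x ↔ Same G T x y := by simp [orb]

theorem orb_eq {G : Subgroup (Perm α)} {T : Finset α} {x : α} :
    ((orb G T x : Finset α) : Set α) = MulAction.orbit (fix G T) x := by
  ext y
  rw [Finset.mem_coe, mem_orb, MulAction.mem_orbit_iff]
  exact ⟨fun ⟨g, hg, e⟩ => ⟨⟨g, hg⟩, e⟩, fun ⟨g, e⟩ => ⟨g, g.2, e⟩⟩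

theorem card_orb_mul {G : Subgroup (Perm α)} (T : Finset α) (x : α) :
    (orb G T x).card * Nat.card (fix G (insert x T)) = Nat.card (fix G T) := by
  have h1 : Nat.card (MulAction.orbit (fix G T) x) = (orb G T x).card := by
    rw [Nat.card_coe_set_eq, ← orb_eq, Set.ncard_coe_finset]
  have h2 : Nat.card (MulAction.stabilizer (fix G T) x) = Nat.card (fix G (insert x T)) := by
    refine Nat.card_congr
      { toFun := fun g => ⟨(g.1 : Perm α), mem_fix.2 ⟨(mem_fix.1 g.1.2).1, fun z hz => ?_⟩⟩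
        invFun := fun g => ⟨⟨g.1, fix_mono (Finset.subset_insert x T) g.2⟩,
          (mem_fix.1 g.2).2 x (Finset.mem_insert_self x T)⟩
        left_inv := fun _ => rfl
        right_inv := fun _ => rfl }
    rcases Finset.mem_insert.1 hz with rfl | hz
    · exact g.2
    · exact (mem_fix.1 g.1.2).2 z hz
  rw [← h1, ← h2, ← Nat.card_prod]
  exact Nat.card_congr (MulAction.orbitProdStabilizerEquivGroup (fix G T) x)

theorem same_symm {G : Subgroup (Perm α)} {T : Finset α} {x y : α} (h : Same G T x y) :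
    Same G T y x := by
  obtain ⟨g, hg, rfl⟩ := h
  exact ⟨g⁻¹, inv_mem hg, by simp⟩

theorem same_map {G : Subgroup (Perm α)} {T : Finset α} {x y : α} {g : Perm α} (hg : g ∈ G)
    (h : Same G T x y) : Same G (T.image g) (g x) (g y) := by
  obtain ⟨l, hl, rfl⟩ := h
  exact ⟨g * l * g⁻¹, conj_mem_fix hg hl, by simp⟩

/-- the order of a set-transitive group -/
theorem card_setwise {G : Subgroup (Perm α)} {j : ℕ} (hh : Hom G j) {Δ : Finset α}
    (hΔ : Δ.card = j) :
    Nat.card G = (Fintype.card α).choose j * (Nat.card (restr G Δ) * Nat.card (fix G Δ)) := by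
  set Gf : Finset (Perm α) := Finset.univ.filter (· ∈ G) with hGf
  have hGc : Gf.card = Nat.card G := by
    rw [hGf, ← Fintype.card_subtype, ← Nat.card_eq_fintype_card]
  set H := Gf.filter fun g : Perm α => Δ.image g = Δ with hH
  have hfib : ∀ S ∈ Finset.univ.powersetCard j,
      (Gf.filter fun g : Perm α => Δ.image g = S).card = H.card := by
    intro S hS
    obtain ⟨c, hc, hcS⟩ := hh Δ S hΔ (Finset.mem_powersetCard.1 hS).2
    refine Finset.card_bij (fun g _ => c⁻¹ * g) (fun g hg => ?_) (fun a _ b _ e => ?_)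
      (fun g hg => ⟨c * g, ?_, by simp⟩)
    · simp only [hH, hGf, Finset.mem_filter, Finset.mem_univ, true_and] at hg ⊢
      refine ⟨mul_mem (inv_mem hc) hg.1, ?_⟩
      rw [Perm.coe_mul, ← Finset.image_image, hg.2, ← hcS, Finset.image_image, ← Perm.coe_mul,
        inv_mul_cancel]
      simp
    · exact mul_left_cancel e
    · simp only [hH, hGf, Finset.mem_filter, Finset.mem_univ, true_and] at hg ⊢
      exact ⟨mul_mem hc hg.1, by rw [Perm.coe_mul, ← Finset.image_image, hg.2, hcS]⟩
  have h1 : Gf.card = (Fintype.card α).choose j * H.card := by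
    rw [Finset.card_eq_sum_card_fiberwise (f := fun g : Perm α => Δ.image g)
      (t := Finset.univ.powersetCard j), Finset.sum_congr rfl hfib, Finset.sum_const,
      Finset.card_powersetCard, Finset.card_univ, smul_eq_mul]
    intro g _
    exact Finset.mem_coe.2 (Finset.mem_powersetCard.2 ⟨Finset.subset_univ _, by
      rw [Finset.card_image_of_injective _ g.injective, hΔ]⟩)
  have hpres : ∀ g ∈ H, ∀ z, g z ∈ Δ ↔ z ∈ Δ := fun g hg => preserves_of_maps fun z hz => by
    have := (Finset.mem_filter.1 hg).2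
    exact this ▸ Finset.mem_image_of_mem g hz
  let ρ : Perm α → Perm Δ := fun g =>
    if h : ∀ z, g z ∈ Δ ↔ z ∈ Δ then g.subtypePerm h else 1
  have hρ : ∀ g ∈ H, ∀ z : Δ, ((ρ g z : Δ) : α) = g z := fun g hg z => by
    simp only [ρ, dif_pos (hpres g hg)]
    rfl
  set A : Finset (Perm Δ) := Finset.univ.filter (· ∈ restr G Δ) with hA
  have h2 : H.card = A.card * Nat.card (fix G Δ) := by
    rw [Finset.card_eq_sum_card_fiberwise (f := ρ) (t := A), Finset.sum_congr rfl (fun a ha =>
      (?_ : _ = Nat.card (fix G Δ))), Finset.sum_const, smul_eq_mul]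
    · obtain ⟨c, hc, hca⟩ := (Finset.mem_filter.1 ha).2
      have hcH : ∀ l ∈ fix G Δ, c * l ∈ H := by
        intro l hl
        obtain ⟨h3, h4⟩ := mem_fix.1 hl
        simp only [hH, hGf, Finset.mem_filter, Finset.mem_univ, true_and]
        refine ⟨mul_mem hc h3, Finset.eq_of_subset_of_card_le ?_
          (by rw [Finset.card_image_of_injective _ (c * l).injective])⟩
        intro z hz
        obtain ⟨w, hw, rfl⟩ := Finset.mem_image.1 hz
        rw [Perm.mul_apply, h4 w hw, hca ⟨w, hw⟩]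
        exact (a ⟨w, hw⟩).2
      rw [Nat.card_eq_fintype_card, Fintype.card_subtype]
      refine Finset.card_bij (fun g _ => c⁻¹ * g) (fun g hg => ?_) (fun a _ b _ e => ?_)
        (fun l hl => ⟨c * l, ?_, by simp⟩)
      · obtain ⟨hgH, hga⟩ := Finset.mem_filter.1 hg
        refine Finset.mem_filter.2 ⟨Finset.mem_univ _, mem_fix.2 ⟨mul_mem (inv_mem hc)
          (Finset.mem_filter.1 (Finset.mem_filter.1 hgH).1).2, fun z hz => ?_⟩⟩
        rw [Perm.mul_apply, Perm.inv_eq_iff_eq, hca ⟨z, hz⟩, ← hρ g hgH ⟨z, hz⟩, hga]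
      · exact mul_left_cancel e
      · obtain ⟨-, hl⟩ := Finset.mem_filter.1 hl
        refine Finset.mem_filter.2 ⟨hcH l hl, Equiv.ext fun z => Subtype.ext ?_⟩
        rw [hρ _ (hcH l hl), Perm.mul_apply, (mem_fix.1 hl).2 z z.2, hca z]
    · intro g hg
      refine Finset.mem_coe.2 (Finset.mem_filter.2 ⟨Finset.mem_univ _, g, ?_, fun z => (hρ g hg z).symm⟩)
      exact (Finset.mem_filter.1 (Finset.mem_filter.1 hg).1).2
  rw [← hGc, h1, h2, hA, ← Fintype.card_subtype, Nat.card_eq_fintype_card (α := restr G Δ)]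

/-- the invariants of the orbits -/
structure Data (G : Subgroup (Perm α)) (k r s N : ℕ) : Prop where
  two_le : 2 ≤ r
  dvd : r ∣ (k - 1).factorial
  mul : r * s = Fintype.card α - (k - 2)
  orb_card : ∀ T : Finset α, T.card = k - 2 → ∀ x, x ∉ T → (orb G T x).card = s
  le : N ≤ k * (k - 1)
  even : N % 2 = 0
  eq : N * (r * s - 1) = k * (k - 1) * (s - 1)
  pairs : ∀ Γ : Finset α, Γ.card = k →
    (Γ.offDiag.filter fun p => Same G ((Γ.erase p.1).erase p.2) p.1 p.2).card = N
  induced : ∀ Δ : Finset α, Δ.card = k - 1 → Nat.card (restr G Δ) * r = (k - 1).factorial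
  order : ∀ Δ : Finset α, Δ.card = k - 1 →
    Nat.card G = (Fintype.card α).descFactorial (k - 2) * (s * Nat.card (fix G Δ))

theorem exists_data {G : Subgroup (Perm α)} {k : ℕ} (hk3 : 3 ≤ k) (hkn : k ≤ Fintype.card α)
    (hk : KT G (k - 2)) (hh1 : Hom G (k - 1)) (hh : Hom G k) (hnk : ¬ KT G (k - 1)) :
    ∃ r s N, Data G k r s N := by
  set n := Fintype.card α with hn
  obtain ⟨T₀, -, hT₀⟩ := Finset.exists_subset_card_eq (s := (Finset.univ : Finset α)) (n := k - 2)
    (by rw [Finset.card_univ]; omega)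
  obtain ⟨x₀, hx₀⟩ := Finset.card_pos.1 (show 0 < T₀ᶜ.card by rw [Finset.card_compl, hT₀]; omega)
  rw [Finset.mem_compl] at hx₀
  set s := (orb G T₀ x₀).card with hs
  have hK : ∀ Δ Δ' : Finset α, Δ.card = k - 1 → Δ'.card = k - 1 →
      Nat.card (fix G Δ) = Nat.card (fix G Δ') := by
    intro Δ Δ' h h'
    obtain ⟨g, hg, rfl⟩ := hh1 Δ Δ' h h'
    exact (card_fix_image hg).symm
  have horb : ∀ T : Finset α, T.card = k - 2 → ∀ x, x ∉ T → (orb G T x).card = s := by
    intro T hT x hx
    have h1 := card_orb_mul (G := G) T x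
    have h2 := card_orb_mul (G := G) T₀ x₀
    rw [card_fix_eq hk hT.le (hT.trans hT₀.symm), ← h2, hK (insert x T) (insert x₀ T₀)
      (by rw [Finset.card_insert_of_notMem hx, hT]; omega)
      (by rw [Finset.card_insert_of_notMem hx₀, hT₀]; omega)] at h1
    exact Nat.eq_of_mul_eq_mul_right Nat.card_pos h1
  have hout : ∀ T : Finset α, ∀ x, x ∉ T → orb G T x ⊆ Tᶜ := by
    intro T x hx y hy
    rw [Finset.mem_compl]
    intro hyT
    obtain ⟨g, hg, rfl⟩ := mem_orb.1 hy
    have h1 := (mem_fix.1 hg).2 _ hyT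
    rw [g.injective h1] at hyT
    exact hx hyT
  have hself : ∀ T : Finset α, ∀ x, x ∈ orb G T x := fun T x =>
    mem_orb.2 ⟨1, one_mem _, rfl⟩
  have hspos : 0 < s := Finset.card_pos.2 ⟨x₀, hself _ _⟩
  obtain ⟨r, hr⟩ : s ∣ n - (k - 2) := by
    have h := Cfsg.Agent.Lib.Perm.dvd_ncard_of_orbits (G := fix G T₀) (c := s)
      ((T₀ᶜ : Finset α) : Set α) (Set.toFinite _) (fun g z hz => ?_) (fun z hz => ?_)
    · rwa [Set.ncard_coe_finset, Finset.card_compl, hT₀] at h
    · rw [Finset.mem_coe, Finset.mem_compl] at hz ⊢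
      exact Finset.mem_compl.1 (hout T₀ z hz (mem_orb.2 ⟨g, g.2, rfl⟩))
    · rw [Finset.mem_coe, Finset.mem_compl] at hz
      rw [← orb_eq, Set.ncard_coe_finset, horb T₀ hT₀ z hz]
  rw [mul_comm] at hr
  have hr2 : 2 ≤ r := by
    by_contra h
    have hr1 : r = 1 := by
      rcases Nat.eq_zero_or_pos r with rfl | h0
      · omega
      · omega
    subst hr1
    refine hnk (kt_of_isMultiplyPretransitive (by omega) ?_)
    refine Cfsg.Agent.Lib.Perm.multiplyPretransitive_of_step _ fun t _ ht a b ha hb => ?_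
    by_cases hab : a = b
    · exact ⟨1, fun x _ => rfl, hab⟩
    obtain ⟨T, htT, hTsub, hT⟩ := Finset.exists_subsuperset_card_eq
      (s := t.toFinset) (t := ((Finset.univ : Finset α).erase a).erase b) (n := k - 2)
      (fun x hx => by
        simp only [Set.mem_toFinset] at hx
        simp only [Finset.mem_erase, Finset.mem_univ, and_true]
        exact ⟨fun h => hb (h ▸ hx), fun h => ha (h ▸ hx)⟩)
      (by rw [← Set.ncard_eq_toFinset_card']; omega)
      (by rw [Finset.card_erase_of_mem (by simp [Ne.symm hab]),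
        Finset.card_erase_of_mem (Finset.mem_univ a), Finset.card_univ]; omega)
    have haT : a ∉ T := fun h => by simpa using hTsub h
    have hbT : b ∉ T := fun h => by simpa using hTsub h
    have heq : orb G T a = Tᶜ := Finset.eq_of_subset_of_card_le (hout T a haT)
      (by rw [horb T hT a haT, Finset.card_compl, hT]; omega)
    obtain ⟨g, hg, hgab⟩ := mem_orb.1 (heq.symm ▸ Finset.mem_compl.2 hbT : b ∈ orb G T a)
    exact ⟨⟨g, (mem_fix.1 hg).1⟩,
      fun x hx => (mem_fix.1 hg).2 x (htT (Set.mem_toFinset.2 hx)), hgab⟩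
  -- the induced groups
  have hdesc : n.descFactorial (k - 1) = (n - (k - 2)) * n.descFactorial (k - 2) := by
    rw [show k - 1 = k - 2 + 1 by omega, Nat.descFactorial_succ]
  have horder : ∀ Δ : Finset α, Δ.card = k - 1 →
      Nat.card G = n.descFactorial (k - 2) * (s * Nat.card (fix G Δ)) := by
    intro Δ hΔ
    rw [card_group hk hT₀, ← card_orb_mul T₀ x₀, ← hs, hK Δ (insert x₀ T₀) hΔ
      (by rw [Finset.card_insert_of_notMem hx₀, hT₀]; omega)]
  have hind : ∀ Δ : Finset α, Δ.card = k - 1 →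
      Nat.card (restr G Δ) * r = (k - 1).factorial := by
    intro Δ hΔ
    have h1 := (card_setwise hh1 hΔ).symm.trans (horder Δ hΔ)
    rw [← mul_assoc, ← mul_assoc] at h1
    have h2 := Nat.eq_of_mul_eq_mul_right Nat.card_pos h1
    have hpos : 0 < n.choose (k - 1) := Nat.choose_pos (by omega)
    refine Nat.eq_of_mul_eq_mul_left hpos ?_
    rw [← mul_assoc, h2, mul_comm _ ((k - 1).factorial),
      ← Nat.descFactorial_eq_factorial_mul_choose, hdesc, hr]
    ring
  -- the pairs
  obtain ⟨Γ₀, -, hΓ₀⟩ := Finset.exists_subset_card_eq (s := (Finset.univ : Finset α)) (n := k)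
    (by rw [Finset.card_univ]; omega)
  set P : Finset α → Finset (α × α) := fun Γ =>
    Γ.offDiag.filter fun p => Same G ((Γ.erase p.1).erase p.2) p.1 p.2 with hP
  have hPc : ∀ Γ : Finset α, Γ.card = k → (P Γ).card = (P Γ₀).card := by
    intro Γ hΓ
    obtain ⟨g, hg, hgΓ⟩ := hh Γ Γ₀ hΓ hΓ₀
    refine Finset.card_bij (fun p _ => (g p.1, g p.2)) (fun p hp => ?_) (fun a _ b _ e => ?_)
      (fun q hq => ⟨(g⁻¹ q.1, g⁻¹ q.2), ?_, by simp⟩)
    · obtain ⟨hp1, hp2⟩ := Finset.mem_filter.1 hp
      obtain ⟨h1, h2, h3⟩ := Finset.mem_offDiag.1 hp1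
      refine Finset.mem_filter.2 ⟨Finset.mem_offDiag.2 ⟨hgΓ ▸ Finset.mem_image_of_mem g h1,
        hgΓ ▸ Finset.mem_image_of_mem g h2, g.injective.ne h3⟩, ?_⟩
      have := same_map hg hp2
      rwa [Finset.image_erase g.injective, Finset.image_erase g.injective, hgΓ] at this
    · simp only [Prod.mk.injEq, EmbeddingLike.apply_eq_iff_eq] at e
      exact Prod.ext e.1 e.2
    · obtain ⟨hq1, hq2⟩ := Finset.mem_filter.1 hq
      obtain ⟨h1, h2, h3⟩ := Finset.mem_offDiag.1 hq1
      have hgΓ' : Γ₀.image (g⁻¹ : Perm α) = Γ := by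
        rw [← hgΓ, Finset.image_image, ← Perm.coe_mul, inv_mul_cancel]; simp
      refine Finset.mem_filter.2 ⟨Finset.mem_offDiag.2 ⟨hgΓ' ▸ Finset.mem_image_of_mem _ h1,
        hgΓ' ▸ Finset.mem_image_of_mem _ h2, (g⁻¹ : Perm α).injective.ne h3⟩, ?_⟩
      have := same_map (inv_mem hg) hq2
      rwa [Finset.image_erase (g⁻¹ : Perm α).injective, Finset.image_erase (g⁻¹ : Perm α).injective,
        hgΓ'] at this
  set N := (P Γ₀).card with hN
  have hNle : N ≤ k * (k - 1) := by
    refine (Finset.card_filter_le _ _).trans ?_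
    rw [Finset.offDiag_card, hΓ₀, Nat.mul_sub, mul_one]
  have hNeven : N % 2 = 0 := by
    let e := Fintype.equivFin α
    have hsw : ((P Γ₀).filter fun p => ¬ e p.1 < e p.2).card =
        ((P Γ₀).filter fun p => e p.1 < e p.2).card := by
      refine Finset.card_bij (fun p _ => (p.2, p.1)) (fun p hp => ?_) (fun a _ b _ h => ?_)
        (fun q hq => ⟨(q.2, q.1), ?_, rfl⟩)
      · simp only [hP, Finset.mem_filter, Finset.mem_offDiag] at hp ⊢
        obtain ⟨⟨⟨h1, h2, h3⟩, h4⟩, h5⟩ := hp
        refine ⟨⟨⟨h2, h1, Ne.symm h3⟩, by rw [Finset.erase_right_comm]; exact same_symm h4⟩, ?_⟩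
        rcases lt_or_eq_of_le (not_lt.1 h5) with h6 | h6
        · exact h6
        · exact absurd (e.injective h6).symm h3
      · simp only [Prod.mk.injEq] at h
        exact Prod.ext h.2 h.1
      · simp only [hP, Finset.mem_filter, Finset.mem_offDiag] at hq ⊢
        obtain ⟨⟨⟨h1, h2, h3⟩, h4⟩, h5⟩ := hq
        exact ⟨⟨⟨h2, h1, Ne.symm h3⟩, by rw [Finset.erase_right_comm]; exact same_symm h4⟩,
          not_lt.2 h5.le⟩
    have := Finset.card_filter_add_card_filter_not (s := P Γ₀) (fun p => e p.1 < e p.2)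
    omega
  set m := n - (k - 2) with hm
  have hsum : n.choose k * N = n.choose (k - 2) * (m * (s - 1)) := by
    have h1 : ((Finset.univ.powersetCard k).sigma P).card = n.choose k * N := by
      rw [Finset.card_sigma, Finset.sum_congr rfl (fun Γ hΓ =>
        hPc Γ (Finset.mem_powersetCard.1 hΓ).2), Finset.sum_const, Finset.card_powersetCard,
        Finset.card_univ, smul_eq_mul]
    have h2 : ((Finset.univ.powersetCard (k - 2)).sigma fun T =>
        (Tᶜ : Finset α).sigma fun x => (orb G T x).erase x).card = n.choose (k - 2) * (m * (s - 1)) := by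
      rw [Finset.card_sigma, Finset.sum_congr rfl (fun T hT => (?_ : _ = m * (s - 1))),
        Finset.sum_const, Finset.card_powersetCard, Finset.card_univ, smul_eq_mul]
      have hTc := (Finset.mem_powersetCard.1 hT).2
      rw [Finset.card_sigma, Finset.sum_congr rfl (fun x hx => (?_ : _ = s - 1)), Finset.sum_const,
        Finset.card_compl, hTc, smul_eq_mul]
      rw [Finset.card_erase_of_mem (hself T x), horb T hTc x (Finset.mem_compl.1 hx)]
    rw [← h1, ← h2]
    refine Finset.card_bij (fun z _ => ⟨(z.1.erase z.2.1).erase z.2.2, z.2.1, z.2.2⟩) ?_ ?_ ?_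
    · rintro ⟨Γ, x, y⟩ hz
      obtain ⟨hΓ, hp⟩ := Finset.mem_sigma.1 hz
      obtain ⟨hp1, hp2⟩ := Finset.mem_filter.1 hp
      obtain ⟨hx, hy, hxy⟩ := Finset.mem_offDiag.1 hp1
      refine Finset.mem_sigma.2 ⟨Finset.mem_powersetCard.2 ⟨Finset.subset_univ _, ?_⟩,
        Finset.mem_sigma.2 ⟨?_, Finset.mem_erase.2 ⟨Ne.symm hxy, mem_orb.2 hp2⟩⟩⟩
      · rw [Finset.card_erase_of_mem (Finset.mem_erase.2 ⟨Ne.symm hxy, hy⟩),
          Finset.card_erase_of_mem hx, (Finset.mem_powersetCard.1 hΓ).2]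
        omega
      · simp only [Finset.mem_compl, Finset.mem_erase]
        tauto
    · rintro ⟨Γ, x, y⟩ hz ⟨Γ', x', y'⟩ hz' e
      simp only [Sigma.mk.injEq, heq_eq_eq] at e
      obtain ⟨e1, e2, e3⟩ := e
      subst e2; subst e3
      obtain ⟨-, hp⟩ := Finset.mem_sigma.1 hz
      obtain ⟨-, hp'⟩ := Finset.mem_sigma.1 hz'
      obtain ⟨hx, hy, hxy⟩ := Finset.mem_offDiag.1 (Finset.mem_filter.1 hp).1
      obtain ⟨hx', hy', -⟩ := Finset.mem_offDiag.1 (Finset.mem_filter.1 hp').1
      dsimp only at hx hy hxy hx' hy' e1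
      have : Γ = Γ' := by
        rw [← Finset.insert_erase hx, ← Finset.insert_erase (Finset.mem_erase.2 ⟨Ne.symm hxy, hy⟩),
          e1, Finset.insert_erase (Finset.mem_erase.2 ⟨Ne.symm hxy, hy'⟩), Finset.insert_erase hx']
      subst this
      rfl
    · rintro ⟨T, x, y⟩ hz
      obtain ⟨hT, hxy⟩ := Finset.mem_sigma.1 hz
      obtain ⟨hx, hy⟩ := Finset.mem_sigma.1 hxy
      obtain ⟨hne, hy⟩ := Finset.mem_erase.1 hy
      rw [Finset.mem_compl] at hx
      have hyT : y ∉ T := Finset.mem_compl.1 (hout T x hx hy)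
      have hback : ((insert x (insert y T)).erase x).erase y = T := by
        rw [Finset.erase_insert (by simp [Ne.symm hne, hx]), Finset.erase_insert hyT]
      refine ⟨⟨insert x (insert y T), x, y⟩, Finset.mem_sigma.2 ⟨Finset.mem_powersetCard.2
        ⟨Finset.subset_univ _, ?_⟩, Finset.mem_filter.2 ⟨Finset.mem_offDiag.2
          ⟨by simp, by simp, Ne.symm hne⟩, ?_⟩⟩, by simp only [hback]⟩
      · rw [Finset.card_insert_of_notMem (by simp [Ne.symm hne, hx]),
          Finset.card_insert_of_notMem hyT, (Finset.mem_powersetCard.1 hT).2]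
        omega
      · simp only [hback]
        exact mem_orb.1 hy
  have heq : N * (r * s - 1) = k * (k - 1) * (s - 1) := by
    have hc : n.choose k * (k * (k - 1)) = n.choose (k - 2) * (m * (m - 1)) := by
      have h1 := Nat.descFactorial_eq_factorial_mul_choose n k
      have h2 := Nat.descFactorial_eq_factorial_mul_choose n (k - 2)
      have h3 : n.descFactorial k = (m - 1) * (m * n.descFactorial (k - 2)) := by
        rw [show k = k - 2 + 1 + 1 by omega, Nat.descFactorial_succ, Nat.descFactorial_succ,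
          show k - 2 + 1 + 1 - 2 = k - 2 by omega, show n - (k - 2 + 1) = m - 1 by omega]
      have h4 : k.factorial = k * (k - 1) * (k - 2).factorial := by
        rw [show k = k - 2 + 1 + 1 by omega, Nat.factorial_succ, Nat.factorial_succ,
          show k - 2 + 1 + 1 - 1 = k - 2 + 1 by omega, show k - 2 + 1 + 1 - 2 = k - 2 by omega]
        ring
      have hf : 0 < (k - 2).factorial := Nat.factorial_pos _
      rw [h3, h2, h4] at h1
      refine Nat.eq_of_mul_eq_mul_left hf ?_
      linarith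
    have hpos : 0 < n.choose k := Nat.choose_pos hkn
    rw [← hr]
    refine Nat.eq_of_mul_eq_mul_left hpos ?_
    calc n.choose k * (N * (m - 1)) = n.choose k * N * (m - 1) := by ring
      _ = n.choose (k - 2) * (m * (m - 1)) * (s - 1) := by rw [hsum]; ring
      _ = _ := by rw [← hc]; ring
  exact ⟨r, s, N, hr2, ⟨Nat.card (restr G (insert x₀ T₀)), by
      rw [mul_comm]
      exact (hind _ (by rw [Finset.card_insert_of_notMem hx₀, hT₀]; omega)).symm⟩,
    hr.symm, horb, hNle, hNeven, heq, fun Γ hΓ => hPc Γ hΓ, hind, horder⟩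

end CfsgLib.LW
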