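import Cfsg.Agent.Lib.Perm.LW.Counting

/-!
Multiply transitive groups in which only the identity fixes more points than the degree of
transitivity.
-/

set_option autoImplicit false
set_option linter.style.haveILetI false

namespace CfsgLib.LW

open Equiv

variable {α : Type*} [Fintype α] [DecidableEq α]

/-- only the identity fixes more than `k` points -/
def Semi (G : Subgroup (Perm α)) (k : ℕ) : Prop :=
  ∀ g ∈ G, k + 1 ≤ (fx g).card → g = 1

/-- some `k + 1` points carry the alternating group -/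
def Good (G : Subgroup (Perm α)) (k : ℕ) : Prop :=
  ∃ Δ : Finset α, Δ.card = k + 1 ∧ AltOn G Δ

theorem altOn_of_restr {G : Subgroup (Perm α)} {Δ : Finset α}
    (h : alternatingGroup Δ ≤ restr G Δ) : AltOn G Δ := by
  intro σ hσ hsign
  have h1 : ∀ x, σ x ∈ Δ ↔ x ∈ Δ := by
    intro x
    by_cases hx : σ x = x
    · rw [hx]
    · exact iff_of_true (hσ (Perm.apply_mem_support.2 (Perm.mem_support.2 hx)))
        (hσ (Perm.mem_support.2 hx))
  have h2 : σ.subtypePerm h1 ∈ alternatingGroup Δ := by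
    rw [Perm.mem_alternatingGroup]
    convert (Perm.sign_subtypePerm σ h1 fun x hx => hσ (Perm.mem_support.2 hx)).trans hsign
  obtain ⟨g, hg, hgx⟩ := h h2
  exact ⟨g, hg, fun x hx => hgx ⟨x, hx⟩⟩

theorem preserves_of_maps {F : Finset α} {g : Perm α} (h : ∀ x ∈ F, g x ∈ F) :
    ∀ x, g x ∈ F ↔ x ∈ F := by
  have himg : F.image g = F := Finset.eq_of_subset_of_card_le
    (fun y hy => by obtain ⟨x, hx, rfl⟩ := Finset.mem_image.1 hy; exact h x hx)
    (by rw [Finset.card_image_of_injective _ g.injective])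
  refine fun x => ⟨fun hx => ?_, h x⟩
  rw [← himg, Finset.mem_image] at hx
  obtain ⟨y, hy, e⟩ := hx
  exact g.injective e ▸ hy

theorem fx_parity {s : Perm α} (h : s * s = 1) : (fx s).card % 2 = Fintype.card α % 2 := by
  haveI : Fact (Nat.Prime 2) := ⟨Nat.prime_two⟩
  have h1 := Equiv.Perm.card_compl_support_modEq (p := 2) (n := 1) (σ := s) (by simpa [sq] using h)
  rw [show s.supportᶜ = fx s by ext x; simp [mem_fx]] at h1
  exact h1

theorem eq_one_of_odd {L : Subgroup (Perm α)} (hodd : Odd (Nat.card L)) {l : Perm α} (hl : l ∈ L)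
    (h : l * l = 1) : l = 1 := by
  have h1 := Subgroup.orderOf_dvd_natCard L hl
  have h2 : orderOf l ∣ 2 := orderOf_dvd_of_pow_eq_one (by rw [sq, h])
  rcases (Nat.dvd_prime Nat.prime_two).1 h2 with h3 | h3
  · exact orderOf_eq_one_iff.1 h3
  · rw [h3] at h1
    exact absurd (even_iff_two_dvd.2 h1) (Nat.not_even_iff_odd.2 hodd)

/-- the order of a transitive group on `k`-tuples -/
theorem card_group {G : Subgroup (Perm α)} {k : ℕ} (hk : KT G k) {Γ : Finset α} (hΓ : Γ.card = k) :
    Nat.card G = (Fintype.card α).descFactorial k * Nat.card (fix G Γ) := by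
  classical
  let x : Fin k ↪ α := (Γ.equivFinOfCardEq hΓ).symm.toEmbedding.trans (Function.Embedding.subtype _)
  have hx : ∀ i, x i ∈ Γ := fun i => ((Γ.equivFinOfCardEq hΓ).symm i).2
  have hsurj : ∀ a ∈ Γ, ∃ i, x i = a := fun a ha => ⟨Γ.equivFinOfCardEq hΓ ⟨a, ha⟩, by simp [x]⟩
  have horb : MulAction.orbit G x = Set.univ := Set.eq_univ_of_forall fun y => by
    obtain ⟨σ, hσ⟩ := exists_perm_pair x y
    obtain ⟨g, hg, hgx⟩ := hk Γ hΓ.le σ
    exact ⟨⟨g, hg⟩, Function.Embedding.ext fun i => (hgx _ (hx i)).trans (hσ i)⟩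
  rw [← Nat.card_congr (MulAction.orbitProdStabilizerEquivGroup G x), Nat.card_prod]
  refine (congrArg (fun S : Set (Fin k ↪ α) => Nat.card S * _) horb).trans ?_
  rw [Nat.card_congr (Equiv.Set.univ _), Nat.card_eq_fintype_card,
    Fintype.card_embedding_eq, Fintype.card_fin]
  congr 1
  refine Nat.card_congr
    { toFun := fun g => ⟨(g.1 : Perm α), mem_fix.2 ⟨g.1.2, fun a ha => ?_⟩⟩
      invFun := fun g => ⟨⟨g.1, (mem_fix.1 g.2).1⟩, ?_⟩
      left_inv := fun _ => rfl
      right_inv := fun _ => rfl }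
  · obtain ⟨i, rfl⟩ := hsurj a ha
    exact DFunLike.congr_fun g.2 i
  · exact Function.Embedding.ext fun i => (mem_fix.1 g.2).2 _ (hx i)

theorem good_of_half {G : Subgroup (Perm α)} {k : ℕ} (hk : KT G k) (hs : Semi G k)
    (hkn : k < Fintype.card α) {Γ : Finset α} (hΓ : Γ.card = k)
    (hd : Fintype.card α - k ≤ 2 * Nat.card (fix G Γ)) : Good G k := by
  classical
  obtain ⟨Δ, -, hΔ⟩ := Finset.exists_subset_card_eq (s := (Finset.univ : Finset α)) (n := k + 1)
    (by rw [Finset.card_univ]; omega)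
  refine ⟨Δ, hΔ, altOn_of_restr (Perm.alternatingGroup_le_of_index_le_two ?_)⟩
  set A := restr G Δ with hA
  set Gf : Finset (Perm α) := Finset.univ.filter (· ∈ G) with hGf
  have hGc : Gf.card = Nat.card G := by
    rw [hGf, ← Fintype.card_subtype, ← Nat.card_eq_fintype_card]
  have hle : Gf.card ≤ (Nat.card A) * (Fintype.card α).choose (k + 1) := by
    rw [← Finset.card_univ, ← Finset.card_powersetCard]
    refine Finset.card_le_mul_card_image_of_maps_to (f := fun g : Perm α => Δ.image g)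
      (fun g _ => Finset.mem_powersetCard.2 ⟨Finset.subset_univ _, by
        rw [Finset.card_image_of_injective _ g.injective, hΔ]⟩) _ (fun S _ => ?_)
    rcases Finset.eq_empty_or_nonempty (Gf.filter fun g : Perm α => Δ.image g = S) with h | ⟨g₀, hg₀⟩
    · rw [h]; simp
    obtain ⟨hg₀, hS⟩ := Finset.mem_filter.1 hg₀
    have hg₀G : g₀ ∈ G := (Finset.mem_filter.1 hg₀).2
    have hpres : ∀ g ∈ Gf.filter (fun g : Perm α => Δ.image g = S), ∀ y, (g₀⁻¹ * g) y ∈ Δ ↔ y ∈ Δ := by
      intro g hg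
      refine preserves_of_maps fun y hy => ?_
      have h1 : g y ∈ Δ.image g₀ := by
        rw [hS, ← (Finset.mem_filter.1 hg).2]; exact Finset.mem_image_of_mem _ hy
      obtain ⟨z, hz, e⟩ := Finset.mem_image.1 h1
      rw [Perm.mul_apply, ← e]
      simpa using hz
    rw [Nat.card_eq_fintype_card, ← Finset.card_univ]
    refine Finset.card_le_card_of_injOn
      (fun g => if hg : g ∈ Gf.filter (fun g : Perm α => Δ.image g = S) then
        (⟨(g₀⁻¹ * g).subtypePerm (hpres g hg), g₀⁻¹ * g, mul_mem (inv_mem hg₀G)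
          (Finset.mem_filter.1 (Finset.mem_filter.1 hg).1).2, fun _ => rfl⟩ : A) else 1)
      (fun _ _ => Finset.mem_univ _) ?_
    intro g hg g' hg' e
    simp only [Finset.mem_coe] at hg hg'
    simp only [dif_pos hg, dif_pos hg', Subtype.mk.injEq] at e
    have hagree : ∀ y ∈ Δ, g y = g' y := by
      intro y hy
      have := congrArg Subtype.val (DFunLike.congr_fun (congrArg Subtype.val e) ⟨y, hy⟩)
      simpa using this
    have hgG := (Finset.mem_filter.1 (Finset.mem_filter.1 hg).1).2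
    have hgG' := (Finset.mem_filter.1 (Finset.mem_filter.1 hg').1).2
    have h1 := hs (g'⁻¹ * g) (mul_mem (inv_mem hgG') hgG) (by
      rw [← hΔ]
      exact Finset.card_le_card fun y hy => mem_fx.2 (by
        rw [Perm.mul_apply, hagree y hy]; simp))
    exact (inv_mul_eq_one.1 h1).symm
  rw [hGc, card_group hk hΓ] at hle
  have h2 := Subgroup.card_mul_index A
  rw [Nat.card_perm, Nat.card_eq_fintype_card (α := Δ), Fintype.card_coe, hΔ] at h2
  have h3 : (Fintype.card α).descFactorial k * (Fintype.card α - k) =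
      Nat.factorial (k + 1) * (Fintype.card α).choose (k + 1) := by
    rw [← Nat.descFactorial_eq_factorial_mul_choose, Nat.descFactorial_succ, mul_comm]
  have hchoose : 0 < (Fintype.card α).choose (k + 1) := Nat.choose_pos hkn
  have hdpos : 0 < Nat.card (fix G Γ) := Nat.card_pos
  have hApos : 0 < Nat.card A := Nat.card_pos
  by_contra hidx
  push Not at hidx
  have h4 : Nat.card A * 3 ≤ Nat.factorial (k + 1) := by
    rw [← h2]; exact Nat.mul_le_mul_left _ hidx
  nlinarith [Nat.mul_le_mul_left ((Fintype.card α).descFactorial k) hd,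
    Nat.mul_le_mul_right ((Fintype.card α).choose (k + 1)) h4]

/-- If the stabilizer of `k` points has even order, it has at most two orbits' worth of room. -/
theorem half_of_even {G : Subgroup (Perm α)} {k : ℕ} (hk : KT G k) (hs : Semi G k) (hk2 : 2 ≤ k)
    (hkn : k ≤ Fintype.card α) {Γ : Finset α} (hΓ : Γ.card = k)
    (heven : Even (Nat.card (fix G Γ))) : Fintype.card α - k ≤ 2 * Nat.card (fix G Γ) := by
  classical
  haveI : Fact (Nat.Prime 2) := ⟨Nat.prime_two⟩
  obtain ⟨C, -, hC⟩ := Finset.exists_subset_card_eq (s := (Finset.univ : Finset α)) (n := k - 2)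
    (by rw [Finset.card_univ]; omega)
  have hinv : ∀ S : Finset α, S.card = k →
      ∃ t ∈ fix G S, t * t = 1 ∧ fx t = S := by
    intro S hS
    obtain ⟨t, ht⟩ := exists_prime_orderOf_dvd_card' (G := fix G S) 2
      (by rw [card_fix_eq hk hS.le (hS.trans hΓ.symm)]; exact even_iff_two_dvd.1 heven)
    rw [← Subgroup.orderOf_coe] at ht
    refine ⟨t, t.2, ?_, (Finset.eq_of_subset_of_card_le
      (fun y hy => mem_fx.2 ((mem_fix.1 t.2).2 y hy)) ?_).symm⟩
    · rw [← sq, ← ht, pow_orderOf_eq_one]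
    · by_contra hlt
      push Not at hlt
      rw [hs t (mem_fix.1 t.2).1 (by omega), orderOf_one] at ht
      norm_num at ht
  set m := Fintype.card α - (k - 2) with hm
  have hCc : Cᶜ.card = m := by rw [Finset.card_compl, hC]
  let t : Finset α → Perm α := fun P => if h : (C ∪ P).card = k then (hinv _ h).choose else 1
  have ht : ∀ P ∈ Cᶜ.powersetCard 2, t P ∈ fix G (C ∪ P) ∧ t P * t P = 1 ∧ fx (t P) = C ∪ P := by
    intro P hP
    obtain ⟨hPC, hP2⟩ := Finset.mem_powersetCard.1 hP
    have h : (C ∪ P).card = k := by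
      rw [Finset.card_union_of_disjoint (Finset.disjoint_right.2 fun a ha =>
        Finset.mem_compl.1 (hPC ha)), hC, hP2]
      omega
    simp only [t, dif_pos h]
    exact (hinv _ h).choose_spec
  set src := (Cᶜ.powersetCard 2).sigma fun P => Cᶜ \ P with hsrc
  have hsrcc : src.card = m.choose 2 * (m - 2) := by
    rw [hsrc, Finset.card_sigma, Finset.sum_congr rfl (fun P hP => (?_ : _ = m - 2)),
      Finset.sum_const, Finset.card_powersetCard, hCc, smul_eq_mul]
    obtain ⟨hPC, hP2⟩ := Finset.mem_powersetCard.1 hP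
    rw [Finset.card_sdiff_of_subset hPC, hCc, hP2]
  have hcard : src.card ≤ Nat.card (fix G Γ) * Cᶜ.offDiag.card := by
    refine Finset.card_le_mul_card_image_of_maps_to (f := fun z => (z.2, t z.1 z.2)) ?_ _ ?_
    · rintro ⟨P, a⟩ hz
      obtain ⟨hP, ha⟩ := Finset.mem_sigma.1 hz
      obtain ⟨htm, ht2, htf⟩ := ht P hP
      obtain ⟨haC, haP⟩ := Finset.mem_sdiff.1 ha
      rw [Finset.mem_compl] at haC
      refine Finset.mem_offDiag.2 ⟨Finset.mem_compl.2 haC, Finset.mem_compl.2 fun hb => haC ?_,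
        fun e => ?_⟩
      · have h1 := (mem_fix.1 htm).2 _ (Finset.mem_union_left P hb)
        rw [apply_involutive ht2] at h1
        exact h1.symm ▸ hb
      · have h1 : a ∈ C ∪ P := htf ▸ mem_fx.2 e.symm
        rcases Finset.mem_union.1 h1 with h | h
        exacts [haC h, haP h]
    · rintro ⟨a, b⟩ hab
      obtain ⟨ha, hb, hne⟩ := Finset.mem_offDiag.1 hab
      rw [Finset.mem_compl] at ha hb
      rcases Finset.eq_empty_or_nonempty (src.filter fun z => (z.2, t z.1 z.2) = (a, b)) with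
        h | ⟨z₀, hz₀⟩
      · rw [h]; simp
      obtain ⟨hz₀, e₀⟩ := Finset.mem_filter.1 hz₀
      have hS : (insert a (insert b C)).card = k := by
        rw [Finset.card_insert_of_notMem (by simp [hne, ha]), Finset.card_insert_of_notMem hb, hC]
        omega
      rw [← card_fix_eq hk hS.le (hS.trans hΓ.symm), Nat.card_eq_fintype_card,
        Fintype.card_subtype]
      refine Finset.card_le_card_of_injOn (fun z => (t z₀.1)⁻¹ * t z.1) ?_ ?_
      · intro z hz
        obtain ⟨hz, e⟩ := Finset.mem_filter.1 hz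
        obtain ⟨htm, ht2, -⟩ := ht z.1 (Finset.mem_sigma.1 hz).1
        obtain ⟨htm₀, ht2₀, -⟩ := ht z₀.1 (Finset.mem_sigma.1 hz₀).1
        simp only [Prod.mk.injEq] at e e₀
        have h1 : t z.1 a = b := by rw [← e.1]; exact e.2
        have h2 : t z.1 b = a := by rw [← h1, apply_involutive ht2]
        have h3 : t z₀.1 a = b := by rw [← e₀.1]; exact e₀.2
        have h4 : t z₀.1 b = a := by rw [← h3, apply_involutive ht2₀]
        rw [Finset.mem_coe, Finset.mem_filter]
        refine ⟨Finset.mem_univ _, mem_fix.2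
          ⟨mul_mem (inv_mem (mem_fix.1 htm₀).1) (mem_fix.1 htm).1, fun y hy => ?_⟩⟩
        rw [Perm.mul_apply, Perm.inv_eq_iff_eq]
        rcases Finset.mem_insert.1 hy with rfl | hy
        · rw [h1, h3]
        rcases Finset.mem_insert.1 hy with rfl | hy
        · rw [h2, h4]
        · rw [(mem_fix.1 htm).2 y (Finset.mem_union_left _ hy),
            (mem_fix.1 htm₀).2 y (Finset.mem_union_left _ hy)]
      · intro z hz z' hz' e
        obtain ⟨hz, e1⟩ := Finset.mem_filter.1 hz
        obtain ⟨hz', e2⟩ := Finset.mem_filter.1 hz'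
        simp only [Prod.mk.injEq] at e1 e2
        have et : t z.1 = t z'.1 := mul_left_cancel e
        obtain ⟨hP, -⟩ := Finset.mem_sigma.1 hz
        obtain ⟨hP', -⟩ := Finset.mem_sigma.1 hz'
        have hfe := congrArg fx et
        rw [(ht _ hP).2.2, (ht _ hP').2.2] at hfe
        have hd : ∀ {P : Finset α}, P ∈ Cᶜ.powersetCard 2 → (C ∪ P) \ C = P := fun {P} hP =>
          Finset.union_sdiff_cancel_left (Finset.disjoint_right.2 fun x hx =>
            Finset.mem_compl.1 ((Finset.mem_powersetCard.1 hP).1 hx))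
        have hPP : z.1 = z'.1 := by rw [← hd hP, ← hd hP', hfe]
        obtain ⟨P, u⟩ := z
        obtain ⟨P', u'⟩ := z'
        simp only at e1 e2 hPP
        subst hPP
        rw [e1.1, e2.1]
  rw [hsrcc, Finset.offDiag_card, hCc] at hcard
  have h2 : m.choose 2 * 2 = m * m - m := by
    rw [Nat.choose_two_right, Nat.div_mul_cancel (even_iff_two_dvd.1 (Nat.even_mul_pred_self m)),
      Nat.mul_sub, mul_one]
  have hm2 : 2 ≤ m := by omega
  have hpos : 0 < m.choose 2 := Nat.choose_pos hm2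
  rw [show Fintype.card α - k = m - 2 by omega]
  refine Nat.le_of_mul_le_mul_left ?_ hpos
  calc m.choose 2 * (m - 2) ≤ Nat.card (fix G Γ) * (m * m - m) := hcard
    _ = m.choose 2 * (2 * Nat.card (fix G Γ)) := by rw [← h2]; ring

theorem card_le_fixed {G : Subgroup (Perm α)} (hs : Semi G 4) {x : Fin 4 ↪ α} {s : Perm α}
    {o : α} (ho : s o = o) (hox : o ∉ quad x) :
    Nat.card ↥(fix G (quad x) ⊓ Subgroup.centralizer ({s} : Set (Perm α))) ≤
      (fx s \ quad x).card := by
  classical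
  rw [Nat.card_eq_fintype_card, ← Finset.card_univ]
  refine Finset.card_le_card_of_injOn (fun l => (l : Perm α) o) ?_ ?_
  · intro l _
    refine Finset.mem_coe.2 (Finset.mem_sdiff.2 ⟨mem_fx.2 ?_, fun h => hox ?_⟩)
    · have h1 := Subgroup.mem_centralizer_singleton_iff.1 l.2.2
      rw [← Perm.mul_apply, ← h1, Perm.mul_apply, ho]
    · have := (mem_fix.1 l.2.1).2 _ h
      rwa [(l : Perm α).injective this] at h
  · intro l _ l' _ e
    have hmem := mem_fix.1 (mul_mem (inv_mem l'.2.1) l.2.1)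
    refine Subtype.ext (inv_mul_eq_one.1 (hs _ hmem.1 ?_)).symm
    have hsub : insert o (quad x) ⊆ fx ((l' : Perm α)⁻¹ * l) := by
      intro y hy
      rcases Finset.mem_insert.1 hy with rfl | hy
      · exact mem_fx.2 (by rw [Perm.mul_apply]; simp only at e; rw [e]; simp)
      · exact mem_fx.2 (hmem.2 y hy)
    have := Finset.card_le_card hsub
    rw [Finset.card_insert_of_notMem hox, card_quad] at this
    omega

theorem conj_mem_of_pattern {G : Subgroup (Perm α)} {π : Fin 4 → Fin 4} {x : Fin 4 ↪ α}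
    {s : Perm α} (hs : HasPattern G π x s) :
    ∀ l ∈ fix G (quad x), s * l * s ∈ fix G (quad x) := by
  intro l hl
  obtain ⟨h1, h2⟩ := mem_fix.1 hl
  refine mem_fix.2 ⟨mul_mem (mul_mem hs.1 h1) hs.1, fun y hy => ?_⟩
  obtain ⟨i, rfl⟩ := mem_quad.1 hy
  rw [Perm.mul_apply, Perm.mul_apply, hs.2.2, h2 _ (mem_quad.2 ⟨_, rfl⟩), ← hs.2.2,
    apply_involutive hs.2.1]

theorem agree_of_patterns {G : Subgroup (Perm α)} {π₁ π₂ π₃ : Fin 4 → Fin 4} {x : Fin 4 ↪ α}
    {s₁ s₂ s₃ : Perm α} (h₁ : HasPattern G π₁ x s₁) (h₂ : HasPattern G π₂ x s₂)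
    (h₃ : HasPattern G π₃ x s₃) (h : ∀ i, π₃ (π₁ (π₂ i)) = i) :
    s₃ * (s₁ * s₂) ∈ fix G (quad x) := by
  refine mem_fix.2 ⟨mul_mem h₃.1 (mul_mem h₁.1 h₂.1), fun y hy => ?_⟩
  obtain ⟨i, rfl⟩ := mem_quad.1 hy
  rw [Perm.mul_apply, Perm.mul_apply, h₂.2.2, h₁.2.2, h₃.2.2, h]

/-- two inverting involutions give an element centralizing the stabilizer -/
theorem cent_of_inverts {L : Subgroup (Perm α)} {s₁ s₂ s₃ : Perm α} (h3 : s₃ * s₃ = 1)
    (hl₀ : s₃ * (s₁ * s₂) ∈ L)
    (hi₁ : ∀ l ∈ L, s₁ * l * s₁ = l⁻¹) (hi₂ : ∀ l ∈ L, s₂ * l * s₂ = l⁻¹) (h1 : s₁ * s₁ = 1)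
    (h2 : s₂ * s₂ = 1) : ∀ l ∈ L, s₃ * l = l * s₃ := by
  intro l hl
  have hcomm : ∀ a ∈ L, ∀ b ∈ L, a * b = b * a := by
    intro a ha b hb
    have e := hi₁ _ (mul_mem ha hb)
    rw [_root_.mul_inv_rev, show s₁ * (a * b) * s₁ = s₁ * a * s₁ * (s₁ * b * s₁) by
      simp [mul_assoc, ← mul_assoc s₁ s₁, h1], hi₁ a ha, hi₁ b hb] at e
    have e2 := congrArg (·⁻¹) e
    simpa using e2.symm
  set l₀ := s₃ * (s₁ * s₂) with hl₀def
  have hprod : s₁ * s₂ = s₃ * l₀ := by
    rw [hl₀def, ← mul_assoc, h3, one_mul]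
  have hc : (s₁ * s₂) * l = l * (s₁ * s₂) := by
    have hs2l : s₂ * l = l⁻¹ * s₂ := by
      rw [← hi₂ l hl]; simp [mul_assoc, h2]
    have hs1l : s₁ * l⁻¹ = l * s₁ := by
      have := hi₁ _ (inv_mem hl)
      rw [inv_inv] at this
      calc s₁ * l⁻¹ = s₁ * l⁻¹ * s₁ * s₁ := by rw [mul_assoc (s₁ * l⁻¹), h1, mul_one]
        _ = l * s₁ := by rw [this]
    rw [mul_assoc, hs2l, ← mul_assoc, hs1l, mul_assoc]
  rw [hprod] at hc
  refine mul_right_cancel (b := l₀) ?_
  rw [mul_assoc s₃ l, ← hcomm l₀ hl₀ l hl, ← mul_assoc, hc, mul_assoc]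

/-- In degree four of transitivity, an odd stabilizer of small order forces eleven points. -/
theorem structure_four {G : Subgroup (Perm α)} (hk : KT G 4) (hs : Semi G 4)
    (hn : 6 ≤ Fintype.card α) (x : Fin 4 ↪ α) (hodd : Odd (Nat.card (fix G (quad x))))
    (hbig : 2 * Nat.card (fix G (quad x)) < Fintype.card α - 4) :
    Fintype.card α = 11 ∧ Nat.card (fix G (quad x)) = 1 := by
  classical
  have hodd' : ∀ y : Fin 4 ↪ α, Odd (Nat.card (fix G (quad y))) := fun y => by
    rwa [card_fix_eq hk (card_quad y).le ((card_quad y).trans (card_quad x).symm)]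
  set d := Nat.card (fix G (quad x)) with hd
  have hdpos : 0 < d := Nat.card_pos
  set n := Fintype.card α with hndef
  have hne4 : ∀ s ∈ G, s * s = 1 → s ≠ 1 → (fx s).card < 4 := by
    intro s hsG h2 hs1
    by_contra h
    push Not at h
    rcases Nat.lt_or_ge 4 (fx s).card with h5 | h5
    · exact hs1 (hs s hsG h5)
    have h4 : (fx s).card = 4 := le_antisymm h5 h
    have hmem : s ∈ fix G (fx s) := mem_fix.2 ⟨hsG, fun y hy => mem_fx.1 hy⟩
    refine hs1 (eq_one_of_odd ?_ hmem h2)
    rwa [card_fix_eq hk h4.le (h4.trans (card_quad x).symm)]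
  obtain ⟨u, hu⟩ := exists_pattern hk hodd' (Equiv.swap 0 1) (by decide) x
  have hπu : (⇑(Equiv.swap (0 : Fin 4) 1)) = ![1, 0, 2, 3] := funext (by decide)
  rw [hπu] at hu
  have hu1 : u ≠ 1 := fun e => x.injective.ne (show (0 : Fin 4) ≠ 1 by decide) (by
    simpa [e] using hu.2.2 0)
  have hfu : 2 ≤ (fx u).card := by
    refine le_of_eq_of_le ?_ (Finset.card_le_card (s := {x 2, x 3}) ?_)
    · rw [Finset.card_pair (x.injective.ne (by decide))]
    · intro y hy
      rcases Finset.mem_insert.1 hy with rfl | hy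
      · exact mem_fx.2 (hu.2.2 2)
      · rw [Finset.mem_singleton.1 hy]; exact mem_fx.2 (hu.2.2 3)
  have hfu4 := hne4 u hu.1 hu.2.1 hu1
  have hpar := fx_parity hu.2.1
  set f := (fx u).card with hf
  have hU : ∀ y s, HasPattern G ![1, 0, 2, 3] y s → (fx s).card = f := fun y s h =>
    fx_const hk hodd' h hu
  -- a second pair moved by `u`
  obtain ⟨c, hc⟩ : ∃ c, c ∈ (fx u)ᶜ \ {x 0, x 1} := by
    refine Finset.card_pos.1 (lt_of_lt_of_le ?_ (Finset.le_card_sdiff _ _))
    rw [Finset.card_compl, ← hf, Finset.card_pair (x.injective.ne (by decide))]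
    omega
  obtain ⟨hc1, hc2⟩ := Finset.mem_sdiff.1 hc
  rw [Finset.mem_compl, mem_fx] at hc1
  simp only [Finset.mem_insert, Finset.mem_singleton, not_or] at hc2
  have hu01 : u (x 0) = x 1 := hu.2.2 0
  have hu10 : u (x 1) = x 0 := hu.2.2 1
  let y₁ : Fin 4 ↪ α := mkQuad (x 0) (x 1) c (u c) (x.injective.ne (by decide)) (Ne.symm hc2.1)
    (fun e => hc2.2 (by rw [← hu01, e, apply_involutive hu.2.1])) (Ne.symm hc2.2)
    (fun e => hc2.1 (by rw [← hu10, e, apply_involutive hu.2.1])) (Ne.symm hc1)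
  have hw₁ : HasPattern G ![1, 0, 3, 2] y₁ u := isW_iff.1 ⟨hu.1, hu.2.1, hu01, rfl⟩
  have hW : ∀ y s, HasPattern G ![1, 0, 3, 2] y s → (fx s).card = f := fun y s h =>
    fx_const hk hodd' h hw₁
  have hcount := count hk x hU hW ⟨u, hu⟩
  -- the fixed points of a double transposition lie outside the four points
  have hWout : ∀ (π : Fin 4 → Fin 4) (y : Fin 4 ↪ α) (s : Perm α), HasPattern G π y s →
      (∀ i, π i ≠ i) → fx s \ quad y = fx s := by
    intro π y s h hπ
    refine Finset.sdiff_eq_self_of_disjoint (Finset.disjoint_right.2 fun z hz => ?_)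
    obtain ⟨i, rfl⟩ := mem_quad.1 hz
    rw [mem_fx, h.2.2]
    exact y.injective.ne (hπ i)
  have hrecolor : ∀ τ : Perm (Fin 4), quad (τ.toEmbedding.trans x) = quad x := by
    intro τ
    ext z
    simp only [mem_quad, Function.Embedding.trans_apply, Equiv.coe_toEmbedding]
    exact τ.exists_congr_left.trans (by simp)
  have hdvd : ∀ (s : Perm α),
      Nat.card ↥(fix G (quad x) ⊓ Subgroup.centralizer ({s} : Set (Perm α))) ∣ d :=
    fun s => Subgroup.card_dvd_of_le inf_le_left
  rcases (show f = 2 ∨ f = 3 by omega) with hf2 | hf3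
  · exfalso
    -- every double transposition inverts the stabilizer
    have hinvW : ∀ (π : Fin 4 → Fin 4) (s : Perm α) (τ : Perm (Fin 4)), HasPattern G π x s →
        (∀ i, π i ≠ i) → (∀ i, π (τ i) = τ (![1, 0, 3, 2] i)) →
        ∀ l ∈ fix G (quad x), s * l * s = l⁻¹ := by
      intro π s τ h hπ hτ
      have hf' : (fx s).card = 2 := hf2 ▸ hW (τ.toEmbedding.trans x) s
        ⟨h.1, h.2.1, fun i => by simp [h.2.2, hτ]⟩
      refine inverts_of_cent_trivial _ h.2.1 (conj_mem_of_pattern h) fun l hl hls => ?_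
      obtain ⟨o, ho⟩ := Finset.card_pos.1 (show 0 < (fx s).card by omega)
      have hle := card_le_fixed hs (x := x) (mem_fx.1 ho) (by
        rw [← hWout π x s h hπ] at ho; exact (Finset.mem_sdiff.1 ho).2)
      rw [hWout π x s h hπ, hf'] at hle
      have h1 : Nat.card ↥(fix G (quad x) ⊓ Subgroup.centralizer ({s} : Set (Perm α))) = 1 := by
        have ho' := hodd.of_dvd_nat (hdvd s)
        rw [Nat.odd_iff] at ho'
        omega
      have hmem : l ∈ fix G (quad x) ⊓ Subgroup.centralizer ({s} : Set (Perm α)) :=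
        ⟨hl, Subgroup.mem_centralizer_singleton_iff.2 (by
          conv_lhs => rw [← hls]
          rw [mul_assoc, h.2.1, mul_one])⟩
      rw [Subgroup.card_eq_one.1 h1, Subgroup.mem_bot] at hmem
      exact hmem
    obtain ⟨w₁, hw₁'⟩ := exists_pattern hk hodd' (Equiv.swap 0 1 * Equiv.swap 2 3) (by decide) x
    obtain ⟨w₂, hw₂'⟩ := exists_pattern hk hodd' (Equiv.swap 0 2 * Equiv.swap 1 3) (by decide) x
    obtain ⟨w₃, hw₃'⟩ := exists_pattern hk hodd' (Equiv.swap 0 3 * Equiv.swap 1 2) (by decide) x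
    have i₁ := hinvW _ w₁ 1 hw₁' (by decide) (by decide)
    have i₂ := hinvW _ w₂ (Equiv.swap 1 2) hw₂' (by decide) (by decide)
    have i₃ := hinvW _ w₃ (Equiv.swap 1 3) hw₃' (by decide) (by decide)
    have hcent := cent_of_inverts hw₃'.2.1 (agree_of_patterns hw₁' hw₂' hw₃' (by decide)) i₁ i₂
      hw₁'.2.1 hw₂'.2.1
    have hd1 : d = 1 := by
      rw [hd, Subgroup.card_eq_one, Subgroup.eq_bot_iff_forall]
      intro l hl
      refine eq_one_of_odd hodd hl ?_
      have := i₃ l hl
      rw [hcent l hl, mul_assoc, hw₃'.2.1, mul_one] at this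
      conv_lhs => arg 2; rw [this]
      rw [mul_inv_cancel]
    have hone : ∀ π, ∀ s, HasPattern G π x s → (invSet G π x).card = 1 := by
      intro π s h
      have := invSet_card_mul hodd' h
      rw [← hd, hd1] at this
      exact Nat.eq_one_of_mul_eq_one_right this
    rw [hf2, hone _ u hu, hone _ w₁ (by
      have : (⇑((Equiv.swap (0 : Fin 4) 1 * Equiv.swap 2 3 : Perm (Fin 4)))) = ![1, 0, 3, 2] := funext (by decide)
      rw [← this]; exact hw₁')] at hcount
    omega
  · -- transpositions invert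
    have hinvU : ∀ (π : Fin 4 → Fin 4) (s : Perm α) (τ : Perm (Fin 4)), HasPattern G π x s →
        (∀ i, π (τ i) = τ (![1, 0, 2, 3] i)) →
        (∀ l ∈ fix G (quad x), s * l * s = l⁻¹) ∧
          Nat.card ↥(fix G (quad x) ⊓ Subgroup.centralizer ({s} : Set (Perm α))) = 1 := by
      intro π s τ h hτ
      have hpat : HasPattern G ![1, 0, 2, 3] (τ.toEmbedding.trans x) s :=
        ⟨h.1, h.2.1, fun i => by simp [h.2.2, hτ]⟩
      have hf' : (fx s).card = 3 := hf3 ▸ hU _ s hpat
      have hin : fx s ∩ quad x = {x (τ 2), x (τ 3)} := by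
        ext z
        simp only [Finset.mem_inter, mem_fx, Finset.mem_insert, Finset.mem_singleton]
        constructor
        · rintro ⟨hz, hzq⟩
          rw [← hrecolor τ] at hzq
          obtain ⟨i, rfl⟩ := mem_quad.1 hzq
          rw [hpat.2.2] at hz
          have hi := (τ.toEmbedding.trans x).injective hz
          fin_cases i
          · exact absurd hi (by decide)
          · exact absurd hi (by decide)
          · exact Or.inl rfl
          · exact Or.inr rfl
        · rintro (rfl | rfl)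
          · exact ⟨hpat.2.2 2, mem_quad.2 ⟨_, rfl⟩⟩
          · exact ⟨hpat.2.2 3, mem_quad.2 ⟨_, rfl⟩⟩
      have hout : (fx s \ quad x).card = 1 := by
        rw [Finset.card_sdiff, Finset.inter_comm, hin, hf', Finset.card_pair
          (x.injective.ne (τ.injective.ne (by decide)))]
      obtain ⟨o, ho⟩ := Finset.card_pos.1 (show 0 < (fx s \ quad x).card by omega)
      obtain ⟨ho1, ho2⟩ := Finset.mem_sdiff.1 ho
      have hle := card_le_fixed hs (x := x) (mem_fx.1 ho1) ho2
      rw [hout] at hle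
      have h1 : Nat.card ↥(fix G (quad x) ⊓ Subgroup.centralizer ({s} : Set (Perm α))) = 1 :=
        le_antisymm hle Nat.card_pos
      refine ⟨inverts_of_cent_trivial _ h.2.1 (conj_mem_of_pattern h) fun l hl hls => ?_, h1⟩
      have hmem : l ∈ fix G (quad x) ⊓ Subgroup.centralizer ({s} : Set (Perm α)) :=
        ⟨hl, Subgroup.mem_centralizer_singleton_iff.2 (by
          conv_lhs => rw [← hls]
          rw [mul_assoc, h.2.1, mul_one])⟩
      rw [Subgroup.card_eq_one.1 h1, Subgroup.mem_bot] at hmem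
      exact hmem
    obtain ⟨u₂, hu₂⟩ := exists_pattern hk hodd' (Equiv.swap 2 3) (by decide) x
    obtain ⟨w, hw⟩ := exists_pattern hk hodd' (Equiv.swap 0 1 * Equiv.swap 2 3) (by decide) x
    have hπw : (⇑((Equiv.swap (0 : Fin 4) 1 * Equiv.swap 2 3 : Perm (Fin 4)))) = ![1, 0, 3, 2] := funext (by decide)
    obtain ⟨i₁, c₁⟩ := hinvU _ u 1 hu (by decide)
    obtain ⟨i₂, -⟩ := hinvU _ u₂ (Equiv.swap 0 2 * Equiv.swap 1 3) hu₂ (by decide)
    have hcent := cent_of_inverts hw.2.1 (agree_of_patterns hu hu₂ hw (by decide)) i₁ i₂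
      hu.2.1 hu₂.2.1
    have hCw : fix G (quad x) ⊓ Subgroup.centralizer ({w} : Set (Perm α)) = fix G (quad x) :=
      inf_eq_left.2 fun l hl => Subgroup.mem_centralizer_singleton_iff.2 (hcent l hl).symm
    rw [hπw] at hw
    have hfw := hf3 ▸ hW x w hw
    have hd3 : d ≤ 3 := by
      obtain ⟨o, ho⟩ := Finset.card_pos.1 (show 0 < (fx w).card by omega)
      have hle := card_le_fixed hs (x := x) (mem_fx.1 ho) (by
        rw [← hWout _ x w hw (by decide)] at ho; exact (Finset.mem_sdiff.1 ho).2)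
      rwa [hWout _ x w hw (by decide), hfw, hCw] at hle
    have e1 := invSet_card_mul hodd' hu
    rw [c₁, mul_one] at e1
    have e2 := invSet_card_mul hodd' hw
    rw [hCw] at e2
    have e2' : (invSet G ![1, 0, 3, 2] x).card = 1 :=
      Nat.eq_of_mul_eq_mul_right hdpos (e2.trans (one_mul _).symm)
    rw [e1, e2', hf3, ← hd] at hcount
    rw [Nat.odd_iff] at hodd
    rcases (show d = 1 ∨ d = 3 by omega) with h | h
    · exact ⟨by rw [h] at hcount; omega, h⟩
    · rw [h] at hcount hbig; omega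

end CfsgLib.LW
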