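import Cfsg.Agent.Lib.Perm.LW.Orbits
import Cfsg.Agent.Lib.Perm.JordanPrime

/-!
Set-transitive groups of small degree of transitivity.
-/

set_option autoImplicit false
set_option linter.style.haveILetI false
set_option linter.unusedSectionVars false

namespace CfsgLib.LW

open Equiv

theorem sol_four : ∀ r ∈ Finset.range 7, ∀ s ∈ Finset.range 13, ∀ N ∈ Finset.range 13, 2 ≤ r → 6 % r = 0 → 0 < s → N % 2 = 0 →
    N * (r * s - 1) = 12 * (s - 1) →
      (r = 2 ∧ s = 1) ∨ (r = 2 ∧ s = 2) ∨ (r = 3 ∧ s = 1) ∨ (r = 6 ∧ s = 1) := by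
  decide +kernel

theorem sol_five : ∀ r ∈ Finset.range 25, ∀ s ∈ Finset.range 21, ∀ N ∈ Finset.range 21, 2 ≤ r → 24 % r = 0 → 0 < s → N % 2 = 0 →
    N * (r * s - 1) = 20 * (s - 1) →
      s = 1 ∨ (r = 2 ∧ s = 3) ∨ (r = 3 ∧ s = 2 ∧ N = 4) ∨ (r = 3 ∧ s = 7 ∧ N = 6) ∨
        (r = 4 ∧ s = 4) := by
  decide +kernel

open scoped Classical

universe v

variable {α : Type v} [Fintype α] [DecidableEq α]

theorem not_swap_mem {G : Subgroup (Perm α)} {j : ℕ} (hk : KT G 2) (hnk : ¬ KT G j) (a b : α)
    (hab : a ≠ b) : Equiv.swap a b ∉ G := by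
  intro h
  refine hnk fun T hT σ => ⟨σ, ?_, fun _ _ => rfl⟩
  have hp : MulAction.IsPreprimitive G α :=
    MulAction.isPreprimitive_of_is_two_pretransitive (isMultiplyPretransitive_of_kt hk)
  rw [Perm.subgroup_eq_top_of_isPreprimitive_of_isSwap_mem hp _ ⟨a, b, hab, rfl⟩ h]
  exact Subgroup.mem_top σ

theorem exists_involution {G : Subgroup (Perm α)} (hk : KT G 2) (h2 : 2 ≤ Fintype.card α) :
    ∃ s ∈ G, s * s = 1 ∧ s ≠ 1 := by
  obtain ⟨a, b, hab⟩ := Fintype.exists_pair_of_one_lt_card (show 1 < Fintype.card α by omega)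
  obtain ⟨g, hg, hgx⟩ := hk {a, b} (Finset.card_pair hab).le (Equiv.swap a b)
  have hga : g a = b := by rw [hgx a (by simp), Equiv.swap_apply_left]
  have hgb : g b = a := by rw [hgx b (by simp), Equiv.swap_apply_right]
  have heven : 2 ∣ orderOf g := by
    by_contra h
    have h1 : (g ^ orderOf g) a = g a :=
      odd_pow_apply (by rw [hga, hgb]) (Nat.odd_iff.2 (by omega))
    rw [pow_orderOf_eq_one, hga] at h1
    exact hab h1
  refine ⟨g ^ (orderOf g / 2), pow_mem hg _, ?_, fun h => ?_⟩
  · rw [← pow_add, ← two_mul, Nat.mul_div_cancel' heven, pow_orderOf_eq_one]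
  · have h1 := orderOf_pow_orderOf_div (orderOf_pos g).ne' heven
    rw [h, orderOf_one] at h1
    norm_num at h1

theorem exists_double {G : Subgroup (Perm α)} {j : ℕ} (hk : KT G 2) (hnk : ¬ KT G j)
    (h2 : 2 ≤ Fintype.card α) :
    ∃ s ∈ G, s * s = 1 ∧ ∃ a c, s a ≠ a ∧ s c ≠ c ∧ a ≠ c ∧ s a ≠ c := by
  obtain ⟨s, hs, hs2, hs1⟩ := exists_involution hk h2
  obtain ⟨a, ha⟩ : ∃ a, s a ≠ a := by
    by_contra h
    push Not at h
    exact hs1 (Equiv.ext h)
  refine ⟨s, hs, hs2, a, ?_⟩
  by_contra hc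
  push Not at hc
  refine not_swap_mem hk hnk a (s a) (Ne.symm ha) ?_
  suffices e : s = Equiv.swap a (s a) by rw [← e]; exact hs
  ext z
  by_cases hz1 : z = a
  · rw [hz1, Equiv.swap_apply_left]
  by_cases hz2 : z = s a
  · rw [hz2, Equiv.swap_apply_right, apply_involutive hs2]
  rw [Equiv.swap_apply_of_ne_of_ne hz1 hz2]
  by_contra hz
  exact hz2 (hc z ha hz (Ne.symm hz1)).symm

theorem pow_eq_one_dvd {Γ : Type*} [Group Γ] {x : Γ} {p : ℕ} (hp : p.Prime) (h : x ^ p = 1)
    (h1 : x ≠ 1) : orderOf x = p := by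
  haveI : Fact p.Prime := ⟨hp⟩
  exact orderOf_eq_prime h h1

/-- the elements of `G` of order three have no fixed point when four-sets carry groups of order eight -/
theorem no_three {G : Subgroup (Perm α)} (h8 : ∀ Δ : Finset α, Δ.card = 4 →
      Nat.card (restr G Δ) = 8) {g : Perm α} (hg : g ∈ G) (h3 : g * g * g = 1) {a v : α}
    (ha : g a ≠ a) (hv : g v = v) : False := by
  have hga : g (g (g a)) = a := by rw [← Perm.mul_apply, ← Perm.mul_apply, h3]; rfl
  have h2 : g (g a) ≠ a := fun e => ha (by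
    have := congrArg g e
    rw [hga] at this
    exact this.symm)
  have hv1 : ∀ z, g z = v → z = v := fun z e => g.injective (e.trans hv.symm)
  have hd : ({v, a, g a, g (g a)} : Finset α).card = 4 := by
    rw [Finset.card_insert_of_notMem, Finset.card_eq_three.2
      ⟨a, g a, g (g a), Ne.symm ha, Ne.symm h2, fun e => ha (g.injective e).symm, rfl⟩]
    simp only [Finset.mem_insert, Finset.mem_singleton, not_or]
    exact ⟨fun e => ha (by rw [← e, hv]),
      fun e => ha ((congrArg g (hv1 a e.symm)).trans (hv.trans (hv1 a e.symm).symm)),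
      fun e => ha ((congrArg g (hv1 a (hv1 _ e.symm))).trans
        (hv.trans (hv1 a (hv1 _ e.symm)).symm))⟩
  set Δ : Finset α := {v, a, g a, g (g a)} with hΔ
  have hpres : ∀ z, g z ∈ Δ ↔ z ∈ Δ := preserves_of_maps fun z hz => by
    simp only [hΔ, Finset.mem_insert, Finset.mem_singleton] at hz ⊢
    rcases hz with rfl | rfl | rfl | rfl
    · exact Or.inl hv
    · exact Or.inr (Or.inr (Or.inl rfl))
    · exact Or.inr (Or.inr (Or.inr rfl))
    · exact Or.inr (Or.inl hga)
  have hmem : g.subtypePerm hpres ∈ restr G Δ := ⟨g, hg, fun _ => rfl⟩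
  have ho : orderOf (g.subtypePerm hpres) = 3 := by
    refine pow_eq_one_dvd Nat.prime_three (Equiv.ext fun z => Subtype.ext ?_) fun e => ha ?_
    · show ((((g.subtypePerm hpres) ^ 3) z : Δ) : α) = z
      simp only [pow_succ, pow_zero, one_mul, Perm.mul_apply]
      show g (g (g (z : α))) = z
      rw [← Perm.mul_apply, ← Perm.mul_apply, h3]; rfl
    · have haΔ : a ∈ Δ := by simp [hΔ]
      exact congrArg Subtype.val (DFunLike.congr_fun e ⟨a, haΔ⟩)
  have := Subgroup.orderOf_dvd_natCard _ hmem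
  rw [ho, h8 Δ hd] at this
  norm_num at this

/-- a group of order six on four points fixes a point, so no double transposition is induced -/
theorem no_six {G : Subgroup (Perm α)} {j : ℕ} (hk : KT G 2) (hnk : ¬ KT G j)
    (h2 : 2 ≤ Fintype.card α)
    (h6 : ∀ Δ : Finset α, Δ.card = 4 → Nat.card (restr G Δ) = 6) : False := by
  obtain ⟨s, hs, hs2, a, c, ha, hc, hac, hsac⟩ := exists_double hk hnk h2
  have hsca : s c ≠ a := fun e => hsac (by rw [← e, apply_involutive hs2])
  have hne : a ≠ s c := Ne.symm hsca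
  have hd : ({a, s a, c, s c} : Finset α).card = 4 := by
    rw [Finset.card_insert_of_notMem, Finset.card_eq_three.2
      ⟨s a, c, s c, hsac, fun e => hac (s.injective e), Ne.symm hc, rfl⟩]
    simp only [Finset.mem_insert, Finset.mem_singleton, not_or]
    exact ⟨Ne.symm ha, hac, hne⟩
  set Δ : Finset α := {a, s a, c, s c} with hΔ
  have hpres : ∀ z, s z ∈ Δ ↔ z ∈ Δ := preserves_of_maps fun z hz => by
    simp only [hΔ, Finset.mem_insert, Finset.mem_singleton] at hz ⊢
    rcases hz with rfl | rfl | rfl | rfl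
    · exact Or.inr (Or.inl rfl)
    · exact Or.inl (apply_involutive hs2 a)
    · exact Or.inr (Or.inr (Or.inr rfl))
    · exact Or.inr (Or.inr (Or.inl (apply_involutive hs2 c)))
  set A := restr G Δ
  set δ := s.subtypePerm hpres
  have hδ : δ ∈ A := ⟨s, hs, fun _ => rfl⟩
  haveI : Fact (Nat.Prime 3) := ⟨Nat.prime_three⟩
  obtain ⟨τ, hτ⟩ := exists_prime_orderOf_dvd_card' (G := A) 3 (by rw [h6 Δ hd]; norm_num)
  have hidx : (Subgroup.zpowers τ).index = 2 := by
    have h1 := (Subgroup.zpowers τ).index_mul_card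
    rw [Nat.card_zpowers, hτ, h6 Δ hd] at h1
    omega
  haveI := Subgroup.normal_of_index_eq_two hidx
  have ht3 : (τ : Perm Δ) ^ 3 = 1 := by
    rw [← Subgroup.coe_pow, ← hτ, pow_orderOf_eq_one]; rfl
  have hmod : (fx (τ : Perm Δ)).card % 3 = 1 := by
    have h1 := Equiv.Perm.card_compl_support_modEq (p := 3) (n := 1) (σ := (τ : Perm Δ))
      (by simpa using ht3)
    rw [show (τ : Perm Δ).supportᶜ = fx (τ : Perm Δ) by ext x; simp [mem_fx]] at h1
    rw [h1, Fintype.card_coe, hd]
  have hlt : (fx (τ : Perm Δ)).card < 4 := by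
    by_contra h
    push Not at h
    have he : fx (τ : Perm Δ) = Finset.univ := Finset.eq_of_subset_of_card_le (Finset.subset_univ _)
      (by rwa [Finset.card_univ, Fintype.card_coe, hd])
    have : τ = 1 := Subtype.ext (Equiv.ext fun z => mem_fx.1 (he.symm ▸ Finset.mem_univ z))
    rw [this, orderOf_one] at hτ
    norm_num at hτ
  obtain ⟨e₀, he₀⟩ := Finset.card_eq_one.1 (show (fx (τ : Perm Δ)).card = 1 by omega)
  have he₀' : (τ : Perm Δ) e₀ = e₀ := mem_fx.1 (he₀.symm ▸ Finset.mem_singleton_self e₀)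
  have hconj : δ⁻¹ * (τ : Perm Δ) * δ ∈ (Subgroup.zpowers τ).map A.subtype := by
    refine ⟨(⟨δ, hδ⟩ : A)⁻¹ * τ * ⟨δ, hδ⟩, ?_, rfl⟩
    simpa using Subgroup.Normal.conj_mem inferInstance τ (Subgroup.mem_zpowers τ) (⟨δ, hδ⟩ : A)⁻¹
  obtain ⟨q, hq, hqe⟩ := hconj
  obtain ⟨i, rfl⟩ := Subgroup.mem_zpowers_iff.1 hq
  have hfixed : (δ⁻¹ * (τ : Perm Δ) * δ) e₀ = e₀ := by
    rw [← hqe]
    show ((τ ^ i : A) : Perm Δ) e₀ = e₀
    rw [Subgroup.coe_zpow]
    exact Perm.zpow_apply_eq_self_of_apply_eq_self he₀' i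
  rw [Perm.mul_apply, Perm.mul_apply, Perm.inv_eq_iff_eq] at hfixed
  have h1 : δ e₀ = e₀ := by
    have : δ e₀ ∈ fx (τ : Perm Δ) := mem_fx.2 hfixed
    rwa [he₀, Finset.mem_singleton] at this
  have h1' : s (e₀ : α) = e₀ := congrArg Subtype.val h1
  have hmem := e₀.2
  simp only [hΔ, Finset.mem_insert, Finset.mem_singleton] at hmem
  rcases hmem with h | h | h | h <;> rw [h] at h1'
  · exact ha h1'
  · rw [apply_involutive hs2] at h1'; exact ha h1'.symm
  · exact hc h1'
  · rw [apply_involutive hs2] at h1'; exact hc h1'.symm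

theorem perm_stab_card {β : Type*} [Fintype β] [DecidableEq β] (h4 : Fintype.card β = 4) (v : β) :
    Nat.card (MulAction.stabilizer (Perm β) v) = 6 := by
  have h := Nat.card_congr (MulAction.orbitProdStabilizerEquivGroup (Perm β) v)
  rw [Nat.card_prod, MulAction.orbit_eq_univ, Nat.card_congr (Equiv.Set.univ β), Nat.card_perm,
    Nat.card_eq_fintype_card (α := β), h4, show Nat.factorial 4 = 24 from rfl] at h
  omega

theorem eight_trans {β : Type*} [Fintype β] [DecidableEq β] (h4 : Fintype.card β = 4)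
    (A : Subgroup (Perm β)) (hA : Nat.card A = 8) (v w : β) : ∃ a ∈ A, a v = w := by
  have h := Nat.card_congr (MulAction.orbitProdStabilizerEquivGroup A v)
  rw [Nat.card_prod, hA] at h
  have h6 : Nat.card (MulAction.stabilizer A v) ∣ 6 := by
    rw [← perm_stab_card h4 v,
      Nat.card_congr (Subgroup.equivMapOfInjective _ _ A.subtype_injective).toEquiv]
    refine Subgroup.card_dvd_of_le ?_
    rintro _ ⟨g, hg, rfl⟩
    exact hg
  have h2 : Nat.card (MulAction.stabilizer A v) ∣ 2 :=
    Nat.dvd_gcd (Dvd.intro_left _ h) h6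
  have hle := Nat.le_of_dvd (by norm_num) h2
  have h4' : 4 ≤ Nat.card (MulAction.orbit A v) := by nlinarith
  have huniv : MulAction.orbit A v = Set.univ := by
    refine Set.eq_of_subset_of_ncard_le (Set.subset_univ _) ?_ (Set.toFinite _)
    rwa [Set.ncard_univ, Nat.card_eq_fintype_card (α := β), h4, ← Nat.card_coe_set_eq]
  obtain ⟨a, ha⟩ := huniv.symm ▸ Set.mem_univ w
  exact ⟨a, a.2, ha⟩

/-- two points with the same partner lie in one orbit -/
theorem same_of_swap {G : Subgroup (Perm α)} (hh : Hom G 4)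
    (h8 : ∀ Δ : Finset α, Δ.card = 4 → Nat.card (restr G Δ) = 8) {x y v z z' : α} {h : Perm α}
    (hh' : h ∈ G) (hxy : x ≠ y) (hxv : x ≠ v) (hyv : y ≠ v) (hz : z ∉ ({x, y, v} : Finset α))
    (hz' : z' ∉ ({x, y, v} : Finset α)) (h1 : h x = y) (h2 : h y = x) (h3 : h v = v) (h4 : h z = z)
    (h5 : h z' = z') : Same G {x, y, v} z z' := by
  have hT3 : ({x, y, v} : Finset α).card = 3 := Finset.card_eq_three.2 ⟨x, y, v, hxy, hxv, hyv, rfl⟩
  set T : Finset α := {x, y, v} with hT
  have hc : ∀ u, u ∉ T → (insert u T).card = 4 := fun u hu => by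
    rw [Finset.card_insert_of_notMem hu, hT3]
  obtain ⟨g₁, hg₁, e₁⟩ := hh (insert z T) (insert z' T) (hc z hz) (hc z' hz')
  have hz1 : g₁ z ∈ insert z' T := e₁ ▸ Finset.mem_image_of_mem g₁ (Finset.mem_insert_self z T)
  obtain ⟨a, ⟨g₂, hg₂, hga⟩, ha⟩ := eight_trans (by rw [Fintype.card_coe, hc z' hz'])
    (restr G (insert z' T)) (h8 _ (hc z' hz')) ⟨g₁ z, hz1⟩ ⟨z', Finset.mem_insert_self z' T⟩
  set g := g₂ * g₁ with hg
  have hgz : g z = z' := by
    rw [hg, Perm.mul_apply]
    exact (hga ⟨g₁ z, hz1⟩).trans (congrArg Subtype.val ha)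
  have hgG : g ∈ G := mul_mem hg₂ hg₁
  have hgT : ∀ u ∈ T, g u ∈ T := by
    intro u hu
    have h6 : g₁ u ∈ insert z' T := e₁ ▸ Finset.mem_image_of_mem g₁ (Finset.mem_insert_of_mem hu)
    have h7 : g u ∈ insert z' T := by
      rw [hg, Perm.mul_apply, hga ⟨g₁ u, h6⟩]; exact (a ⟨g₁ u, h6⟩).2
    refine (Finset.mem_insert.1 h7).resolve_left fun e => hz ?_
    rwa [g.injective (hgz.trans e.symm)]
  have hmem : ∀ u ∈ T, g u = x ∨ g u = y ∨ g u = v := fun u hu => by
    simpa [hT] using hgT u hu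
  have hxT : x ∈ T := by simp [hT]
  have hyT : y ∈ T := by simp [hT]
  have hvT : v ∈ T := by simp [hT]
  by_cases hgv : g v = v
  · have hfix : ∀ l : Perm α, l ∈ G → l x = x → l y = y → l v = v → l z = z' → Same G T z z' :=
      fun l hl e1 e2 e3 e4 => ⟨l, mem_fix.2 ⟨hl, fun u hu => by
        simp only [hT, Finset.mem_insert, Finset.mem_singleton] at hu
        rcases hu with rfl | rfl | rfl <;> assumption⟩, e4⟩
    rcases hmem x hxT with ex | ex | ex
    · have ey : g y = y := (hmem y hyT).elim (fun e => absurd (g.injective (e.trans ex.symm)) hxy.symm)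
        fun e => e.resolve_right fun e => hyv (g.injective (e.trans hgv.symm))
      exact hfix g hgG ex ey hgv hgz
    · have ey : g y = x := by
        rcases hmem y hyT with e | e | e
        · exact e
        · exact absurd (g.injective (e.trans ex.symm)) hxy.symm
        · exact absurd (g.injective (e.trans hgv.symm)) hyv
      exact hfix (g * h) (mul_mem hgG hh') (by rw [Perm.mul_apply, h1, ey])
        (by rw [Perm.mul_apply, h2, ex]) (by rw [Perm.mul_apply, h3, hgv])
        (by rw [Perm.mul_apply, h4, hgz])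
    · exact absurd (g.injective (ex.trans hgv.symm)) hxv
  · exfalso
    set h' := g * h * g⁻¹ with hh''
    have hconj : ∀ u w, h u = w → h' (g u) = g w := fun u w e => by simp [hh'', e]
    set p := h * h' with hp
    have hpz : p z' = z' := by
      rw [hp, Perm.mul_apply, ← hgz, hconj z z h4, hgz, h5]
    have hpG : p ∈ G := mul_mem hh' (mul_mem (mul_mem hgG hh') (inv_mem hgG))
    -- `p` cycles the three points
    obtain ⟨q, r, hq, hr, hqr, hqv, hrv, hgvq, hcase⟩ : ∃ q r, q ∈ T ∧ r ∈ T ∧ q ≠ r ∧ q ≠ v ∧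
        r ≠ v ∧ g v = q ∧ (∀ u ∈ T, u = q ∨ u = r ∨ u = v) := by
      rcases hmem v hvT with e | e | e
      · exact ⟨x, y, hxT, hyT, hxy, hxv, hyv, e, fun u hu => by simpa [hT] using hu⟩
      · refine ⟨y, x, hyT, hxT, hxy.symm, hyv, hxv, e, fun u hu => ?_⟩
        simp only [hT, Finset.mem_insert, Finset.mem_singleton] at hu
        tauto
      · exact absurd e hgv
    have hhq : h q = r ∧ h r = q := by
      simp only [hT, Finset.mem_insert, Finset.mem_singleton] at hq hr
      rcases hq with rfl | rfl | rfl <;> rcases hr with rfl | rfl | rfl <;>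
        first | exact absurd rfl hqr | exact absurd rfl hqv | exact absurd rfl hrv | exact ⟨h1, h2⟩ | exact ⟨h2, h1⟩
    -- the images of `x` and `y` are the other two points
    have hgx : (g x = r ∧ g y = v) ∨ (g x = v ∧ g y = r) := by
      have hnx : g x ≠ q := fun e => hxv (g.injective (e.trans hgvq.symm))
      have hny : g y ≠ q := fun e => hyv (g.injective (e.trans hgvq.symm))
      have hne : g x ≠ g y := fun e => hxy (g.injective e)
      rcases hcase _ (hgT x hxT) with e | e | e <;> rcases hcase _ (hgT y hyT) with e' | e' | e' <;>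
        first | exact absurd e hnx | exact absurd e' hny | exact absurd (e.trans e'.symm) hne | exact Or.inl ⟨e, e'⟩ | exact Or.inr ⟨e, e'⟩
    have hh'r : h' r = v ∧ h' v = r := by
      rcases hgx with ⟨e, e'⟩ | ⟨e, e'⟩
      · exact ⟨by rw [← e, hconj x y h1, e'], by rw [← e', hconj y x h2, e]⟩
      · exact ⟨by rw [← e', hconj y x h2, e], by rw [← e, hconj x y h1, e']⟩
    have hh'q : h' q = q := by rw [← hgvq, hconj v v h3]
    have pq : p q = r := by rw [hp, Perm.mul_apply, hh'q, hhq.1]
    have pr : p r = v := by rw [hp, Perm.mul_apply, hh'r.1, h3]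
    have pv : p v = q := by rw [hp, Perm.mul_apply, hh'r.2, hhq.2]
    -- its cube fixes the four points, so the induced group has an element of order three
    have hT4 : ∀ u ∈ insert z' T, u = z' ∨ u = q ∨ u = r ∨ u = v := fun u hu => by
      rcases Finset.mem_insert.1 hu with rfl | hu
      · exact Or.inl rfl
      · exact Or.inr (hcase u hu)
    have hpres : ∀ u, p u ∈ insert z' T ↔ u ∈ insert z' T := preserves_of_maps fun u hu => by
      rcases hT4 u hu with rfl | rfl | rfl | rfl
      · rw [hpz]; exact Finset.mem_insert_self _ _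
      · rw [pq]; exact Finset.mem_insert_of_mem hr
      · rw [pr]; exact Finset.mem_insert_of_mem hvT
      · rw [pv]; exact Finset.mem_insert_of_mem hq
    have ho : orderOf (p.subtypePerm hpres) = 3 := by
      refine pow_eq_one_dvd Nat.prime_three (Equiv.ext fun u => Subtype.ext ?_) fun e => hqr ?_
      · simp only [pow_succ, pow_zero, one_mul, Perm.mul_apply]
        show p (p (p (u : α))) = u
        rcases hT4 u u.2 with e | e | e | e <;> rw [e] <;> simp [hpz, pq, pr, pv]
      · have := congrArg Subtype.val (DFunLike.congr_fun e ⟨q, Finset.mem_insert_of_mem hq⟩)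
        exact this.symm.trans pq
    have hmem : p.subtypePerm hpres ∈ restr G (insert z' T) := ⟨p, hpG, fun _ => rfl⟩
    have := Subgroup.orderOf_dvd_natCard _ hmem
    rw [ho, h8 _ (hc z' hz')] at this
    norm_num at this

set_option maxHeartbeats 1000000 in
/-- no involution has three fixed points -/
theorem fx_le_two {G : Subgroup (Perm α)} (hh : Hom G 4)
    (h8 : ∀ Δ : Finset α, Δ.card = 4 → Nat.card (restr G Δ) = 8) {N : ℕ} (hN : N ≤ 6)
    (hpairs : ∀ Γ : Finset α, Γ.card = 5 →
      (Γ.offDiag.filter fun p => Same G ((Γ.erase p.1).erase p.2) p.1 p.2).card = N)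
    {h : Perm α} (hg : h ∈ G) (h2 : h * h = 1) (h1 : h ≠ 1) : (fx h).card ≤ 2 := by
  by_contra hc
  obtain ⟨x, hx⟩ : ∃ x, h x ≠ x := by
    by_contra hne
    push Not at hne
    exact h1 (Equiv.ext hne)
  obtain ⟨F, hF, hFc⟩ := Finset.exists_subset_card_eq (show 3 ≤ (fx h).card by omega)
  obtain ⟨f₁, f₂, f₃, h12, h13, h23, rfl⟩ := Finset.card_eq_three.1 hFc
  have e1 : h f₁ = f₁ := mem_fx.1 (hF (by simp))
  have e2 : h f₂ = f₂ := mem_fx.1 (hF (by simp))
  have e3 : h f₃ = f₃ := mem_fx.1 (hF (by simp))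
  set y := h x with hy
  have hyx : h y = x := apply_involutive h2 x
  have nx : ∀ f, h f = f → x ≠ f := fun f e e' => hx (e' ▸ e :)
  have ny : ∀ f, h f = f → y ≠ f := fun f e e' => hx (by
    have h3 : h y = y := e'.symm ▸ e
    rw [hyx] at h3
    exact h3.symm)
  set Γ : Finset α := {x, y, f₁, f₂, f₃} with hΓ
  have hΓc : Γ.card = 5 := by
    rw [hΓ, Finset.card_insert_of_notMem, Finset.card_insert_of_notMem,
      Finset.card_eq_three.2 ⟨f₁, f₂, f₃, h12, h13, h23, rfl⟩]
    · simp [ny _ e1, ny _ e2, ny _ e3]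
    · simp [Ne.symm hx, nx _ e1, nx _ e2, nx _ e3]
  set P := Γ.offDiag.filter fun p => Same G ((Γ.erase p.1).erase p.2) p.1 p.2 with hP
  have key : ∀ fi fj fk, h fi = fi → h fj = fj → h fk = fk → fi ≠ fj → fi ≠ fk → fj ≠ fk →
      Γ = {x, y, fi, fj, fk} → (fi, fj) ∈ P := by
    intro fi fj fk ei ej ek hij hik hjk hΓ'
    rw [hP, Finset.mem_filter, Finset.mem_offDiag]
    refine ⟨⟨by rw [hΓ']; simp, by rw [hΓ']; simp, hij⟩, ?_⟩
    have he : (Γ.erase fi).erase fj = {x, y, fk} := by
      rw [hΓ']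
      ext u
      simp only [Finset.mem_erase, Finset.mem_insert, Finset.mem_singleton]
      constructor
      · tauto
      · rintro (rfl | rfl | rfl)
        · exact ⟨nx _ ej, nx _ ei, Or.inl rfl⟩
        · exact ⟨ny _ ej, ny _ ei, Or.inr (Or.inl rfl)⟩
        · exact ⟨hjk.symm, hik.symm, by tauto⟩
    rw [he]
    exact same_of_swap hh h8 hg (Ne.symm hx) (nx _ ek) (ny _ ek)
      (by simp [Ne.symm (nx _ ei), Ne.symm (ny _ ei), hik])
      (by simp [Ne.symm (nx _ ej), Ne.symm (ny _ ej), hjk]) rfl hyx ek ei ej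
  have hxy : (x, y) ∈ P := by
    rw [hP, Finset.mem_filter, Finset.mem_offDiag]
    refine ⟨⟨by simp [hΓ], by simp [hΓ], Ne.symm hx⟩, h, mem_fix.2 ⟨hg, fun u hu => ?_⟩, rfl⟩
    simp only [hΓ, Finset.mem_erase, Finset.mem_insert, Finset.mem_singleton] at hu
    obtain ⟨u1, u2, u3 | u3 | u3 | u3 | u3⟩ := hu
    · exact absurd u3 u2
    · exact absurd u3 u1
    · rw [u3, e1]
    · rw [u3, e2]
    · rw [u3, e3]
  have hperm : ∀ fi fj fk, ({fi, fj, fk} : Finset α) = {f₁, f₂, f₃} → Γ = {x, y, fi, fj, fk} :=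
    fun fi fj fk e => by rw [hΓ, ← e]
  have p12 := key f₁ f₂ f₃ e1 e2 e3 h12 h13 h23 rfl
  have p13 := key f₁ f₃ f₂ e1 e3 e2 h13 h12 h23.symm (hperm _ _ _ (by ext u; simp only [Finset.mem_insert, Finset.mem_singleton]; constructor <;> rintro (rfl | rfl | rfl) <;> simp))
  have p23 := key f₂ f₃ f₁ e2 e3 e1 h23 h12.symm h13.symm (hperm _ _ _ (by ext u; simp only [Finset.mem_insert, Finset.mem_singleton]; constructor <;> rintro (rfl | rfl | rfl) <;> simp))
  have p21 := key f₂ f₁ f₃ e2 e1 e3 h12.symm h23 h13 (hperm _ _ _ (by ext u; simp only [Finset.mem_insert, Finset.mem_singleton]; constructor <;> rintro (rfl | rfl | rfl) <;> simp))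
  have p31 := key f₃ f₁ f₂ e3 e1 e2 h13.symm h23.symm h12 (hperm _ _ _ (by ext u; simp only [Finset.mem_insert, Finset.mem_singleton]; constructor <;> rintro (rfl | rfl | rfl) <;> simp))
  have p32 := key f₃ f₂ f₁ e3 e2 e1 h23.symm h13.symm h12.symm (hperm _ _ _ (by ext u; simp only [Finset.mem_insert, Finset.mem_singleton]; constructor <;> rintro (rfl | rfl | rfl) <;> simp))
  have hsub : ({(x, y), (f₁, f₂), (f₁, f₃), (f₂, f₃), (f₂, f₁), (f₃, f₁), (f₃, f₂)} :
      Finset (α × α)) ⊆ P := by
    intro u hu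
    simp only [Finset.mem_insert, Finset.mem_singleton] at hu
    rcases hu with rfl | rfl | rfl | rfl | rfl | rfl | rfl <;> assumption
  have := Finset.card_le_card hsub
  rw [hP, hpairs Γ hΓc] at this
  have h7 : ({(x, y), (f₁, f₂), (f₁, f₃), (f₂, f₃), (f₂, f₁), (f₃, f₁), (f₃, f₂)} :
      Finset (α × α)).card = 7 := by
    simp [nx _ e1, nx _ e2, nx _ e3, h12, h13, h23, Ne.symm h12, Ne.symm h13, Ne.symm h23]
  omega

theorem fx_eq_supp_compl (g : Perm α) : g.supportᶜ = fx g := by ext x; simp [mem_fx]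

theorem dvd_card_supp {g : Perm α} {p : ℕ} (hp : p.Prime) (h : g ^ p = 1) :
    p ∣ g.support.card := by
  haveI : Fact p.Prime := ⟨hp⟩
  have h1 := Equiv.Perm.card_compl_support_modEq (p := p) (n := 1) (σ := g) (by rwa [pow_one])
  rw [Finset.card_compl] at h1
  have h2 := (Nat.modEq_iff_dvd' (Nat.sub_le _ _)).1 h1
  rwa [Nat.sub_sub_self (Finset.card_le_univ g.support)] at h2

/-- the degree twenty-four case -/
theorem no_twentyfour {G : Subgroup (Perm α)} (hn : Fintype.card α = 24) (hk : KT G 3)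
    (hh : Hom G 4) {r N : ℕ} (hd : Data G 5 r 7 N) (hr : r = 3) (hN : N = 6) : False := by
  subst hr hN
  have h8 : ∀ Δ : Finset α, Δ.card = 4 → Nat.card (restr G Δ) = 8 := fun Δ hΔ => by
    have := hd.induced Δ hΔ
    rw [show Nat.factorial (5 - 1) = 24 from rfl] at this
    omega
  have hinv := fun h => fx_le_two hh h8 le_rfl hd.pairs (h := h)
  obtain ⟨T, -, hT⟩ := Finset.exists_subset_card_eq (s := (Finset.univ : Finset α)) (n := 3)
    (by rw [Finset.card_univ]; omega)
  set L := fix G T with hL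
  have hprime : ∀ p : ℕ, p.Prime → p ∣ Nat.card L → p = 7 := by
    intro p hp hpd
    haveI : Fact p.Prime := ⟨hp⟩
    obtain ⟨h, hh'⟩ := exists_prime_orderOf_dvd_card' (G := L) p hpd
    rw [← Subgroup.orderOf_coe] at hh'
    have hp1 : (h : Perm α) ^ p = 1 := hh' ▸ pow_orderOf_eq_one _
    obtain ⟨hG, hfix⟩ := mem_fix.1 h.2
    have hne : (h : Perm α) ≠ 1 := fun e => by
      rw [e, orderOf_one] at hh'; exact hp.ne_one hh'.symm
    obtain ⟨z, hz⟩ : ∃ z, (h : Perm α) z ≠ z := by
      by_contra hc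
      push Not at hc
      exact hne (Equiv.ext hc)
    obtain ⟨v, hv⟩ := Finset.card_pos.1 (show 0 < T.card by omega)
    have hp2 : p ≠ 2 := by
      rintro rfl
      have h1 := hinv _ hG (by rwa [sq] at hp1) hne
      have h2 : T.card ≤ (fx (h : Perm α)).card :=
        Finset.card_le_card fun y hy => mem_fx.2 (hfix y hy)
      omega
    have hp3 : p ≠ 3 := by
      rintro rfl
      exact no_three h8 hG (by rwa [pow_succ, sq] at hp1) hz (hfix v hv)
    -- the orbit of a moved point
    have hzT : z ∉ T := fun hc => hz (hfix z hc)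
    set C := Finset.univ.filter fun y => ∃ i < p, ((h : Perm α) ^ i) z = y with hC
    have hinj : ∀ i < p, ∀ j < p, ((h : Perm α) ^ i) z = ((h : Perm α) ^ j) z → i = j := by
      suffices H : ∀ i j, i ≤ j → j < p → ((h : Perm α) ^ i) z = ((h : Perm α) ^ j) z → i = j by
        intro i hi j hj e
        rcases le_total i j with hij | hij
        · exact H i j hij hj e
        · exact (H j i hij hi e.symm).symm
      intro i j hij hj e
      by_contra hne'
      have e2 : ((h : Perm α) ^ (j - i)) z = z := by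
        apply ((h : Perm α) ^ i).injective
        rw [← Perm.mul_apply, ← pow_add, Nat.add_sub_cancel' hij, ← e]
      obtain ⟨m, hm⟩ := exists_pow_eq_self_of_coprime (x := (h : Perm α)) (n := j - i) (by
        rw [hh']
        exact ((hp.coprime_iff_not_dvd).2 fun hd' => by
          have := Nat.le_of_dvd (by omega) hd'
          omega).symm)
      exact hz (by rw [← hm]; exact pow_apply_fixed e2 m)
    have hCc : C.card = p := by
      have : C = (Finset.range p).image fun i => ((h : Perm α) ^ i) z := by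
        ext y; simp [hC]
      rw [this, Finset.card_image_of_injOn (fun i hi j hj e =>
        hinj i (Finset.mem_range.1 hi) j (Finset.mem_range.1 hj) e), Finset.card_range]
    have hCorb : C ⊆ orb G T z := by
      intro y hy
      obtain ⟨i, -, rfl⟩ := (Finset.mem_filter.1 hy).2
      exact mem_orb.2 ⟨_, pow_mem h.2 i, rfl⟩
    have h7 : p ≤ 7 := by
      rw [← hCc, ← hd.orb_card T hT z hzT]
      exact Finset.card_le_card hCorb
    have h5 : p ≠ 5 := by
      rintro rfl
      -- an invariant five-set, on which the pairs fall into free orbits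
      have hpres : ∀ y ∈ C, (h : Perm α) y ∈ C := by
        intro y hy
        obtain ⟨i, hi, rfl⟩ := (Finset.mem_filter.1 hy).2
        refine Finset.mem_filter.2 ⟨Finset.mem_univ _, (i + 1) % 5, Nat.mod_lt _ (by norm_num), ?_⟩
        rw [← Perm.mul_apply, ← pow_succ']
        conv_rhs => rw [← Nat.mod_add_div (i + 1) 5, pow_add, pow_mul, hp1, one_pow, mul_one]
      have himg : C.image (h : Perm α) = C := Finset.eq_of_subset_of_card_le
        (fun y hy => by obtain ⟨w, hw, rfl⟩ := Finset.mem_image.1 hy; exact hpres w hw)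
        (by rw [Finset.card_image_of_injective _ (h : Perm α).injective])
      set P := C.offDiag.filter fun q => Same G ((C.erase q.1).erase q.2) q.1 q.2 with hP
      have hPc : P.card = 6 := hd.pairs C hCc
      have hPinv : ∀ q ∈ P, ((h : Perm α) q.1, (h : Perm α) q.2) ∈ P := by
        intro q hq
        obtain ⟨hq1, hq2⟩ := Finset.mem_filter.1 hq
        obtain ⟨a1, a2, a3⟩ := Finset.mem_offDiag.1 hq1
        refine Finset.mem_filter.2 ⟨Finset.mem_offDiag.2
          ⟨hpres _ a1, hpres _ a2, (h : Perm α).injective.ne a3⟩, ?_⟩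
        have := same_map hG hq2
        rwa [Finset.image_erase (h : Perm α).injective, Finset.image_erase (h : Perm α).injective,
          himg] at this
      let σ : Perm P := Equiv.ofBijective (fun q => ⟨_, hPinv q.1 q.2⟩)
        ((Finite.injective_iff_bijective).1 fun a b e => Subtype.ext (by
          have := congrArg Subtype.val e
          simp only [Prod.mk.injEq, EmbeddingLike.apply_eq_iff_eq] at this
          exact Prod.ext this.1 this.2))
      have hσ5 : σ ^ 5 = 1 := by
        have happ : ∀ (i : ℕ) (q : P), ((σ ^ i) q : P).1 =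
            (((h : Perm α) ^ i) q.1.1, ((h : Perm α) ^ i) q.1.2) := by
          intro i
          induction i with
          | zero => intro q; rfl
          | succ i ih =>
            intro q
            rw [pow_succ', Perm.mul_apply, pow_succ', Perm.mul_apply, Perm.mul_apply]
            show ((h : Perm α) ((σ ^ i) q : P).1.1, (h : Perm α) ((σ ^ i) q : P).1.2) = _
            rw [ih q]
        refine Equiv.ext fun q => Subtype.ext ?_
        rw [happ 5 q, hp1]
        rfl
      have hfree : fx σ = ∅ := by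
        rw [Finset.eq_empty_iff_forall_notMem]
        intro q hq
        have h1 : (h : Perm α) q.1.1 = q.1.1 :=
          congrArg (fun w : P => w.1.1) (mem_fx.1 hq)
        obtain ⟨i, -, hi⟩ :=
          (Finset.mem_filter.1 (Finset.mem_offDiag.1 (Finset.mem_filter.1 q.2).1).1).2
        refine hz (((h : Perm α) ^ i).injective ?_)
        rw [← hi] at h1
        rw [← Perm.mul_apply, ← pow_succ, pow_succ', Perm.mul_apply]
        exact h1
      have h1 := dvd_card_supp Nat.prime_five hσ5
      rw [show σ.support = Finset.univ by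
        rw [← Finset.compl_eq_empty_iff, fx_eq_supp_compl, hfree], Finset.card_univ,
        Fintype.card_coe, hPc] at h1
      norm_num at h1
    have := hp.two_le
    interval_cases p <;> first | omega | norm_num at hp
  obtain ⟨j, hj⟩ : ∃ j, Nat.card L = 7 ^ j :=
    ⟨_, Nat.eq_prime_pow_of_unique_prime_dvd Nat.card_pos.ne' fun {d} hd' hdd => hprime d hd' hdd⟩
  have hj3 : j ≤ 3 := by
    have h1 : Nat.card L ∣ Nat.card (Perm α) := Subgroup.card_subgroup_dvd_card L
    rw [hj, Nat.card_perm, Nat.card_eq_fintype_card, hn] at h1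
    by_contra hlt
    have h2 : (7 : ℕ) ^ 4 ∣ Nat.factorial 24 := (pow_dvd_pow 7 (by omega)).trans h1
    revert h2
    decide
  have hj1 : 7 ∣ Nat.card L := by
    obtain ⟨z, hz⟩ := Finset.card_pos.1 (show 0 < Tᶜ.card by rw [Finset.card_compl, hT]; omega)
    exact ⟨_, by rw [← card_orb_mul T z, hd.orb_card T hT z (Finset.mem_compl.1 hz)]⟩
  haveI : Fact (Nat.Prime 7) := ⟨by norm_num⟩
  obtain ⟨h, hh7⟩ := exists_prime_orderOf_dvd_card' (G := L) 7 hj1
  rw [← Subgroup.orderOf_coe] at hh7
  obtain ⟨a, b, c, hab, hac, hbc, hTe⟩ := Finset.card_eq_three.1 hT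
  have hT2 : ({a, b} : Finset α).card = 2 := Finset.card_pair hab
  have hk2 : KT G 2 := fun S hS => hk S (by omega)
  set M := fix G {a, b} with hM
  have hMc : Nat.card M = 22 * 7 ^ j := by
    have h1 := card_group hk2 hT2
    have h2 := card_group hk hT
    rw [h1, hn, ← hL, ← hM] at h2
    rw [show Nat.descFactorial 24 2 = 552 from rfl, show Nat.descFactorial 24 3 = 12144 from rfl] at h2
    rw [← hj]
    omega
  haveI : Fact (Nat.Prime 11) := ⟨by norm_num⟩
  obtain ⟨y, hy⟩ := exists_prime_orderOf_dvd_card' (G := M) 11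
    (by rw [hMc]; exact dvd_mul_of_dvd_left (by norm_num) _)
  obtain ⟨P, hP⟩ := (IsPGroup.of_card (n := 1) (by rw [Nat.card_zpowers, hy, pow_one]) :
    IsPGroup 11 (Subgroup.zpowers y)).exists_le_sylow
  have h7 : ¬ 11 ∣ 2 * 7 ^ j := fun h' => by
    rcases (Nat.Prime.dvd_mul (by norm_num)).1 h' with h' | h'
    · norm_num at h'
    · have := Nat.Prime.dvd_of_dvd_pow (by norm_num) h'
      norm_num at this
  have hPc : Nat.card (P : Subgroup M) = 11 := by
    rw [P.card_eq_multiplicity, hMc, show 22 * 7 ^ j = 11 * (2 * 7 ^ j) by ring,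
      Nat.factorization_mul (by norm_num) (by positivity), Finsupp.add_apply,
      Nat.Prime.factorization_self (by norm_num), Nat.factorization_eq_zero_of_not_dvd h7]
    norm_num
  have hPy : (P : Subgroup M) = Subgroup.zpowers y :=
    (Subgroup.eq_of_le_of_card_ge hP (by rw [hPc, Nat.card_zpowers, hy])).symm
  have hn1 : Nat.card (Sylow 11 M) = 1 := by
    have hmod : Nat.card (Sylow 11 M) % 11 = 1 := card_sylow_modEq_one 11 M
    have hdvd : Nat.card (Sylow 11 M) ∣ 2 * 7 ^ j := by
      have h1 := P.card_dvd_index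
      have h2 := (P : Subgroup M).index_mul_card
      rw [hPc, hMc] at h2
      rwa [show (P : Subgroup M).index = 2 * 7 ^ j by omega] at h1
    have h3 : ∀ j ≤ 3, ∀ i ≤ 686, i ∣ 2 * 7 ^ j → i % 11 = 1 → i = 1 := by decide +kernel
    exact h3 j hj3 _ ((Nat.le_of_dvd (by positivity) hdvd).trans (by
      calc 2 * 7 ^ j ≤ 2 * 7 ^ 3 := Nat.mul_le_mul_left 2 (Nat.pow_le_pow_right (by norm_num) hj3)
        _ = 686 := by norm_num)) hdvd hmod
  haveI hnorm : (P : Subgroup M).Normal := by
    haveI : Subsingleton (Sylow 11 M) := (Nat.card_eq_one_iff_unique.1 hn1).1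
    exact P.normal_of_subsingleton
  rw [hPy] at hnorm
  set y' : Perm α := (y : Perm α) with hy'
  have hy11 : y' ^ 11 = 1 := by
    rw [hy', ← Subgroup.coe_pow, ← hy, pow_orderOf_eq_one]; rfl
  have hy1 : y' ≠ 1 := fun e => by
    rw [show y = 1 from Subtype.ext e, orderOf_one] at hy
    norm_num at hy
  -- `y` moves everything outside `{a, b}`
  have hymov : ∀ z, y' z = z → z = a ∨ z = b := by
    intro z hz
    by_contra hzab
    push Not at hzab
    refine hy1 (Equiv.ext fun w => ?_)
    by_cases hw : w = a ∨ w = b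
    · exact (mem_fix.1 y.2).2 w (by simpa using hw)
    push Not at hw
    obtain ⟨σ, hσ⟩ : ∃ σ : Perm α, σ a = a ∧ σ b = b ∧ σ z = w :=
      ⟨Equiv.swap z w, Equiv.swap_apply_of_ne_of_ne (Ne.symm hzab.1) (Ne.symm hw.1),
        Equiv.swap_apply_of_ne_of_ne (Ne.symm hzab.2) (Ne.symm hw.2), Equiv.swap_apply_left z w⟩
    obtain ⟨g, hg, hgx⟩ := hk {a, b, z} Finset.card_le_three σ
    have hgM : g ∈ M := mem_fix.2 ⟨hg, fun u hu => by
      simp only [Finset.mem_insert, Finset.mem_singleton] at hu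
      rcases hu with rfl | rfl
      · rw [hgx _ (by simp), hσ.1]
      · rw [hgx _ (by simp), hσ.2.1]⟩
    have hgz : g z = w := by rw [hgx z (by simp), hσ.2.2]
    obtain ⟨i, hi⟩ := Subgroup.mem_zpowers_iff.1
      (hnorm.conj_mem y (Subgroup.mem_zpowers y) (⟨g, hgM⟩ : M)⁻¹)
    have h1 : g⁻¹ * y' * g = y' ^ i := by
      have := congrArg Subtype.val hi.symm
      simpa [hy'] using this
    have h2 : (g⁻¹ * y' * g) z = z := by
      rw [h1]; exact Perm.zpow_apply_eq_self_of_apply_eq_self hz i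
    rw [Perm.mul_apply, Perm.mul_apply, Perm.inv_eq_iff_eq, hgz] at h2
    simpa using h2
  -- an element of order seven centralizes `y`
  obtain ⟨hhG, hhfix⟩ := mem_fix.1 h.2
  have hha : (h : Perm α) a = a := hhfix a (by simp [hTe])
  have hhb : (h : Perm α) b = b := hhfix b (by simp [hTe])
  have hhc : (h : Perm α) c = c := hhfix c (by simp [hTe])
  have hhM : (h : Perm α) ∈ M := mem_fix.2 ⟨hhG, fun u hu => by
    simp only [Finset.mem_insert, Finset.mem_singleton] at hu
    rcases hu with rfl | rfl <;> assumption⟩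
  obtain ⟨i, hi⟩ := (isOfFinOrder_of_finite _).mem_powers_iff_mem_zpowers.2
    (hnorm.conj_mem y (Subgroup.mem_zpowers y) (⟨h, hhM⟩ : M))
  have hconj : (h : Perm α) * y' * (h : Perm α)⁻¹ = y' ^ i := by
    have := congrArg Subtype.val hi.symm
    simpa [hy'] using this
  have hiter : ∀ t : ℕ, (h : Perm α) ^ t * y' * ((h : Perm α) ^ t)⁻¹ = y' ^ i ^ t := by
    intro t
    induction t with
    | zero => simp
    | succ t ih =>
      calc (h : Perm α) ^ (t + 1) * y' * ((h : Perm α) ^ (t + 1))⁻¹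
          = (h : Perm α) * ((h : Perm α) ^ t * y' * ((h : Perm α) ^ t)⁻¹) * (h : Perm α)⁻¹ := by
            rw [pow_succ']; group
        _ = ((h : Perm α) * y' * (h : Perm α)⁻¹) ^ i ^ t := by rw [ih, conj_pow]
        _ = y' ^ i ^ (t + 1) := by rw [hconj, ← pow_mul, ← pow_succ']
  have hoy : orderOf y' = 11 := orderOf_eq_prime hy11 hy1
  have hh7' : (h : Perm α) ^ 7 = 1 := hh7 ▸ pow_orderOf_eq_one _
  have hcomm : (h : Perm α) * y' = y' * h := by
    have h2 := hiter 7
    rw [hh7', inv_one, one_mul, mul_one] at h2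
    have h3 : y' ^ 1 = y' ^ i ^ 7 := by rw [pow_one]; exact h2
    rw [pow_eq_pow_iff_modEq, hoy] at h3
    have h5 : ∀ r < 11, r ^ 7 % 11 = 1 → r = 1 := by decide
    have h6 := h5 (i % 11) (Nat.mod_lt _ (by norm_num)) (by rw [← Nat.pow_mod]; exact h3.symm)
    have h4 : y' ^ i = y' := by rw [← pow_mod_orderOf, hoy, h6, pow_one]
    rw [← mul_inv_eq_iff_eq_mul, hconj, h4]
  -- count
  have hsupp : 7 ∣ (h : Perm α).support.card := dvd_card_supp (by norm_num) hh7'
  have hblock : ∀ S : Finset α, (∀ u, y' u ∈ S ↔ u ∈ S) → a ∉ S → b ∉ S → 11 ∣ S.card := by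
    intro S hS haS hbS
    have h1 := dvd_card_supp (g := y'.subtypePerm hS) (p := 11) (by norm_num)
      (Equiv.ext fun u => Subtype.ext (by
        rw [Perm.subtypePerm_pow]
        show (y' ^ 11) (u : α) = u
        rw [hy11]; rfl))
    rwa [show (y'.subtypePerm hS).support = Finset.univ by
      refine Finset.eq_univ_of_forall fun u => Perm.mem_support.2 fun e => ?_
      rcases hymov u (congrArg Subtype.val e) with h | h
      · exact haS (h ▸ u.2)
      · exact hbS (h ▸ u.2), Finset.card_univ, Fintype.card_coe] at h1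
  have hiff : ∀ u, (h : Perm α) (y' u) = y' u ↔ (h : Perm α) u = u := fun u => by
    rw [← Perm.mul_apply, hcomm, Perm.mul_apply]
    exact y'.injective.eq_iff
  have hya : y' a = a := (mem_fix.1 y.2).2 a (by simp)
  have hyb : y' b = b := (mem_fix.1 y.2).2 b (by simp)
  have d1 := hblock (h : Perm α).support (fun u => by
    simp only [Perm.mem_support, ne_eq, hiff]) (by simp [hha]) (by simp [hhb])
  have d2 := hblock (((fx (h : Perm α)).erase a).erase b) (fun u => by
    have ha' : y' u = a ↔ u = a := ⟨fun e => y'.injective (e.trans hya.symm), fun e => e ▸ hya⟩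
    have hb' : y' u = b ↔ u = b := ⟨fun e => y'.injective (e.trans hyb.symm), fun e => e ▸ hyb⟩
    simp only [Finset.mem_erase, ne_eq, mem_fx, hiff, ha', hb']) (by simp) (by simp)
  have hc : c ∈ ((fx (h : Perm α)).erase a).erase b :=
    Finset.mem_erase.2 ⟨hbc.symm, Finset.mem_erase.2 ⟨hac.symm, mem_fx.2 hhc⟩⟩
  have d3 := Nat.le_of_dvd (Finset.card_pos.2 ⟨c, hc⟩) d2
  rw [Finset.card_erase_of_mem (Finset.mem_erase.2 ⟨hab.symm, mem_fx.2 hhb⟩),
    Finset.card_erase_of_mem (mem_fx.2 hha)] at d3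
  rw [← fx_eq_supp_compl, Finset.card_compl, hn] at d3
  have hpos : 0 < (h : Perm α).support.card := by
    rw [Finset.card_pos, Finset.nonempty_iff_ne_empty, Ne, Perm.support_eq_empty_iff]
    intro e
    rw [e, orderOf_one] at hh7
    norm_num at hh7
  omega

theorem Data.bounds {G : Subgroup (Perm α)} {k r s N : ℕ} (hd : Data G k r s N) (hk : 3 ≤ k)
    (hkn : k ≤ Fintype.card α) : 0 < s ∧ s ≤ k * (k - 1) := by
  have hm := hd.mul
  have hs : 0 < s := by
    rcases Nat.eq_zero_or_pos s with rfl | h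
    · rw [mul_zero] at hm; omega
    · exact h
  refine ⟨hs, ?_⟩
  by_contra hc
  push Not at hc
  have he := hd.eq
  have hr := hd.two_le
  have hle := hd.le
  obtain ⟨t, rfl⟩ : ∃ t, r = t + 1 := ⟨r - 1, by omega⟩
  obtain ⟨u, rfl⟩ : ∃ u, s = u + 1 := ⟨s - 1, by omega⟩
  rw [Nat.add_sub_cancel] at he
  have h3 : (t + 1) * (u + 1) - 1 = t * (u + 1) + u := by
    rw [add_mul, one_mul]; omega
  rw [h3] at he
  rcases Nat.lt_or_ge N (k * (k - 1)) with hlt | hge
  · rcases Nat.eq_zero_or_pos N with rfl | hN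
    · rw [zero_mul] at he
      have : 0 < k * (k - 1) * u := Nat.mul_pos (Nat.mul_pos (by omega) (by omega)) (by omega)
      omega
    · -- compare `N·t·(u+1)` with `(k(k-1) - N)·u`
      obtain ⟨e, he'⟩ : ∃ e, k * (k - 1) = N + e ∧ 0 < e := ⟨k * (k - 1) - N, by omega, by omega⟩
      rw [he'.1] at he
      have h5 : e * (u + 1) = N * (t * (u + 1)) + e := by
        rw [mul_add, mul_one]; rw [mul_add, add_mul] at he; omega
      have h6 : u + 1 ∣ e :=
        (Nat.dvd_add_right (Dvd.intro_left (N * t) (mul_assoc _ _ _))).1 (h5 ▸ Dvd.intro_left e rfl)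
      have := Nat.le_of_dvd he'.2 h6
      omega
  · have hN : N = k * (k - 1) := le_antisymm hle hge
    rw [hN] at he
    have h4 : t * (u + 1) + u = u := Nat.eq_of_mul_eq_mul_left (Nat.mul_pos (by omega) (by omega)) he
    have : 0 < t * (u + 1) := Nat.mul_pos (by omega) (by omega)
    omega

theorem Data.trivial_of_one {G : Subgroup (Perm α)} {k r N : ℕ} (hd : Data G k r 1 N)
    (hk : KT G (k - 2)) (hkn : k ≤ Fintype.card α) (hk3 : 3 ≤ k) :
    Nat.card G = (Fintype.card α).descFactorial (k - 2) := by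
  obtain ⟨T, -, hT⟩ := Finset.exists_subset_card_eq (s := (Finset.univ : Finset α)) (n := k - 2)
    (by rw [Finset.card_univ]; omega)
  rw [card_group hk hT]
  conv_rhs => rw [← mul_one ((Fintype.card α).descFactorial (k - 2))]
  congr 1
  rw [Subgroup.card_eq_one, Subgroup.eq_bot_iff_forall]
  intro g hg
  refine Equiv.ext fun z => ?_
  by_cases hz : z ∈ T
  · exact (mem_fix.1 hg).2 z hz
  · obtain ⟨w, hw⟩ := Finset.card_eq_one.1 (hd.orb_card T hT z hz)
    have h1 : g z ∈ orb G T z := mem_orb.2 ⟨g, hg, rfl⟩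
    have h2 : z ∈ orb G T z := mem_orb.2 ⟨1, one_mem _, rfl⟩
    rw [hw, Finset.mem_singleton] at h1 h2
    rw [h1]; exact h2.symm

theorem not_alt_le {G : Subgroup (Perm α)} {j : ℕ} (hnk : ¬ KT G j)
    (hjn : j + 2 ≤ Fintype.card α) : ¬ alternatingGroup α ≤ G := by
  intro hA
  refine hnk fun S hS σ => ?_
  rcases Int.units_eq_one_or (Perm.sign σ) with h | h
  · exact ⟨σ, hA (Perm.mem_alternatingGroup.2 h), fun _ _ => rfl⟩
  · obtain ⟨u, hu, w, hw, huw⟩ := Finset.one_lt_card.1 (show 1 < Sᶜ.card by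
      rw [Finset.card_compl]; omega)
    rw [Finset.mem_compl] at hu hw
    refine ⟨σ * Equiv.swap u w, hA (Perm.mem_alternatingGroup.2 (by
      rw [map_mul, h, Perm.sign_swap huw]; decide)), fun z hz => ?_⟩
    rw [Perm.mul_apply, Equiv.swap_apply_of_ne_of_ne (fun e : z = u => hu (e ▸ hz))
      (fun e : z = w => hw (e ▸ hz))]

/-- the degree nine case with two orbits -/
theorem nine_two {G : Subgroup (Perm α)} (hn : Fintype.card α = 9) (hk : KT G 3)
    (hnk : ¬ KT G 4) {N : ℕ} (hd : Data G 5 2 3 N) : Nat.card G = 1512 := by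
  have h12 : ∀ Δ : Finset α, Δ.card = 4 → Nat.card (restr G Δ) = 12 := fun Δ hΔ => by
    have := hd.induced Δ hΔ
    rw [show Nat.factorial (5 - 1) = 24 from rfl] at this
    omega
  have heven : EvenSets G 4 := by
    intro g hg Δ hΔ σ hσ hag
    have h1 : ∀ x ∈ Δ, g x ∈ Δ := fun x hx => by
      rw [hag x hx]
      by_cases h : σ x = x
      · rwa [h]
      · exact hσ (Perm.mem_support.2 fun e => h (σ.injective e))
    have hiff := preserves_of_maps h1
    have hσiff : ∀ x, σ x ∈ Δ ↔ x ∈ Δ := preserves_of_maps fun x hx => hag x hx ▸ h1 x hx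
    have hmem : g.subtypePerm hiff ∈ restr G Δ := ⟨g, hg, fun _ => rfl⟩
    have hc4 : Fintype.card Δ = 4 := by rw [Fintype.card_coe, hΔ]
    haveI : Nontrivial Δ := Fintype.one_lt_card_iff_nontrivial.1 (by omega)
    have halt : restr G Δ = alternatingGroup Δ := by
      have hA : 2 * Nat.card (alternatingGroup Δ) = Nat.card (Perm Δ) :=
        two_mul_nat_card_alternatingGroup
      rw [Nat.card_perm, Nat.card_eq_fintype_card (α := Δ), hc4,
        show Nat.factorial 4 = 24 from rfl] at hA
      refine (Subgroup.eq_of_le_of_card_ge (Perm.alternatingGroup_le_of_index_le_two ?_) ?_).symm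
      · have h2 := Subgroup.card_mul_index (restr G Δ)
        rw [h12 Δ hΔ, Nat.card_perm, Nat.card_eq_fintype_card (α := Δ), hc4,
          show Nat.factorial 4 = 24 from rfl] at h2
        omega
      · rw [h12 Δ hΔ]; omega
    rw [halt, Perm.mem_alternatingGroup] at hmem
    have heq : g.subtypePerm hiff = σ.subtypePerm hσiff :=
      Equiv.ext fun x => Subtype.ext (hag x x.2)
    rw [heq] at hmem
    rw [← Perm.sign_subtypePerm σ hσiff fun x hx => hσ (Perm.mem_support.2 hx)]
    convert hmem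
  have hk2 : KT G 2 := fun S hS => hk S (by omega)
  obtain ⟨T, -, hT⟩ := Finset.exists_subset_card_eq (s := (Finset.univ : Finset α)) (n := 4)
    (by rw [Finset.card_univ]; omega)
  have htriv : ∀ g ∈ G, ∀ p : ℕ, p.Prime → orderOf g = p → (fx g).card < 4 := by
    intro g hg p hp ho
    have hg1 : g ≠ 1 := fun e => by rw [e, orderOf_one] at ho; exact hp.ne_one ho.symm
    have hpow : g ^ p = 1 := ho ▸ pow_orderOf_eq_one g
    by_contra hc
    push Not at hc
    have hdvd := dvd_card_supp hp hpow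
    have hs : g.support.card ≤ 5 := by
      have h1 := Finset.card_compl g.support
      rw [fx_eq_supp_compl, hn] at h1
      omega
    have hs2 : 2 ≤ g.support.card := Perm.two_le_card_support_of_ne_one hg1
    rcases hp.eq_two_or_odd with rfl | hodd
    · have := involution_contra heven (by norm_num) hg (by rwa [sq] at hpow) hg1
      omega
    · have := Nat.le_of_dvd (by omega) hdvd
      have hprim := MulAction.isPreprimitive_of_is_two_pretransitive
        (isMultiplyPretransitive_of_kt hk2)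
      refine not_alt_le hnk (by omega) ?_
      have := hp.two_le
      rcases (show p = 3 ∨ p = 5 by omega) with rfl | rfl
      · have h3 : g.support.card = 3 := by omega
        exact Perm.alternatingGroup_le_of_isPreprimitive_of_isThreeCycle_mem hprim
          (card_support_eq_three_iff.1 h3) hg
      · -- a five-cycle with four fixed points
        have h5 : g.support.card = 5 := by omega
        exact CfsgLib.Perm.alternatingGroup_le_of_isCycle_prime hprim Nat.prime_five
          (by rw [Nat.card_eq_fintype_card, hn]; norm_num)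
          (Perm.isCycle_of_prime_order (ho ▸ Nat.prime_five) (by omega)) h5 hg
  have hone : Nat.card (fix G T) = 1 := by
    rw [Subgroup.card_eq_one, Subgroup.eq_bot_iff_forall]
    intro g hg
    by_contra hg1
    obtain ⟨p, hp, hpd⟩ := Nat.exists_prime_and_dvd (fun e => hg1 (orderOf_eq_one_iff.1 e))
    have h2 := htriv (g ^ (orderOf g / p)) (pow_mem (mem_fix.1 hg).1 _) p hp
      (orderOf_pow_orderOf_div (orderOf_pos g).ne' hpd)
    have h3 : T.card ≤ (fx (g ^ (orderOf g / p))).card :=
      Finset.card_le_card fun y hy => mem_fx.2 (pow_apply_fixed ((mem_fix.1 hg).2 y hy) _)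
    omega
  rw [hd.order T hT, hone, hn]
  norm_num [Nat.descFactorial]

end CfsgLib.LW
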